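import Groth.Agent.ConormalLib.Ring
import Groth.Prelude.Def_Omega3

/-!
# Existence of universal first order thickenings of formally unramified algebras
-/

set_option autoImplicit false
set_option linter.style.haveILetI false

universe u

open TensorProduct MvPolynomial

namespace Groth.Agent.ConormalLib

/-- A formally unramified algebra has a universal first order thickening. -/
theorem exists_isUnivThickeningRing (R S : Type u) [CommRing R] [CommRing S] [Algebra R S]
    [Algebra.FormallyUnramified R S] :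
    ∃ (S' : Type u) (_ : CommRing S') (_ : Algebra R S') (π : S' →ₐ[R] S), OmegaSh.IsUnivThickeningRing R S S' π := by
  let P := MvPolynomial S R
  let φP : P →ₐ[R] S := aeval (id : S → S)
  have hφP : Function.Surjective φP := fun s => ⟨X s, aeval_X _ _⟩
  letI : Algebra P S := φP.toRingHom.toAlgebra
  haveI : IsScalarTower R P S := .of_algebraMap_eq fun r => (φP.commutes r).symm
  let I := RingHom.ker φP.toRingHom
  -- the correction terms
  have hω : ∀ s : S, ∃ ω ∈ I, KaehlerDifferential.D R P (X s) - KaehlerDifferential.D R P ω ∈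
      (I • ⊤ : Submodule P Ω[P⁄R]) := by
    intro s
    have hex := KaehlerDifferential.exact_kerCotangentToTensor_mapBaseChange R P S hφP
    obtain ⟨y, hy⟩ := (hex ((1 : S) ⊗ₜ[P] KaehlerDifferential.D R P (X s))).mp (Subsingleton.elim _ _)
    obtain ⟨⟨ω, hω⟩, rfl⟩ := Ideal.toCotangent_surjective _ y
    refine ⟨ω, hω, ((surjective_and_eq_zero_iff (A := P) (B := S) hφP (TensorProduct.isBaseChange P Ω[P⁄R] S)).2 _).mp ?_⟩
    rw [KaehlerDifferential.kerCotangentToTensor_toCotangent] at hy
    simp only [TensorProduct.mk_apply, TensorProduct.tmul_sub]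
    rw [← hy, sub_self]
  choose ω hωI hωD using hω
  let J : Ideal P := I * I ⊔ Ideal.span (Set.range ω)
  have hJI : J ≤ I := sup_le Ideal.mul_le_left (Ideal.span_le.mpr (by rintro _ ⟨s, rfl⟩; exact hωI s))
  let π : P ⧸ J →ₐ[R] S := Ideal.Quotient.liftₐ J φP fun a ha => hJI ha
  have hπ : Function.Surjective π := fun s => ⟨Ideal.Quotient.mk J (X s), aeval_X _ _⟩
  refine ⟨P ⧸ J, inferInstance, inferInstance, π, hπ, ?_, fun A _ _ K hK a => ?_⟩
  · rw [pow_two, eq_bot_iff]
    refine Submodule.mul_le.mpr fun x hx y hy => ?_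
    obtain ⟨p, rfl⟩ := Ideal.Quotient.mk_surjective x
    obtain ⟨q, rfl⟩ := Ideal.Quotient.mk_surjective y
    rw [Submodule.mem_bot, ← map_mul, Ideal.Quotient.eq_zero_iff_mem]
    exact Ideal.mem_sup_left (Ideal.mul_mem_mul hx hy)
  · have hKK : ∀ x ∈ K, ∀ y ∈ K, x * y = 0 := fun x hx y hy => by
      have : x * y ∈ K * K := Ideal.mul_mem_mul hx hy
      rwa [← pow_two, hK, Ideal.mem_bot] at this
    choose ℓ hℓ using fun s => Ideal.Quotient.mk_surjective (a s)
    let φ₀ : P →ₐ[R] A := aeval ℓ
    have hφ₀ : ∀ p, Ideal.Quotient.mk K (φ₀ p) = a (φP p) := fun p => by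
      have : (Ideal.Quotient.mkₐ R K).comp φ₀ = a.comp φP := MvPolynomial.algHom_ext fun s => by
        show Ideal.Quotient.mk K (aeval ℓ (X s)) = a (aeval id (X s))
        rw [aeval_X, aeval_X, hℓ]; rfl
      exact AlgHom.congr_fun this p
    have hφ₀I : ∀ p ∈ I, φ₀ p ∈ K := fun p hp => by
      rw [← Ideal.Quotient.eq_zero_iff_mem, hφ₀, show φP p = 0 from hp, map_zero]
    -- two lifts differ by a derivation, whose value at `ω s` is its value at `X s`
    have key : ∀ φ : P →ₐ[R] A, (∀ p, Ideal.Quotient.mk K (φ p) = a (φP p)) →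
        ∀ s, φ (ω s) - φ₀ (ω s) = φ (X s) - φ₀ (X s) := by
      intro φ hφ s
      letI : Algebra P A := φ₀.toRingHom.toAlgebra
      haveI : IsScalarTower R P A := .of_algebraMap_eq fun r => (φ₀.commutes r).symm
      have hd : ∀ p, φ p - φ₀ p ∈ K := fun p => by
        rw [← Ideal.Quotient.eq_zero_iff_mem, map_sub, hφ, hφ₀, sub_self]
      let δ : Derivation R P A := Derivation.mk'
        { toFun := fun p => φ p - φ₀ p
          map_add' := fun p q => by rw [map_add, map_add]; abel
          map_smul' := fun r p => by rw [map_smul, map_smul, RingHom.id_apply, smul_sub] }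
        fun p q => by
          show φ (p * q) - φ₀ (p * q) = φ₀ p * (φ q - φ₀ q) + φ₀ q * (φ p - φ₀ p)
          rw [map_mul, map_mul]
          linear_combination hKK _ (hd p) _ (hd q)
      let L := δ.liftKaehlerDifferential
      have hL : ∀ w, L w ∈ K := fun w => by
        have hw : w ∈ Submodule.span P (Set.range (KaehlerDifferential.D R P)) := by
          rw [KaehlerDifferential.span_range_derivation]; trivial
        induction hw using Submodule.span_induction with
        | mem y hy => obtain ⟨p, rfl⟩ := hy; rw [Derivation.liftKaehlerDifferential_comp_D]; exact hd p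
        | zero => rw [map_zero]; exact zero_mem _
        | add y z _ _ hy hz => rw [map_add]; exact add_mem hy hz
        | smul c y _ hy => rw [map_smul]; exact K.mul_mem_left _ hy
      have h0 : L (KaehlerDifferential.D R P (X s) - KaehlerDifferential.D R P (ω s)) = 0 := by
        refine Submodule.smul_induction_on (hωD s) (fun c hc w _ => ?_) (fun y z hy hz => by rw [map_add, hy, hz, add_zero])
        rw [map_smul]
        exact hKK _ (hφ₀I c hc) _ (hL w)
      rw [map_sub, Derivation.liftKaehlerDifferential_comp_D, Derivation.liftKaehlerDifferential_comp_D, sub_eq_zero] at h0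
      exact h0.symm
    let φ : P →ₐ[R] A := aeval fun s => ℓ s - φ₀ (ω s)
    have hφ : ∀ p, Ideal.Quotient.mk K (φ p) = a (φP p) := fun p => by
      have : (Ideal.Quotient.mkₐ R K).comp φ = a.comp φP := MvPolynomial.algHom_ext fun s => by
        show Ideal.Quotient.mk K (aeval _ (X s)) = a (aeval id (X s))
        rw [aeval_X, aeval_X, map_sub, hℓ, Ideal.Quotient.eq_zero_iff_mem.mpr (hφ₀I _ (hωI s)), sub_zero]; rfl
      exact AlgHom.congr_fun this p
    have hφI : ∀ p ∈ I, φ p ∈ K := fun p hp => by
      rw [← Ideal.Quotient.eq_zero_iff_mem, hφ, show φP p = 0 from hp, map_zero]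
    have hφJ : J ≤ RingHom.ker φ.toRingHom := by
      refine sup_le (Submodule.mul_le.mpr fun p hp q hq => ?_) (Ideal.span_le.mpr ?_)
      · show φ (p * q) = 0
        rw [map_mul]; exact hKK _ (hφI p hp) _ (hφI q hq)
      · rintro _ ⟨s, rfl⟩
        show φ (ω s) = 0
        have h := key φ hφ s
        rw [show φ (X s) = ℓ s - φ₀ (ω s) from aeval_X _ _, show φ₀ (X s) = ℓ s from aeval_X _ _] at h
        linear_combination h
    refine ⟨Ideal.Quotient.liftₐ J φ fun p hp => hφJ hp, AlgHom.ext fun x => ?_, fun g hg => ?_⟩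
    · obtain ⟨p, rfl⟩ := Ideal.Quotient.mk_surjective x
      exact hφ p
    · refine Ideal.Quotient.algHom_ext _ (MvPolynomial.algHom_ext fun s => ?_)
      let g' : P →ₐ[R] A := g.comp (Ideal.Quotient.mkₐ R J)
      have hg' : ∀ p, Ideal.Quotient.mk K (g' p) = a (φP p) := fun p => AlgHom.congr_fun hg (Ideal.Quotient.mk J p)
      have h := key g' hg' s
      rw [show g' (ω s) = 0 from (congrArg g (Ideal.Quotient.eq_zero_iff_mem.mpr
        (Ideal.mem_sup_right (Ideal.subset_span ⟨s, rfl⟩)))).trans (map_zero g),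
        show φ₀ (X s) = ℓ s from aeval_X _ _] at h
      show g' (X s) = φ (X s)
      rw [show φ (X s) = ℓ s - φ₀ (ω s) from aeval_X _ _]
      linear_combination -h

/-- A universal thickening localizes on the base. -/
theorem isUnivThickeningRing_localization_base (A B B' : Type u) [CommRing A] [CommRing B]
    [CommRing B'] [Algebra A B] [Algebra A B'] (π : B' →ₐ[A] B)
    (hπ : OmegaSh.IsUnivThickeningRing A B B' π) (S : Submonoid A)
    (AS BS B'S : Type u) [CommRing AS] [CommRing BS] [CommRing B'S]
    [Algebra A AS] [IsLocalization S AS]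
    [Algebra B BS] [IsLocalization (Algebra.algebraMapSubmonoid B S) BS]
    [Algebra B' B'S] [IsLocalization (Algebra.algebraMapSubmonoid B' S) B'S]
    [Algebra AS BS] [Algebra A BS] [IsScalarTower A AS BS] [IsScalarTower A B BS]
    [Algebra AS B'S] [Algebra A B'S] [IsScalarTower A AS B'S] [IsScalarTower A B' B'S]
    (πS : B'S →ₐ[AS] BS) (hπS : ∀ x : B', πS (algebraMap B' B'S x) = algebraMap B BS (π x)) :
    OmegaSh.IsUnivThickeningRing AS BS B'S πS := by
  let MB := Algebra.algebraMapSubmonoid B S
  let MB' := Algebra.algebraMapSubmonoid B' S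
  have hunit : ∀ {T : Type u} [CommRing T] [Algebra A T] [Algebra AS T] [IsScalarTower A AS T] (s : A), s ∈ S →
      IsUnit (algebraMap A T s) := fun {T} _ _ _ _ s hs => by
    rw [IsScalarTower.algebraMap_apply A AS T]
    exact (IsLocalization.map_units AS ⟨s, hs⟩).map _
  refine ⟨?_, ?_, fun T _ _ K hK a => ?_⟩
  · intro y
    obtain ⟨b, ⟨_, s, hs, rfl⟩, rfl⟩ := IsLocalization.exists_mk'_eq MB y
    obtain ⟨b', rfl⟩ := hπ.1 b
    refine ⟨IsLocalization.mk' B'S b' (⟨algebraMap A B' s, s, hs, rfl⟩ : MB'), ?_⟩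
    refine (IsLocalization.eq_mk'_iff_mul_eq (M := MB) (S := BS)).mpr ?_
    rw [show algebraMap B BS (algebraMap A B s) = πS (algebraMap B' B'S (algebraMap A B' s)) by
      rw [hπS, π.commutes], ← hπS, ← map_mul]
    exact congrArg πS (IsLocalization.mk'_spec B'S b' _)
  · have hker : RingHom.ker πS.toRingHom ≤ (RingHom.ker π.toRingHom).map (algebraMap B' B'S) := by
      intro x hx
      obtain ⟨b', ⟨_, s, hs, rfl⟩, rfl⟩ := IsLocalization.exists_mk'_eq MB' x
      have h0 : algebraMap B BS (π b') = 0 := by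
        rw [← hπS, ← IsLocalization.mk'_spec B'S b' (⟨algebraMap A B' s, s, hs, rfl⟩ : MB'), map_mul]
        exact mul_eq_zero_of_left hx _
      obtain ⟨⟨_, t, ht, rfl⟩, hm⟩ := (IsLocalization.map_eq_zero_iff MB BS _).mp h0
      refine (IsLocalization.mk'_mem_map_algebraMap_iff MB' B'S _ _ _).mpr ⟨_, ⟨t, ht, rfl⟩, ?_⟩
      show π (algebraMap A B' t * b') = 0
      rw [map_mul, π.commutes]
      exact hm
    rw [eq_bot_iff, pow_two]
    refine (Ideal.mul_mono hker hker).trans ?_
    rw [← Ideal.map_mul, ← pow_two, hπ.2.1, Ideal.map_bot]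
  · letI : Algebra A T := ((algebraMap AS T).comp (algebraMap A AS)).toAlgebra
    haveI : IsScalarTower A AS T := .of_algebraMap_eq fun _ => rfl
    let a₀ : B →ₐ[A] T ⧸ K := (a.restrictScalars A).comp (IsScalarTower.toAlgHom A B BS)
    obtain ⟨φ, hφ, huniq⟩ := hπ.2.2 T K hK a₀
    have hu : ∀ y : MB', IsUnit (φ y) := by
      rintro ⟨_, s, hs, rfl⟩
      show IsUnit (φ (algebraMap A B' s))
      rw [AlgHom.commutes]
      exact hunit s hs
    let φS : B'S →+* T := IsLocalization.lift hu
    have hφS : ∀ b', φS (algebraMap B' B'S b') = φ b' := IsLocalization.lift_eq hu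
    let φS' : B'S →ₐ[AS] T :=
      { φS with
        commutes' := fun x => by
          have : φS.comp (algebraMap AS B'S) = algebraMap AS T := IsLocalization.ringHom_ext S (RingHom.ext fun r => by
            show φS (algebraMap AS B'S (algebraMap A AS r)) = algebraMap AS T (algebraMap A AS r)
            rw [← IsScalarTower.algebraMap_apply A AS B'S, IsScalarTower.algebraMap_apply A B' B'S, hφS, AlgHom.commutes]
            rfl)
          exact RingHom.congr_fun this x }
    refine ⟨φS', ?_, fun g hg => ?_⟩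
    · refine AlgHom.coe_ringHom_injective (IsLocalization.ringHom_ext MB' (RingHom.ext fun b' => ?_))
      show Ideal.Quotient.mk K (φS (algebraMap B' B'S b')) = a (πS (algebraMap B' B'S b'))
      rw [hφS, hπS]
      exact AlgHom.congr_fun hφ b'
    · refine AlgHom.coe_ringHom_injective (IsLocalization.ringHom_ext MB' (RingHom.ext fun b' => ?_))
      show g (algebraMap B' B'S b') = φS (algebraMap B' B'S b')
      rw [hφS]
      refine AlgHom.congr_fun (huniq ((g.restrictScalars A).comp (IsScalarTower.toAlgHom A B' B'S)) ?_) b'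
      refine AlgHom.ext fun x => ?_
      show Ideal.Quotient.mk K (g (algebraMap B' B'S x)) = a (algebraMap B BS (π x))
      rw [← hπS]
      exact AlgHom.congr_fun hg _

/-- A universal thickening localizes on the thickened algebra. -/
theorem isUnivThickeningRing_localization_comap (A B B' : Type u) [CommRing A] [CommRing B]
    [CommRing B'] [Algebra A B] [Algebra A B'] (π : B' →ₐ[A] B)
    (hπ : OmegaSh.IsUnivThickeningRing A B B' π) (S : Submonoid B)
    (BS B'S : Type u) [CommRing BS] [CommRing B'S]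
    [Algebra B BS] [IsLocalization S BS]
    [Algebra B' B'S] [IsLocalization (S.comap π.toRingHom.toMonoidHom) B'S]
    [Algebra A BS] [IsScalarTower A B BS] [Algebra A B'S] [IsScalarTower A B' B'S]
    (πS : B'S →ₐ[A] BS) (hπS : ∀ x : B', πS (algebraMap B' B'S x) = algebraMap B BS (π x)) :
    OmegaSh.IsUnivThickeningRing A BS B'S πS := by
  let M' := S.comap π.toRingHom.toMonoidHom
  refine ⟨?_, ?_, fun T _ _ K hK a => ?_⟩
  · intro y
    obtain ⟨b, ⟨s, hs⟩, rfl⟩ := IsLocalization.exists_mk'_eq S y
    obtain ⟨b', rfl⟩ := hπ.1 b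
    obtain ⟨s', rfl⟩ := hπ.1 s
    refine ⟨IsLocalization.mk' B'S b' (⟨s', hs⟩ : M'), ?_⟩
    refine (IsLocalization.eq_mk'_iff_mul_eq (M := S) (S := BS)).mpr ?_
    rw [← hπS, ← hπS, ← map_mul]
    exact congrArg πS (IsLocalization.mk'_spec B'S b' _)
  · have hker : RingHom.ker πS.toRingHom ≤ (RingHom.ker π.toRingHom).map (algebraMap B' B'S) := by
      intro x hx
      obtain ⟨b', ⟨s', hs'⟩, rfl⟩ := IsLocalization.exists_mk'_eq M' x
      have h0 : algebraMap B BS (π b') = 0 := by
        rw [← hπS, ← IsLocalization.mk'_spec B'S b' (⟨s', hs'⟩ : M'), map_mul]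
        exact mul_eq_zero_of_left hx _
      obtain ⟨⟨t, ht⟩, hm⟩ := (IsLocalization.map_eq_zero_iff S BS _).mp h0
      obtain ⟨t', rfl⟩ := hπ.1 t
      refine (IsLocalization.mk'_mem_map_algebraMap_iff M' B'S _ _ _).mpr ⟨t', ht, ?_⟩
      show π (t' * b') = 0
      rw [map_mul]
      exact hm
    rw [eq_bot_iff, pow_two]
    refine (Ideal.mul_mono hker hker).trans ?_
    rw [← Ideal.map_mul, ← pow_two, hπ.2.1, Ideal.map_bot]
  · let a₀ : B →ₐ[A] T ⧸ K := a.comp (IsScalarTower.toAlgHom A B BS)
    obtain ⟨φ, hφ, huniq⟩ := hπ.2.2 T K hK a₀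
    have hu : ∀ y : M', IsUnit (φ y) := by
      rintro ⟨s', hs'⟩
      obtain ⟨v, hv⟩ := ((IsLocalization.map_units BS (⟨π s', hs'⟩ : S)).map a).exists_left_inv
      obtain ⟨v', rfl⟩ := Ideal.Quotient.mk_surjective v
      have h1 : v' * φ s' - 1 ∈ K := by
        rw [← Ideal.Quotient.eq_zero_iff_mem, map_sub, map_mul, map_one, sub_eq_zero]
        rw [show Ideal.Quotient.mk K (φ s') = a (algebraMap B BS (π s')) from AlgHom.congr_fun hφ s']
        exact hv
      have h2 : IsNilpotent (v' * φ s' - 1) := ⟨2, by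
        have : (v' * φ s' - 1) ^ 2 ∈ K ^ 2 := Ideal.pow_mem_pow h1 2
        rwa [hK, Ideal.mem_bot] at this⟩
      have h3 := h2.isUnit_one_add
      rw [add_sub_cancel] at h3
      exact isUnit_of_mul_isUnit_right h3
    let φS : B'S →+* T := IsLocalization.lift hu
    have hφS : ∀ b', φS (algebraMap B' B'S b') = φ b' := IsLocalization.lift_eq hu
    let φS' : B'S →ₐ[A] T :=
      { φS with
        commutes' := fun x => by
          show φS (algebraMap A B'S x) = algebraMap A T x
          rw [IsScalarTower.algebraMap_apply A B' B'S, hφS, AlgHom.commutes] }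
    refine ⟨φS', ?_, fun g hg => ?_⟩
    · refine AlgHom.coe_ringHom_injective (IsLocalization.ringHom_ext M' (RingHom.ext fun b' => ?_))
      show Ideal.Quotient.mk K (φS (algebraMap B' B'S b')) = a (πS (algebraMap B' B'S b'))
      rw [hφS, hπS]
      exact AlgHom.congr_fun hφ b'
    · refine AlgHom.coe_ringHom_injective (IsLocalization.ringHom_ext M' (RingHom.ext fun b' => ?_))
      show g (algebraMap B' B'S b') = φS (algebraMap B' B'S b')
      rw [hφS]
      refine AlgHom.congr_fun (huniq (g.comp (IsScalarTower.toAlgHom A B' B'S)) ?_) b'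
      refine AlgHom.ext fun x => ?_
      show Ideal.Quotient.mk K (g (algebraMap B' B'S x)) = a (algebraMap B BS (π x))
      rw [← hπS]
      exact AlgHom.congr_fun hg _

end Groth.Agent.ConormalLib
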