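import Groth.Agent.PullbackMod.Hom
import Groth.Prelude.Def_Omega4

/-!
# Exactness of sequences of modules tested on sections near every point
-/

set_option autoImplicit false
set_option backward.isDefEq.respectTransparency false
set_option linter.style.haveILetI false

universe u

open CategoryTheory CategoryTheory.Limits AlgebraicGeometry TopologicalSpace Opposite

namespace Groth.Agent.ConormalLib

variable {X : Scheme.{u}} {M N K : X.Modules}

/-- A map hitting every section near every point is an epimorphism. -/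
theorem epi_of_local (φ : M ⟶ N)
    (h : ∀ (x : X) (V : X.Opens) (_ : x ∈ V) (m : Γ(N, V)),
      ∃ (W : X.Opens) (hWV : W ≤ V), x ∈ W ∧ ∃ n, φ.app W n = N.presheaf.map (homOfLE hWV).op m) :
    Epi φ := by
  refine (PullbackMod.epi_iff_stalk φ).mpr fun x t => ?_
  obtain ⟨V, hx, m, rfl⟩ := TopCat.Presheaf.exists_germ_eq N.presheaf t
  obtain ⟨W, hWV, hxW, n, hn⟩ := h x V hx m
  refine ⟨M.presheaf.germ W x hxW n, ?_⟩
  rw [PullbackMod.stalkLin_germ, hn]
  exact TopCat.Presheaf.germ_res_apply N.presheaf (homOfLE hWV) x hxW m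

/-- A map killing only sections which vanish near every point is a monomorphism. -/
theorem mono_of_local (φ : M ⟶ N)
    (h : ∀ (x : X) (V : X.Opens) (_ : x ∈ V) (m : Γ(M, V)), φ.app V m = 0 →
      ∃ (W : X.Opens) (hWV : W ≤ V), x ∈ W ∧ M.presheaf.map (homOfLE hWV).op m = 0) :
    Mono φ := by
  refine (PullbackMod.mono_iff_stalk φ).mpr fun x => ?_
  refine (injective_iff_map_eq_zero _).mpr fun t ht => ?_
  obtain ⟨V, hx, m, rfl⟩ := TopCat.Presheaf.exists_germ_eq M.presheaf t
  rw [PullbackMod.stalkLin_germ] at ht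
  obtain ⟨W, hxW, i₁, i₂, he⟩ := TopCat.Presheaf.germ_eq N.presheaf x hx hx (φ.app V m) 0
    (ht.trans (map_zero _).symm)
  have h0 : φ.app W (M.presheaf.map i₁.op m) = 0 := by
    refine (congr($((Scheme.Modules.Hom.mapPresheaf φ).naturality i₁.op) m)).trans ?_
    exact he.trans (map_zero _)
  obtain ⟨W', hW', hxW', h'⟩ := h x W hxW _ h0
  rw [← TopCat.Presheaf.germ_res_apply M.presheaf (homOfLE hW' ≫ i₁) x hxW' m, op_comp, Functor.map_comp]
  exact (congrArg (M.presheaf.germ W' x hxW') h').trans (map_zero _)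

/-- A short complex is exact if sections killed by the second map come from the first one near
every point. -/
theorem exact_of_local (ψ : M ⟶ N) (φ : N ⟶ K) (w : ψ ≫ φ = 0)
    (h : ∀ (x : X) (V : X.Opens) (_ : x ∈ V) (m : Γ(N, V)), φ.app V m = 0 →
      ∃ (W : X.Opens) (hWV : W ≤ V), x ∈ W ∧ ∃ n, ψ.app W n = N.presheaf.map (homOfLE hWV).op m) :
    (ShortComplex.mk ψ φ w).Exact := by
  rw [ShortComplex.exact_iff_epi_kernel_lift]
  refine epi_of_local _ fun x V hx m => ?_
  have h0 : φ.app V ((kernel.ι φ).app V m) = 0 := congr($(kernel.condition φ).app V m)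
  obtain ⟨W, hWV, hxW, n, hn⟩ := h x V hx _ h0
  refine ⟨W, hWV, hxW, n, ?_⟩
  refine OmegaSh.ι_app_injective φ W ?_
  refine (congr($(kernel.lift_ι φ ψ w).app W n)).trans (hn.trans ?_)
  exact (congr($((Scheme.Modules.Hom.mapPresheaf (kernel.ι φ)).naturality (homOfLE hWV).op) m)).symm

end Groth.Agent.ConormalLib
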