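import Groth.Agent.ConormalLib.Map
import Groth.Agent.ConormalLib.Exact
import Groth.Agent.PullbackMod.Flat
import Groth.Agent.OmegaUnivLib.Compat

/-!
# The conormal sheaf of a base change
-/

set_option autoImplicit false
set_option backward.isDefEq.respectTransparency false
set_option backward.defeqAttrib.useBackward true
set_option linter.style.haveILetI false
set_option maxHeartbeats 1000000

universe u

open CategoryTheory CategoryTheory.Limits AlgebraicGeometry TopologicalSpace Opposite TensorProduct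

namespace Groth.Agent.ConormalLib

/-- In a pushout square of rings with surjective left side, the kernel on the right is the extended kernel. -/
theorem ker_le_map_of_isPushout {R S R' S' : Type u} [CommRing R] [CommRing S] [CommRing R'] [CommRing S']
    [Algebra R S] [Algebra R R'] [Algebra S S'] [Algebra R' S'] [Algebra R S'] [IsScalarTower R S S']
    [IsScalarTower R R' S'] [Algebra.IsPushout R S R' S'] (hs : Function.Surjective (algebraMap R S)) :
    RingHom.ker (algebraMap R' S') ≤ (RingHom.ker (algebraMap R S)).map (algebraMap R R') := by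
  let K := (RingHom.ker (algebraMap R S)).map (algebraMap R R')
  let q : R' →ₐ[R] R' ⧸ K := Ideal.Quotient.mkₐ R K
  let f : S →ₐ[R] R' ⧸ K := AlgHom.liftOfSurjective (Algebra.ofId R S) hs (Algebra.ofId R (R' ⧸ K))
    (fun r hr => Ideal.Quotient.eq_zero_iff_mem.mpr (Ideal.mem_map_of_mem (algebraMap R R') hr))
  intro x hx
  have h := Algebra.pushoutDesc_right S' f q (fun a b => mul_comm _ _) x
  rw [show algebraMap R' S' x = 0 from hx, map_zero] at h
  exact Ideal.Quotient.eq_zero_iff_mem.mp h.symm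

variable {Z X Z' X' : Scheme.{u}} {i : Z ⟶ X} {i' : Z' ⟶ X'} {g : X ⟶ X'} {gZ : Z ⟶ Z'}
  [QuasiCompact i] [QuasiCompact i']
  {φ : (Scheme.Modules.pullback gZ).obj (Omega.conormal i') ⟶ Omega.conormal i}

/-- Charts for a cartesian square of immersions. -/
structure Cart (i : Z ⟶ X) (i' : Z' ⟶ X') (g : X ⟶ X') (gZ : Z ⟶ Z') (U' : X'.Opens) (U : X.Opens) : Prop where
  affU' : IsAffineOpen U'
  affU : IsAffineOpen U
  le : U ≤ g ⁻¹ᵁ U'
  affW : IsAffineOpen (i ⁻¹ᵁ U)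
  surj : Function.Surjective (i.app U)
  affW' : IsAffineOpen (i' ⁻¹ᵁ U')
  surj' : Function.Surjective (i'.app U')
  leW : i ⁻¹ᵁ U ≤ gZ ⁻¹ᵁ (i' ⁻¹ᵁ U')
  ker_le : RingHom.ker (i.app U).hom ≤ (RingHom.ker (i'.app U').hom).map (g.appLE U' U le).hom

omit [QuasiCompact i] [QuasiCompact i'] in
theorem exists_cart [IsImmersion i] [IsImmersion i'] (hsq : IsPullback i gZ g i') (z : Z) {V : Z.Opens} (hV : z ∈ V) :
    ∃ (U' : X'.Opens) (U : X.Opens), Cart i i' g gZ U' U ∧ z ∈ i ⁻¹ᵁ U ∧ i ⁻¹ᵁ U ≤ V := by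
  obtain ⟨U', hU', hz', -, -, hb'⟩ := exists_chart i' (gZ z) (V := ⊤) trivial (O := ⊤) trivial
  have hgi : i z ∈ g ⁻¹ᵁ U' := by
    show g (i z) ∈ U'
    rw [← Scheme.Hom.comp_apply, hsq.w, Scheme.Hom.comp_apply]
    exact hz'
  obtain ⟨U, hU, hz, hle, hWV, hb⟩ := exists_chart i z hV hgi
  obtain ⟨hW', hs'⟩ := chart_of_le i' hU' hb'
  obtain ⟨hW, hs⟩ := chart_of_le i hU hb
  have hleW : i ⁻¹ᵁ U ≤ gZ ⁻¹ᵁ (i' ⁻¹ᵁ U') := fun y hy => by
    show i' (gZ y) ∈ U'
    rw [← Scheme.Hom.comp_apply, ← hsq.w, Scheme.Hom.comp_apply]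
    exact hle hy
  refine ⟨U', U, ⟨hU', hU, hle, hW, hs, hW', hs', hleW, fun x hx => ?_⟩, hz, hWV⟩
  obtain ⟨-, hP⟩ := PullbackMod.isPushout_appLE hsq hU' hU hW' hle le_rfl
  letI : Algebra Γ(X', U') Γ(X, U) := (g.appLE U' U hle).hom.toAlgebra
  letI : Algebra Γ(X', U') Γ(Z', i' ⁻¹ᵁ U') := (i'.appLE U' (i' ⁻¹ᵁ U') le_rfl).hom.toAlgebra
  letI : Algebra Γ(X, U) Γ(Z, i ⁻¹ᵁ U ⊓ gZ ⁻¹ᵁ (i' ⁻¹ᵁ U')) := (i.appLE U _ inf_le_left).hom.toAlgebra
  letI : Algebra Γ(Z', i' ⁻¹ᵁ U') Γ(Z, i ⁻¹ᵁ U ⊓ gZ ⁻¹ᵁ (i' ⁻¹ᵁ U')) :=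
    (gZ.appLE (i' ⁻¹ᵁ U') _ inf_le_right).hom.toAlgebra
  letI : Algebra Γ(X', U') Γ(Z, i ⁻¹ᵁ U ⊓ gZ ⁻¹ᵁ (i' ⁻¹ᵁ U')) :=
    ((i.appLE U _ inf_le_left).hom.comp (g.appLE U' U hle).hom).toAlgebra
  haveI : IsScalarTower Γ(X', U') Γ(X, U) Γ(Z, i ⁻¹ᵁ U ⊓ gZ ⁻¹ᵁ (i' ⁻¹ᵁ U')) := .of_algebraMap_eq fun _ => rfl
  haveI : IsScalarTower Γ(X', U') Γ(Z', i' ⁻¹ᵁ U') Γ(Z, i ⁻¹ᵁ U ⊓ gZ ⁻¹ᵁ (i' ⁻¹ᵁ U')) :=
    .of_algebraMap_eq' (by
      show ((g.appLE U' U hle) ≫ i.appLE U _ inf_le_left).hom =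
        ((i'.appLE U' (i' ⁻¹ᵁ U') le_rfl) ≫ gZ.appLE (i' ⁻¹ᵁ U') _ inf_le_right).hom
      simp only [Scheme.Hom.appLE_comp_appLE, hsq.w])
  haveI := hP
  have hsur : Function.Surjective (algebraMap Γ(X', U') Γ(Z', i' ⁻¹ᵁ U')) := by
    show Function.Surjective (i'.appLE U' (i' ⁻¹ᵁ U') le_rfl)
    rw [← Scheme.Hom.app_eq_appLE]
    exact hs'
  have h0 : x ∈ RingHom.ker (algebraMap Γ(X, U) Γ(Z, i ⁻¹ᵁ U ⊓ gZ ⁻¹ᵁ (i' ⁻¹ᵁ U'))) := by
    show i.appLE U _ inf_le_left x = 0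
    rw [show i.appLE U (i ⁻¹ᵁ U ⊓ gZ ⁻¹ᵁ (i' ⁻¹ᵁ U')) inf_le_left = i.app U ≫ Z.presheaf.map (homOfLE inf_le_left).op from rfl,
      CommRingCat.comp_apply, show i.app U x = 0 from hx, map_zero]
  have h1 := ker_le_map_of_isPushout (R := Γ(X', U')) (S := Γ(Z', i' ⁻¹ᵁ U')) (R' := Γ(X, U))
    (S' := Γ(Z, i ⁻¹ᵁ U ⊓ gZ ⁻¹ᵁ (i' ⁻¹ᵁ U'))) hsur h0
  rw [RingHom.algebraMap_toAlgebra, RingHom.algebraMap_toAlgebra, ← Scheme.Hom.app_eq_appLE] at h1
  exact h1

namespace Cart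

variable {U' : X'.Opens} {U : X.Opens} (P : Cart i i' g gZ U' U) (hφ : OmegaSh.IsConormalMap i i' g gZ φ)

include P hφ in
theorem surjective : Function.Surjective (φ.app (i ⁻¹ᵁ U)) := by
  intro c
  obtain ⟨s, rfl⟩ := (cls_surjective_and_eq_zero_iff i P.affU P.affW P.surj).1 c
  have hx : OmegaSh.idealSect i.ker U s ∈ (RingHom.ker (i'.app U').hom).map (g.appLE U' U P.le).hom :=
    P.ker_le (app_idealSect i U s)
  generalize hy : OmegaSh.idealSect i.ker U s = y at hx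
  have hJI : (RingHom.ker (i'.app U').hom).map (g.appLE U' U P.le).hom ≤ RingHom.ker (i.app U).hom :=
    Ideal.map_le_iff_le_comap.mpr fun x' hx' => by
      obtain ⟨s', rfl⟩ := exists_idealSect_eq i' U' x' hx'
      show i.app U ((g.app U' ≫ X.presheaf.map (homOfLE P.le).op) (OmegaSh.idealSect i'.ker U' s')) = 0
      show ((X.presheaf.map (homOfLE P.le).op) ≫ i.app U) (g.app U' (OmegaSh.idealSect i'.ker U' s')) = 0
      rw [i.naturality, CommRingCat.comp_apply, app_app_idealSect i i' g gZ hφ.1, map_zero]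
  induction hx using Submodule.span_induction generalizing s with
  | mem w hw =>
    obtain ⟨x', hx', rfl⟩ := hw
    obtain ⟨s', rfl⟩ := exists_idealSect_eq i' U' x' hx'
    exact ⟨_, conormalMap_apply i i' g gZ hφ P.le (W' := i' ⁻¹ᵁ U') le_rfl P.leW le_rfl s' s hy⟩
  | zero =>
    rw [OmegaAffLib.idealSect_injective i.ker U (hy.trans (map_zero (OmegaSh.idealSect i.ker U)).symm)]
    exact ⟨0, (map_zero _).trans (map_zero _).symm⟩
  | add v w hv hw ihv ihw =>
    obtain ⟨sv, hsv⟩ := exists_idealSect_eq i U v (hJI hv)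
    obtain ⟨sw, hsw⟩ := exists_idealSect_eq i U w (hJI hw)
    obtain ⟨nv, hnv⟩ := ihv sv hsv
    obtain ⟨nw, hnw⟩ := ihw sw hsw
    refine ⟨nv + nw, ?_⟩
    rw [map_add, hnv, hnw]
    refine ((PullbackMod.pullMap i (ClSub.idealMod i.ker) (W := U) (W' := i ⁻¹ᵁ U) le_rfl).map_add sv sw).symm.trans ?_
    exact congrArg _ (OmegaAffLib.idealSect_injective i.ker U (by rw [map_add, hsv, hsw, hy]))
  | smul a v hv ihv =>
    obtain ⟨sv, hsv⟩ := exists_idealSect_eq i U v (hJI hv)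
    obtain ⟨nv, hnv⟩ := ihv sv hsv
    refine ⟨i.appLE U (i ⁻¹ᵁ U) le_rfl a • nv, ?_⟩
    rw [Scheme.Modules.Hom.app_smul, hnv]
    refine (PullbackMod.pullMap_smul i (ClSub.idealMod i.ker) le_rfl a sv).symm.trans (congrArg _ ?_)
    exact OmegaAffLib.idealSect_injective i.ker U (by rw [OmegaAffLib.idealSect_smul, hsv, hy]; rfl)

include P hφ in
theorem bijective [Flat g] : Function.Bijective (φ.app (i ⁻¹ᵁ U)) := by
  let A' := Γ(X', U')
  let A := Γ(X, U)
  let B' := Γ(Z', i' ⁻¹ᵁ U')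
  let B := Γ(Z, i ⁻¹ᵁ U)
  letI aA : Algebra A' A := (g.appLE U' U P.le).hom.toAlgebra
  letI aB' : Algebra A' B' := (i'.appLE U' (i' ⁻¹ᵁ U') le_rfl).hom.toAlgebra
  letI aB : Algebra A B := (i.appLE U (i ⁻¹ᵁ U) le_rfl).hom.toAlgebra
  letI aBB : Algebra B' B := (gZ.appLE (i' ⁻¹ᵁ U') (i ⁻¹ᵁ U) P.leW).hom.toAlgebra
  letI aA'B : Algebra A' B := ((i.appLE U (i ⁻¹ᵁ U) le_rfl).hom.comp (g.appLE U' U P.le).hom).toAlgebra
  haveI : IsScalarTower A' A B := .of_algebraMap_eq fun _ => rfl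
  haveI : IsScalarTower A' B' B := .of_algebraMap_eq' (by
    show ((g.appLE U' U P.le) ≫ i.appLE U (i ⁻¹ᵁ U) le_rfl).hom =
      ((i'.appLE U' (i' ⁻¹ᵁ U') le_rfl) ≫ gZ.appLE (i' ⁻¹ᵁ U') (i ⁻¹ᵁ U) P.leW).hom
    simp only [Scheme.Hom.appLE_comp_appLE, hφ.1])
  haveI : Module.Flat A' A := Flat.flat_appLE g P.affU' P.affU P.le
  haveI := OmegaAffLib.isQCoh_idealMod i.ker
  haveI := OmegaAffLib.isQCoh_idealMod i'.ker
  haveI : Coh.IsQCoh (Omega.conormal i') := PullbackMod.isQCoh_pullback i' (ClSub.idealMod i'.ker)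
  let J := Γ(ClSub.idealMod i'.ker, U')
  let I := Γ(ClSub.idealMod i.ker, U)
  let M' := (Scheme.Modules.pullback i').obj (ClSub.idealMod i'.ker)
  haveI : Coh.IsQCoh M' := PullbackMod.isQCoh_pullback i' (ClSub.idealMod i'.ker)
  let C' := Γ((Scheme.Modules.pullback i').obj (ClSub.idealMod i'.ker), i' ⁻¹ᵁ U')
  let N := Γ((Scheme.Modules.pullback gZ).obj ((Scheme.Modules.pullback i').obj (ClSub.idealMod i'.ker)), i ⁻¹ᵁ U)
  let C := Γ((Scheme.Modules.pullback i).obj (ClSub.idealMod i.ker), i ⁻¹ᵁ U)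
  letI : Module A' C' := Module.compHom _ (i'.appLE U' (i' ⁻¹ᵁ U') le_rfl).hom
  haveI : IsScalarTower A' B' C' := .of_algebraMap_smul fun _ _ => rfl
  letI : Module B' N := Module.compHom _ (gZ.appLE (i' ⁻¹ᵁ U') (i ⁻¹ᵁ U) P.leW).hom
  haveI : IsScalarTower B' B N := .of_algebraMap_smul fun _ _ => rfl
  letI : Module A' N := Module.compHom _ (algebraMap A' B)
  haveI : IsScalarTower A' B N := .of_algebraMap_smul fun _ _ => rfl
  haveI : IsScalarTower A' B' N := .of_algebraMap_smul fun a n => by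
    show algebraMap B' B (algebraMap A' B' a) • n = algebraMap A' B a • n
    rw [← IsScalarTower.algebraMap_apply]
  letI : Module A C := Module.compHom _ (i.appLE U (i ⁻¹ᵁ U) le_rfl).hom
  haveI : IsScalarTower A B C := .of_algebraMap_smul fun _ _ => rfl
  letI : Module A' C := Module.compHom _ (algebraMap A' B)
  haveI : IsScalarTower A' B C := .of_algebraMap_smul fun _ _ => rfl
  haveI : IsScalarTower A' A C := .of_algebraMap_smul fun a n => by
    show algebraMap A B (algebraMap A' A a) • n = algebraMap A' B a • n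
    rw [← IsScalarTower.algebraMap_apply]
  letI : Module A' I := Module.compHom _ (algebraMap A' A)
  haveI : IsScalarTower A' A I := .of_algebraMap_smul fun _ _ => rfl
  have hbJ : IsBaseChange B' (PullbackMod.pullMapL i' (ClSub.idealMod i'.ker) (W := U') (W' := i' ⁻¹ᵁ U') le_rfl : J →ₗ[A'] C') :=
    PullbackMod.isBaseChange_pullMapL i' _ P.affU' P.affW' le_rfl
  have hbN : IsBaseChange B (PullbackMod.pullMapL gZ ((Scheme.Modules.pullback i').obj (ClSub.idealMod i'.ker)) P.leW : C' →ₗ[B'] N) :=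
    PullbackMod.isBaseChange_pullMapL gZ _ P.affW' P.affW P.leW
  have hbC : IsBaseChange B (PullbackMod.pullMapL i (ClSub.idealMod i.ker) (W := U) (W' := i ⁻¹ᵁ U) le_rfl : I →ₗ[A] C) :=
    PullbackMod.isBaseChange_pullMapL i _ P.affU P.affW le_rfl
  -- the map of ideals
  have hmem : ∀ s' : J, ∃ s : I, OmegaSh.idealSect i.ker U s = g.appLE U' U P.le (OmegaSh.idealSect i'.ker U' s') :=
    fun s' => exists_idealSect_eq i U _ (by
      show ((g.app U' ≫ X.presheaf.map (homOfLE P.le).op) ≫ i.app U) (OmegaSh.idealSect i'.ker U' s') = 0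
      rw [Category.assoc, i.naturality, CommRingCat.comp_apply, CommRingCat.comp_apply,
        app_app_idealSect i i' g gZ hφ.1, map_zero])
  choose t ht using hmem
  let θ : J →ₗ[A'] I :=
    { toFun := t
      map_add' := fun a b => OmegaAffLib.idealSect_injective i.ker U (by simp only [map_add, ht])
      map_smul' := fun r a => OmegaAffLib.idealSect_injective i.ker U (by
        show _ = OmegaSh.idealSect i.ker U (algebraMap A' A r • t a)
        rw [ht, OmegaAffLib.idealSect_smul, OmegaAffLib.idealSect_smul, map_mul, ht]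
        rfl) }
  let E : A ⊗[A'] J →ₗ[A] I := (TensorProduct.isBaseChange A' J A).lift θ
  have hE1 : ∀ x : J, E ((1 : A) ⊗ₜ[A'] x) = θ x := fun x => IsBaseChange.lift_eq _ θ x
  let ιJ : J →ₗ[A'] A' :=
    { toFun := OmegaSh.idealSect i'.ker U'
      map_add' := map_add _
      map_smul' := fun r m => OmegaAffLib.idealSect_smul i'.ker U' r m }
  have hEinj : Function.Injective E := by
    have hflat : Function.Injective (LinearMap.lTensor A ιJ) :=
      Module.Flat.lTensor_preserves_injective_linearMap _ (OmegaAffLib.idealSect_injective i'.ker U')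
    have hcomp : ∀ w : A ⊗[A'] J, OmegaSh.idealSect i.ker U (E w) = TensorProduct.rid A' A (LinearMap.lTensor A ιJ w) := by
      intro w
      induction w with
      | zero => simp only [map_zero]
      | tmul a x =>
        rw [show a ⊗ₜ[A'] x = a • ((1 : A) ⊗ₜ[A'] x) by rw [TensorProduct.smul_tmul', smul_eq_mul, mul_one], map_smul,
          OmegaAffLib.idealSect_smul, hE1, TensorProduct.smul_tmul', smul_eq_mul, mul_one, LinearMap.lTensor_tmul,
          TensorProduct.rid_tmul, Algebra.smul_def, mul_comm]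
        exact congrArg (· * a) (ht x)
      | add v w hv hw => simp only [map_add, hv, hw]
    refine fun v w hvw => hflat ((TensorProduct.rid A' A).injective ?_)
    rw [← hcomp, ← hcomp, hvw]
  have hEsurj : Function.Surjective E := by
    intro s
    have hx : OmegaSh.idealSect i.ker U s ∈ (RingHom.ker (i'.app U').hom).map (g.appLE U' U P.le).hom :=
      P.ker_le (app_idealSect i U s)
    have hR : ∀ y ∈ (RingHom.ker (i'.app U').hom).map (g.appLE U' U P.le).hom, ∃ w, OmegaSh.idealSect i.ker U (E w) = y := by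
      intro y hy
      induction hy using Submodule.span_induction with
      | mem w hw =>
        obtain ⟨x', hx', rfl⟩ := hw
        obtain ⟨s', rfl⟩ := exists_idealSect_eq i' U' x' hx'
        exact ⟨(1 : A) ⊗ₜ[A'] s', by rw [hE1]; exact ht s'⟩
      | zero => exact ⟨0, by rw [map_zero, map_zero]⟩
      | add v w _ _ hv hw =>
        obtain ⟨a, ha⟩ := hv
        obtain ⟨b, hb⟩ := hw
        exact ⟨a + b, by rw [map_add, map_add, ha, hb]⟩
      | smul a v _ hv =>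
        obtain ⟨w, hw⟩ := hv
        exact ⟨a • w, by rw [map_smul, OmegaAffLib.idealSect_smul, hw]; rfl⟩
    obtain ⟨w, hw⟩ := hR _ hx
    exact ⟨w, OmegaAffLib.idealSect_injective i.ker U hw⟩
  have hbθ : IsBaseChange A θ := IsBaseChange.of_equiv (LinearEquiv.ofBijective E ⟨hEinj, hEsurj⟩) hE1
  have h1 := hbJ.comp hbN
  have h2 := hbθ.comp hbC
  let Φ : N →ₗ[B] C := PullbackMod.appLin φ (i ⁻¹ᵁ U)
  have hΦ : Φ = (h2.equiv.toLinearMap).comp h1.equiv.symm.toLinearMap := by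
    refine h1.algHom_ext _ _ fun x => ?_
    refine Eq.trans ?_ (congrArg h2.equiv (h1.equiv_symm_apply x)).symm
    refine Eq.trans ?_ ((h2.equiv_tmul (1 : B) x).trans (one_smul B _)).symm
    exact conormalMap_apply i i' g gZ hφ P.le (W' := i' ⁻¹ᵁ U') le_rfl P.leW le_rfl x (θ x) (ht x)
  show Function.Bijective Φ
  rw [hΦ]
  exact (h1.equiv.symm.trans h2.equiv).bijective

end Cart

/-- The conormal map of a cartesian square is an epimorphism, and an isomorphism in the flat case. -/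
theorem epi_and_isIso_of_isPullback [IsImmersion i] [IsImmersion i'] (hsq : IsPullback i gZ g i')
    (hφ : OmegaSh.IsConormalMap i i' g gZ φ) : Epi φ ∧ (Flat g → IsIso φ) := by
  refine ⟨epi_of_local φ fun z V hz m => ?_, fun hg => ?_⟩
  · obtain ⟨U', U, P, hzU, hle⟩ := exists_cart hsq z hz
    exact ⟨_, hle, hzU, P.surjective hφ _⟩
  · haveI := OmegaAffLib.isQCoh_idealMod i.ker
    haveI := OmegaAffLib.isQCoh_idealMod i'.ker
    haveI : Coh.IsQCoh (Omega.conormal i') := PullbackMod.isQCoh_pullback i' (ClSub.idealMod i'.ker)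
    haveI : Coh.IsQCoh ((Scheme.Modules.pullback gZ).obj (Omega.conormal i')) :=
      PullbackMod.isQCoh_pullback gZ (Omega.conormal i')
    haveI : Coh.IsQCoh (Omega.conormal i) := PullbackMod.isQCoh_pullback i (ClSub.idealMod i.ker)
    refine OmegaUnivLib.isIso_of_bijective_cover φ fun z => ?_
    obtain ⟨U', U, P, hzU, -⟩ := exists_cart hsq z (V := ⊤) trivial
    exact ⟨_, P.affW, hzU, P.bijective hφ⟩

end Groth.Agent.ConormalLib
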