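import Mathlib
import Groth.Prelude.Def_CAlgX

/-!
# Conormal modules of H₁-regular sequences
-/

set_option autoImplicit false

universe u

namespace Groth.Agent.ConormalLib

variable {A B : Type u} [CommRing A] [CommRing B] {n : ℕ}

/-- Relations of an H₁-regular sequence have coefficients in the ideal of the sequence. -/
theorem coeff_mem_of_h1 {f : Fin n → B} (hf : CAlgX.IsH1Regular f) (a : Fin n → B)
    (ha : ∑ k, a k * f k ∈ Ideal.span (Set.range f) * Ideal.span (Set.range f)) (k : Fin n) :
    a k ∈ Ideal.span (Set.range f) := by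
  classical
  let K := Ideal.span (Set.range f)
  have hb : ∀ y ∈ K * K, ∃ b : Fin n → B, (∀ k, b k ∈ K) ∧ ∑ k, b k * f k = y := by
    intro y hy
    induction hy using Submodule.mul_induction_on' with
    | mem_mul_mem p hp q hq =>
      obtain ⟨c, rfl⟩ := Ideal.mem_span_range_iff_exists_fun.mp hq
      exact ⟨fun k => p * c k, fun k => K.mul_mem_right _ hp, by
        rw [Finset.mul_sum]; exact Finset.sum_congr rfl fun k _ => by ring⟩
    | add y _ z _ hy hz =>
      obtain ⟨b, hb, rfl⟩ := hy
      obtain ⟨c, hc, rfl⟩ := hz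
      exact ⟨b + c, fun k => add_mem (hb k) (hc k), by simp [add_mul, Finset.sum_add_distrib]⟩
  obtain ⟨b, hbK, hb'⟩ := hb _ ha
  have hrel := hf (a - b) (by simp [sub_mul, Finset.sum_sub_distrib, hb'])
  have hle : ∀ v ∈ Submodule.span B {v : Fin n → B | ∃ i j : Fin n, v = Pi.single i (f j) - Pi.single j (f i)},
      ∀ k, v k ∈ K := by
    intro v hv
    induction hv using Submodule.span_induction with
    | mem v hv =>
      obtain ⟨i, j, rfl⟩ := hv
      intro k
      simp only [Pi.sub_apply, Pi.single_apply]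
      refine sub_mem ?_ ?_ <;> split_ifs
      all_goals first | exact zero_mem _ | exact Ideal.subset_span ⟨_, rfl⟩
    | zero => exact fun k => zero_mem _
    | add v w _ _ hv hw => exact fun k => add_mem (hv k) (hw k)
    | smul c v _ hv => exact fun k => K.mul_mem_left c (hv k)
  have := add_mem (hle _ hrel k) (hbK k)
  simpa using this

/-- The ideal of the kernel meets the square of the big ideal in their product. -/
theorem mem_mul_of_h1 (π : A →+* B) (hπ : Function.Surjective π) {f : Fin n → B} (hf : CAlgX.IsH1Regular f)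
    {x : A} (hx : π x = 0)
    (hxI : x ∈ (Ideal.span (Set.range f)).comap π * (Ideal.span (Set.range f)).comap π) :
    x ∈ (Ideal.span (Set.range f)).comap π * RingHom.ker π := by
  classical
  choose F hF using fun k => hπ (f k)
  let K := Ideal.span (Set.range F)
  let J := RingHom.ker π
  let I := (Ideal.span (Set.range f)).comap π
  have hKf : K.map π = Ideal.span (Set.range f) := by
    rw [Ideal.map_span, ← Set.range_comp]
    congr 2
    exact funext hF
  have hI : I = K ⊔ J := by
    show (Ideal.span (Set.range f)).comap π = K ⊔ J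
    rw [← hKf, Ideal.comap_map_of_surjective π hπ]
    rfl
  have hKI : K ≤ I := hI ▸ le_sup_left
  have hJI : J ≤ I := hI ▸ le_sup_right
  have hII : I * I ≤ K * K ⊔ I * J := by
    conv_lhs => rw [hI]
    rw [Ideal.sup_mul, Ideal.mul_sup, Ideal.mul_sup]
    refine sup_le (sup_le le_sup_left (le_sup_of_le_right (Ideal.mul_mono hKI le_rfl))) (sup_le ?_ ?_) <;>
      refine le_sup_of_le_right ?_
    · rw [mul_comm]; exact Ideal.mul_mono hKI le_rfl
    · exact Ideal.mul_mono hJI le_rfl
  obtain ⟨y, hy, q, hq, rfl⟩ := Submodule.mem_sup.mp (hII hxI)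
  have hb : ∀ z ∈ K * K, ∃ v : Fin n → A, (∀ k, v k ∈ K) ∧ ∑ k, v k * F k = z := by
    intro z hz
    induction hz using Submodule.mul_induction_on' with
    | mem_mul_mem p hp r hr =>
      obtain ⟨c, rfl⟩ := Ideal.mem_span_range_iff_exists_fun.mp hr
      exact ⟨fun k => p * c k, fun k => K.mul_mem_right _ hp, by
        rw [Finset.mul_sum]; exact Finset.sum_congr rfl fun k _ => by ring⟩
    | add y _ z _ hy hz =>
      obtain ⟨b, hb, rfl⟩ := hy
      obtain ⟨c, hc, rfl⟩ := hz
      exact ⟨b + c, fun k => add_mem (hb k) (hc k), by simp [add_mul, Finset.sum_add_distrib]⟩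
  obtain ⟨v, hv, rfl⟩ := hb y hy
  have hq0 : π q = 0 := (Ideal.mul_le_right (I := I) (J := J)) hq
  have hrel : ∑ k, π (v k) * f k = 0 := by
    rw [← hx, map_add, hq0, add_zero, map_sum]
    simp [map_mul, hF]
  have hlift : ∀ w ∈ Submodule.span B {v : Fin n → B | ∃ i j : Fin n, v = Pi.single i (f j) - Pi.single j (f i)},
      ∃ e : Fin n → A, (∀ k, π (e k) = w k) ∧ (∀ k, e k ∈ K) ∧ ∑ k, e k * F k = 0 := by
    intro w hw
    induction hw using Submodule.span_induction with
    | mem w hw =>
      obtain ⟨i, j, rfl⟩ := hw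
      refine ⟨Pi.single i (F j) - Pi.single j (F i), fun k => ?_, fun k => ?_, ?_⟩
      · simp only [Pi.sub_apply, Pi.single_apply, map_sub, apply_ite π, map_zero, hF]
      · simp only [Pi.sub_apply, Pi.single_apply]
        refine sub_mem ?_ ?_ <;> split_ifs
        all_goals first | exact zero_mem _ | exact Ideal.subset_span ⟨_, rfl⟩
      · simp [sub_mul, Finset.sum_sub_distrib, Pi.single_apply, ite_mul]
        ring
    | zero => exact ⟨0, fun k => map_zero π, fun k => zero_mem _, by simp⟩
    | add w₁ w₂ _ _ h₁ h₂ =>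
      obtain ⟨e₁, a₁, b₁, c₁⟩ := h₁
      obtain ⟨e₂, a₂, b₂, c₂⟩ := h₂
      exact ⟨e₁ + e₂, fun k => by simp [a₁, a₂], fun k => add_mem (b₁ k) (b₂ k), by
        simp [add_mul, Finset.sum_add_distrib, c₁, c₂]⟩
    | smul c w _ h =>
      obtain ⟨e, a, b, d⟩ := h
      obtain ⟨c', rfl⟩ := hπ c
      exact ⟨fun k => c' * e k, fun k => by simp [a], fun k => K.mul_mem_left _ (b k), by
        simp [mul_assoc, ← Finset.mul_sum, d]⟩
  obtain ⟨e, he, -, hes⟩ := hlift _ (hf (fun k => π (v k)) hrel)
  refine add_mem ?_ hq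
  rw [show ∑ k, v k * F k = ∑ k, F k * (v k - e k) by
    simp only [mul_sub, Finset.sum_sub_distrib]
    rw [show ∑ k, F k * e k = 0 by simpa [mul_comm] using hes, sub_zero]
    simp [mul_comm]]
  exact sum_mem fun k _ => Ideal.mul_mem_mul (hKI (Ideal.subset_span ⟨k, rfl⟩))
    (by rw [RingHom.mem_ker, map_sub, he, sub_self])

end Groth.Agent.ConormalLib
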