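import Groth.Agent.ConormalLib.Map
import Groth.Agent.ConormalLib.Exact
import Groth.Agent.ConormalLib.RingH1
import Groth.Agent.RelDivLib.ImmBC
import Groth.Agent.FlatLocus.FreeNhd
import Groth.Prelude.Def_RegImm

/-!
# The transitivity sequence of conormal sheaves of two immersions
-/

set_option autoImplicit false
set_option backward.isDefEq.respectTransparency false
set_option backward.defeqAttrib.useBackward true
set_option linter.style.haveILetI false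
set_option maxHeartbeats 1000000

universe u

open CategoryTheory CategoryTheory.Limits AlgebraicGeometry TopologicalSpace Opposite

namespace Groth.Agent.ConormalLib

/-- The inverse of the unit isomorphism for the identity is the pullback of sections. -/
theorem pullbackId_inv_app {Z : Scheme.{u}} (M : Z.Modules) (W : Z.Opens) (m : Γ(M, W)) :
    ((Scheme.Modules.pullbackId Z).inv.app M).app W m = OmegaSh.pullSect (𝟙 Z) M W m := by
  have h := unit_conjugateEquiv Adjunction.id (Scheme.Modules.pullbackPushforwardAdjunction (𝟙 Z))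
    (Scheme.Modules.pullbackId Z).hom M
  rw [Scheme.Modules.conjugateEquiv_pullbackId_hom] at h
  have h1 : ((Scheme.Modules.pullbackId Z).hom.app M).app W (OmegaSh.pullSect (𝟙 Z) M W m) = m :=
    congr($(h.symm).app W m)
  conv_lhs => rw [← h1]
  exact congr($((Scheme.Modules.pullbackId Z).hom_inv_id_app M).app W (OmegaSh.pullSect (𝟙 Z) M W m))

variable {Z Y X : Scheme.{u}} (i : Z ⟶ Y) (j : Y ⟶ X)

/-- Affine charts for two composable immersions. -/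
structure Tower (U : X.Opens) : Prop where
  affU : IsAffineOpen U
  affY : IsAffineOpen (j ⁻¹ᵁ U)
  affW : IsAffineOpen (i ⁻¹ᵁ (j ⁻¹ᵁ U))
  surjY : Function.Surjective (j.app U)
  surjW : Function.Surjective (i.app (j ⁻¹ᵁ U))

theorem tower_of_le [IsImmersion i] [IsImmersion j] {U : X.Opens} (hU : IsAffineOpen U)
    (hk : U ≤ (i ≫ j).coborderRange) (hj : U ≤ j.coborderRange) : Tower i j U := by
  obtain ⟨h1, h2⟩ := chart_of_le (i ≫ j) hU hk
  obtain ⟨h3, h4⟩ := chart_of_le j hU hj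
  refine ⟨hU, h3, h1, h4, fun c => ?_⟩
  obtain ⟨a, ha⟩ := h2 c
  exact ⟨j.app U a, ha⟩

theorem exists_tower [IsImmersion i] [IsImmersion j] (z : Z) {V : Z.Opens} (hV : z ∈ V) {O : Y.Opens} (hO : i z ∈ O) :
    ∃ U : X.Opens, Tower i j U ∧ z ∈ i ⁻¹ᵁ (j ⁻¹ᵁ U) ∧ i ⁻¹ᵁ (j ⁻¹ᵁ U) ≤ V ∧ j ⁻¹ᵁ U ≤ O ∧
      U ≤ (i ≫ j).coborderRange ∧ U ≤ j.coborderRange := by
  obtain ⟨U₁, -, hz₁, -, hV₁, hb₁⟩ := exists_chart (i ≫ j) z hV (O := ⊤) trivial
  obtain ⟨U, hU, hz, hle, hUO, hb⟩ := exists_chart j (i z) hO (O := U₁) hz₁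
  exact ⟨U, tower_of_le i j hU (hle.trans hb₁) hb, hz, fun y hy => hV₁ (hle hy), hUO, hle.trans hb₁, hb⟩

/-- Near a point of an H₁-regular immersion the charts carry H₁-regular generators. -/
theorem exists_tower_h1 [IsImmersion i] [IsImmersion j] (hi : RegImm.IsRegularImmersion RegImm.Kind.h1 i)
    (z : Z) {V : Z.Opens} (hV : z ∈ V) :
    ∃ U : X.Opens, Tower i j U ∧ z ∈ i ⁻¹ᵁ (j ⁻¹ᵁ U) ∧ i ⁻¹ᵁ (j ⁻¹ᵁ U) ≤ V ∧
      ∃ (n : ℕ) (f : Fin n → Γ(Y, j ⁻¹ᵁ U)), CAlgX.IsH1Regular f ∧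
        RingHom.ker (i.app (j ⁻¹ᵁ U)).hom = Ideal.span (Set.range f) := by
  obtain ⟨⟨VY, hVY⟩, hzY, hc, rs, hrs, hker⟩ := hi.2 z
  obtain ⟨U, T, hz, hV', hUO, hk, hj⟩ := exists_tower i j z hV (O := VY) hzY
  obtain ⟨b, hbU, hzb⟩ := hVY.exists_basicOpen_le (V := j ⁻¹ᵁ U) ⟨i z, hz⟩ hzY
  obtain ⟨a, ha⟩ := T.surjY (Y.presheaf.map (homOfLE hUO).op b)
  have hpre : j ⁻¹ᵁ X.basicOpen a = Y.basicOpen b := by
    rw [Scheme.preimage_basicOpen, ha]
    refine (Y.basicOpen_res b (homOfLE hUO).op).trans (inf_eq_right.2 hbU)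
  have hle : X.basicOpen a ≤ U := X.basicOpen_le a
  refine ⟨X.basicOpen a, tower_of_le i j (T.affU.basicOpen a) (hle.trans hk) (hle.trans hj), ?_,
    fun y hy => hV' (hle hy), ?_⟩
  · show i z ∈ j ⁻¹ᵁ X.basicOpen a
    rw [hpre]
    exact hzb
  · suffices key : ∀ O : Y.Opens, O = Y.basicOpen b → ∃ (n : ℕ) (f : Fin n → Γ(Y, O)), CAlgX.IsH1Regular f ∧
        RingHom.ker (i.app O).hom = Ideal.span (Set.range f) from key _ hpre
    rintro _ rfl
    letI : Algebra Γ(Y, VY) Γ(Y, Y.basicOpen b) := (Y.presheaf.map (homOfLE (Y.basicOpen_le b)).op).hom.toAlgebra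
    haveI : IsLocalization.Away b Γ(Y, Y.basicOpen b) := hVY.isLocalization_basicOpen b
    obtain ⟨-, hk'⟩ := RelDivLib.closed_and_ker_pullback (IsPullback.id_horiz i) hVY hc (hVY.basicOpen b)
      (V := Y.basicOpen b) (Y.basicOpen_le b)
    refine ⟨rs.length, fun k => algebraMap Γ(Y, VY) _ (rs.get k),
      RelDivLib.isH1Regular_map (Submonoid.powers b) hrs, ?_⟩
    rw [hk', show RingHom.ker (i.app VY).hom = Ideal.ofList rs from hker]
    rw [show Ideal.ofList rs = Ideal.span (Set.range rs.get) by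
      rw [Set.range_list_get], Ideal.map_span, ← Set.range_comp]
    congr 2

variable {i j} [QuasiCompact i] [QuasiCompact j]
  {a : (Scheme.Modules.pullback i).obj (Omega.conormal j) ⟶ Omega.conormal (i ≫ j)}
  (ha : OmegaSh.IsConormalMap (i ≫ j) j (𝟙 X) i a)
  {b : (Scheme.Modules.pullback (𝟙 Z)).obj (Omega.conormal (i ≫ j)) ⟶ Omega.conormal i}
  (hb : OmegaSh.IsConormalMap i (i ≫ j) j (𝟙 Z) b)
  {U : X.Opens}

namespace Tower

variable (T : Tower i j U)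

include T in
theorem surjK : Function.Surjective ((i ≫ j).app U) := fun c => by
  obtain ⟨y, hy⟩ := T.surjW c
  obtain ⟨x, hx⟩ := T.surjY y
  exact ⟨x, (congrArg (i.app (j ⁻¹ᵁ U)) hx).trans hy⟩

omit [QuasiCompact i] [QuasiCompact j] in
theorem kerK : RingHom.ker ((i ≫ j).app U).hom = (RingHom.ker (i.app (j ⁻¹ᵁ U)).hom).comap (j.app U).hom := by
  ext x; rfl

include ha in
theorem exists_a_apply (s' : Γ(ClSub.idealMod j.ker, U)) :
    ∃ s : Γ(ClSub.idealMod (i ≫ j).ker, U), OmegaSh.idealSect (i ≫ j).ker U s = OmegaSh.idealSect j.ker U s' ∧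
      a.app (i ⁻¹ᵁ (j ⁻¹ᵁ U)) (PullbackMod.pullMap i (Omega.conormal j) (W := j ⁻¹ᵁ U) (W' := i ⁻¹ᵁ (j ⁻¹ᵁ U)) le_rfl
          (PullbackMod.pullMap j (ClSub.idealMod j.ker) (W := U) (W' := j ⁻¹ᵁ U) le_rfl s')) =
        PullbackMod.pullMap (i ≫ j) (ClSub.idealMod (i ≫ j).ker) (W := U) (W' := i ⁻¹ᵁ (j ⁻¹ᵁ U)) le_rfl s := by
  obtain ⟨s, hs⟩ := exists_idealSect_eq (i ≫ j) U (OmegaSh.idealSect j.ker U s') (by
    show i.app (j ⁻¹ᵁ U) (j.app U _) = 0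
    rw [app_idealSect, map_zero])
  refine ⟨s, hs, conormalMap_apply (i ≫ j) j (𝟙 X) i ha (U' := U) (U := U) le_rfl le_rfl le_rfl le_rfl s' s ?_⟩
  rw [hs]
  simp only [Scheme.Hom.appLE, Scheme.Hom.id_app, Category.id_comp]
  exact congr($(X.presheaf.map_id _) _).symm

/-- The second map of the transitivity sequence. -/
noncomputable abbrev snd (b : (Scheme.Modules.pullback (𝟙 Z)).obj (Omega.conormal (i ≫ j)) ⟶ Omega.conormal i) :
    Omega.conormal (i ≫ j) ⟶ Omega.conormal i :=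
  (Scheme.Modules.pullbackId Z).inv.app (Omega.conormal (i ≫ j)) ≫ b

include hb in
theorem exists_b_apply (s : Γ(ClSub.idealMod (i ≫ j).ker, U)) :
    ∃ t : Γ(ClSub.idealMod i.ker, j ⁻¹ᵁ U), OmegaSh.idealSect i.ker (j ⁻¹ᵁ U) t = j.app U (OmegaSh.idealSect (i ≫ j).ker U s) ∧
      (snd b).app (i ⁻¹ᵁ (j ⁻¹ᵁ U))
          (PullbackMod.pullMap (i ≫ j) (ClSub.idealMod (i ≫ j).ker) (W := U) (W' := i ⁻¹ᵁ (j ⁻¹ᵁ U)) le_rfl s) =
        PullbackMod.pullMap i (ClSub.idealMod i.ker) (W := j ⁻¹ᵁ U) (W' := i ⁻¹ᵁ (j ⁻¹ᵁ U)) le_rfl t := by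
  obtain ⟨t, ht⟩ := exists_idealSect_eq i (j ⁻¹ᵁ U) (j.app U (OmegaSh.idealSect (i ≫ j).ker U s))
    (app_idealSect (i ≫ j) U s)
  refine ⟨t, ht, ?_⟩
  refine Eq.trans ?_ (conormalMap_apply i (i ≫ j) j (𝟙 Z) hb (U' := U) (U := j ⁻¹ᵁ U) (W' := i ⁻¹ᵁ (j ⁻¹ᵁ U))
    (W := i ⁻¹ᵁ (j ⁻¹ᵁ U)) le_rfl le_rfl le_rfl le_rfl s t (by rw [ht, Scheme.Hom.app_eq_appLE]))
  show b.app _ (((Scheme.Modules.pullbackId Z).inv.app (Omega.conormal (i ≫ j))).app _ _) = _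
  rw [pullbackId_inv_app]
  exact congrArg _ (congr($(((Scheme.Modules.pullback (𝟙 Z)).obj (Omega.conormal (i ≫ j))).presheaf.map_id _) _)).symm

include T in
omit [QuasiCompact i] in
theorem exists_gen (n : Γ((Scheme.Modules.pullback i).obj (Omega.conormal j), i ⁻¹ᵁ (j ⁻¹ᵁ U))) :
    ∃ s' : Γ(ClSub.idealMod j.ker, U), n = PullbackMod.pullMap i (Omega.conormal j) (W := j ⁻¹ᵁ U) (W' := i ⁻¹ᵁ (j ⁻¹ᵁ U)) le_rfl
      (PullbackMod.pullMap j (ClSub.idealMod j.ker) (W := U) (W' := j ⁻¹ᵁ U) le_rfl s') := by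
  haveI := OmegaAffLib.isQCoh_idealMod j.ker
  haveI : Coh.IsQCoh (Omega.conormal j) := PullbackMod.isQCoh_pullback j (ClSub.idealMod j.ker)
  obtain ⟨c, rfl⟩ := (pullMap_surjective_and_eq_zero_iff i T.affY T.affW T.surjW (Omega.conormal j)).1 n
  obtain ⟨s', rfl⟩ := (cls_surjective_and_eq_zero_iff j T.affU T.affY T.surjY).1 c
  exact ⟨s', rfl⟩

include T ha hb in
theorem comp_apply_eq_zero (n : Γ((Scheme.Modules.pullback i).obj (Omega.conormal j), i ⁻¹ᵁ (j ⁻¹ᵁ U))) :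
    (snd b).app (i ⁻¹ᵁ (j ⁻¹ᵁ U)) (a.app (i ⁻¹ᵁ (j ⁻¹ᵁ U)) n) = 0 := by
  obtain ⟨s', rfl⟩ := T.exists_gen n
  obtain ⟨s, hs, he⟩ := exists_a_apply ha s'
  obtain ⟨t, ht, he'⟩ := exists_b_apply hb s
  rw [he, he', show t = 0 from OmegaAffLib.idealSect_injective i.ker _ (by rw [ht, hs, app_idealSect, map_zero]), map_zero]

include T hb in
theorem snd_surjective : Function.Surjective ((snd b).app (i ⁻¹ᵁ (j ⁻¹ᵁ U))) := by
  intro c
  obtain ⟨t, rfl⟩ := (cls_surjective_and_eq_zero_iff i T.affY T.affW T.surjW).1 c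
  obtain ⟨x, hx⟩ := T.surjY (OmegaSh.idealSect i.ker (j ⁻¹ᵁ U) t)
  obtain ⟨s, hs⟩ := exists_idealSect_eq (i ≫ j) U x (by
    show i.app (j ⁻¹ᵁ U) (j.app U x) = 0
    rw [hx, app_idealSect])
  obtain ⟨t', ht', he⟩ := exists_b_apply hb s
  refine ⟨_, he.trans (congrArg _ (OmegaAffLib.idealSect_injective i.ker _ ?_))⟩
  rw [ht', hs, hx]

include T ha hb in
theorem exists_lift (c : Γ(Omega.conormal (i ≫ j), i ⁻¹ᵁ (j ⁻¹ᵁ U))) (hc : (snd b).app (i ⁻¹ᵁ (j ⁻¹ᵁ U)) c = 0) :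
    ∃ n, a.app (i ⁻¹ᵁ (j ⁻¹ᵁ U)) n = c := by
  obtain ⟨hsurj, hker⟩ := cls_surjective_and_eq_zero_iff (i ≫ j) T.affU T.affW T.surjK
  obtain ⟨s, rfl⟩ := hsurj c
  obtain ⟨t, ht, he⟩ := exists_b_apply hb s
  have hsq : j.app U (OmegaSh.idealSect (i ≫ j).ker U s) ∈
      (RingHom.ker ((i ≫ j).app U).hom * RingHom.ker ((i ≫ j).app U).hom).map (j.app U).hom := by
    rw [Ideal.map_mul, kerK, Ideal.map_comap_of_surjective _ T.surjY, ← ht]
    exact (cls_surjective_and_eq_zero_iff i T.affY T.affW T.surjW).2 t |>.mp (he.symm.trans hc)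
  obtain ⟨q, hq, hqe⟩ := (Ideal.mem_map_iff_of_surjective _ T.surjY).mp hsq
  obtain ⟨s', hs'⟩ := exists_idealSect_eq j U (OmegaSh.idealSect (i ≫ j).ker U s - q) (by
    rw [map_sub]; exact sub_eq_zero.mpr hqe.symm)
  obtain ⟨s₁, hs₁, he₁⟩ := exists_a_apply ha s'
  refine ⟨_, he₁.trans ?_⟩
  have hdiff : PullbackMod.pullMap (i ≫ j) (ClSub.idealMod (i ≫ j).ker) (W := U) (W' := i ⁻¹ᵁ (j ⁻¹ᵁ U)) le_rfl (s - s₁) = 0 :=
    (hker _).mpr (by rw [map_sub, hs₁, hs', sub_sub_cancel]; exact hq)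
  rw [map_sub, sub_eq_zero] at hdiff
  exact hdiff.symm

include T ha in
theorem eq_zero_of_h1 {n : ℕ} {f : Fin n → Γ(Y, j ⁻¹ᵁ U)} (hf : CAlgX.IsH1Regular f)
    (hker : RingHom.ker (i.app (j ⁻¹ᵁ U)).hom = Ideal.span (Set.range f))
    (c : Γ((Scheme.Modules.pullback i).obj (Omega.conormal j), i ⁻¹ᵁ (j ⁻¹ᵁ U)))
    (hc : a.app (i ⁻¹ᵁ (j ⁻¹ᵁ U)) c = 0) : c = 0 := by
  obtain ⟨s', rfl⟩ := T.exists_gen c
  obtain ⟨s, hs, he⟩ := exists_a_apply ha s'
  rw [he] at hc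
  have hc' := ((cls_surjective_and_eq_zero_iff (i ≫ j) T.affU T.affW T.surjK).2 s).mp hc
  rw [hs, kerK, hker] at hc'
  have hx := mem_mul_of_h1 (j.app U).hom T.surjY hf (app_idealSect j U s') hc'
  clear he hs hc hc'
  generalize hy : OmegaSh.idealSect j.ker U s' = y at hx
  induction hx using Submodule.mul_induction_on' generalizing s' with
  | mem_mul_mem p hp q hq =>
    obtain ⟨sq, hsq⟩ := exists_idealSect_eq j U q hq
    rw [show s' = p • sq from OmegaAffLib.idealSect_injective j.ker U (by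
      rw [hy, OmegaAffLib.idealSect_smul, hsq])]
    rw [PullbackMod.pullMap_smul]
    refine (PullbackMod.pullMap_smul i (Omega.conormal j) le_rfl _ _).trans ?_
    rw [show i.appLE (j ⁻¹ᵁ U) (i ⁻¹ᵁ (j ⁻¹ᵁ U)) le_rfl (j.appLE U (j ⁻¹ᵁ U) le_rfl p) = 0 by
      rw [← Scheme.Hom.app_eq_appLE, ← Scheme.Hom.app_eq_appLE, ← RingHom.mem_ker, hker]; exact hp, zero_smul]
  | add p hp q hq ihp ihq =>
    have hle : (Ideal.span (Set.range f)).comap (j.app U).hom * RingHom.ker (j.app U).hom ≤ RingHom.ker (j.app U).hom :=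
      Ideal.mul_le_right
    obtain ⟨sp, hsp⟩ := exists_idealSect_eq j U p (hle hp)
    obtain ⟨sq, hsq⟩ := exists_idealSect_eq j U q (hle hq)
    rw [show s' = sp + sq from OmegaAffLib.idealSect_injective j.ker U (by rw [hy, map_add, hsp, hsq]), map_add]
    refine (map_add _ _ _).trans ?_
    rw [ihp sp hsp, ihq sq hsq, add_zero]

include T in
omit [QuasiCompact j] in
theorem nonempty_free {n : ℕ} {f : Fin n → Γ(Y, j ⁻¹ᵁ U)} (hf : CAlgX.IsH1Regular f)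
    (hker : RingHom.ker (i.app (j ⁻¹ᵁ U)).hom = Ideal.span (Set.range f)) :
    Nonempty ((Omega.conormal i).restrict (i ⁻¹ᵁ (j ⁻¹ᵁ U)).ι ≅ FlatMod.freeMod (↑(i ⁻¹ᵁ (j ⁻¹ᵁ U))) n) := by
  haveI := OmegaAffLib.isQCoh_idealMod i.ker
  haveI : Coh.IsQCoh (Omega.conormal i) := PullbackMod.isQCoh_pullback i (ClSub.idealMod i.ker)
  obtain ⟨hsurj, hz⟩ := cls_surjective_and_eq_zero_iff i T.affY T.affW T.surjW
  choose s hs using fun k => exists_idealSect_eq i (j ⁻¹ᵁ U) (f k) (by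
    rw [← RingHom.mem_ker, hker]; exact Ideal.subset_span ⟨k, rfl⟩)
  let cl : Γ(ClSub.idealMod i.ker, j ⁻¹ᵁ U) → Γ(Omega.conormal i, i ⁻¹ᵁ (j ⁻¹ᵁ U)) :=
    PullbackMod.pullMap i (ClSub.idealMod i.ker) (W := j ⁻¹ᵁ U) (W' := i ⁻¹ᵁ (j ⁻¹ᵁ U)) le_rfl
  let L : (Fin n → Γ(Z, i ⁻¹ᵁ (j ⁻¹ᵁ U))) →ₗ[Γ(Z, i ⁻¹ᵁ (j ⁻¹ᵁ U))] Γ(Omega.conormal i, i ⁻¹ᵁ (j ⁻¹ᵁ U)) :=
    Fintype.linearCombination Γ(Z, i ⁻¹ᵁ (j ⁻¹ᵁ U)) fun k => cl (s k)
  have hsum : ∀ b : Fin n → Γ(Y, j ⁻¹ᵁ U), cl (∑ k, b k • s k) = L (fun k => i.app (j ⁻¹ᵁ U) (b k)) := fun b => by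
    refine (map_sum (PullbackMod.pullMap i (ClSub.idealMod i.ker) (W := j ⁻¹ᵁ U) (W' := i ⁻¹ᵁ (j ⁻¹ᵁ U)) le_rfl) _ _).trans ?_
    refine Eq.trans ?_ (Fintype.linearCombination_apply _ _ _).symm
    refine Finset.sum_congr rfl fun k _ => ?_
    refine (PullbackMod.pullMap_smul i (ClSub.idealMod i.ker) le_rfl (b k) (s k)).trans ?_
    rw [← Scheme.Hom.app_eq_appLE]
  have hval : ∀ b : Fin n → Γ(Y, j ⁻¹ᵁ U),
      OmegaSh.idealSect i.ker (j ⁻¹ᵁ U) (∑ k, b k • s k) = ∑ k, b k * f k := fun b => by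
    rw [map_sum]
    exact Finset.sum_congr rfl fun k _ => by rw [OmegaAffLib.idealSect_smul, hs]
  have hinj : Function.Injective L := by
    refine (injective_iff_map_eq_zero _).mpr fun c hc => ?_
    choose b hb' using fun k => T.surjW (c k)
    have h := (hz (∑ k, b k • s k)).mp ((hsum b).trans (by simpa only [hb'] using hc))
    rw [hval, hker] at h
    funext k
    rw [← hb' k, Pi.zero_apply, ← RingHom.mem_ker, hker]
    exact coeff_mem_of_h1 hf b h k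
  have hsur : Function.Surjective L := by
    intro c
    obtain ⟨t, rfl⟩ := hsurj c
    have ht := app_idealSect i (j ⁻¹ᵁ U) t
    rw [← RingHom.mem_ker, hker, Ideal.mem_span_range_iff_exists_fun] at ht
    obtain ⟨b, hb'⟩ := ht
    exact ⟨_, (hsum b).symm.trans (congrArg cl (OmegaAffLib.idealSect_injective i.ker _ ((hval b).trans hb')))⟩
  exact FlatLocus.nonempty_iso_freeMod _ T.affW n (LinearEquiv.ofBijective L ⟨hinj, hsur⟩).symm

end Tower

variable [IsImmersion i] [IsImmersion j]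

include ha hb in
/-- The transitivity sequence for an H₁-regular immersion. -/
theorem transitivity_of_h1 (hi : RegImm.IsRegularImmersion RegImm.Kind.h1 i) :
    a ≫ Tower.snd b = 0 ∧
      (∀ w : a ≫ Tower.snd b = 0, (ShortComplex.mk a (Tower.snd b) w).ShortExact) ∧
      FlatMod.IsFinLocFree (Omega.conormal i) := by
  have w₀ : a ≫ Tower.snd b = 0 := by
    refine (PullbackMod.eq_zero_iff_stalk _).mpr fun z => LinearMap.ext fun t => ?_
    obtain ⟨V, hz, m, rfl⟩ := TopCat.Presheaf.exists_germ_eq ((Scheme.Modules.pullback i).obj (Omega.conormal j)).presheaf t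
    obtain ⟨U, T, hzU, hle, -⟩ := exists_tower i j z hz (O := ⊤) trivial
    rw [LinearMap.zero_apply, ← TopCat.Presheaf.germ_res_apply _ (homOfLE hle) z hzU m, PullbackMod.stalkLin_germ]
    show _ = (0 : _)
    rw [show (a ≫ Tower.snd b).app _ _ = 0 from T.comp_apply_eq_zero ha hb _, map_zero]
  refine ⟨w₀, fun w => { exact := ?_, mono_f := ?_, epi_g := ?_ }, fun z => ?_⟩
  · refine exact_of_local a (Tower.snd b) w fun z V hz m hm => ?_
    obtain ⟨U, T, hzU, hle, -⟩ := exists_tower i j z hz (O := ⊤) trivial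
    exact ⟨_, hle, hzU, T.exists_lift ha hb _ (by rw [OmegaUnivLib.hom_natural, hm, map_zero])⟩
  · refine mono_of_local a fun z V hz m hm => ?_
    obtain ⟨U, T, hzU, hle, n, f, hf, hker⟩ := exists_tower_h1 i j hi z hz
    exact ⟨_, hle, hzU, T.eq_zero_of_h1 ha hf hker _ (by rw [OmegaUnivLib.hom_natural, hm, map_zero])⟩
  · refine epi_of_local (Tower.snd b) fun z V hz m => ?_
    obtain ⟨U, T, hzU, hle, -⟩ := exists_tower i j z hz (O := ⊤) trivial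
    exact ⟨_, hle, hzU, T.snd_surjective hb _⟩
  · obtain ⟨U, T, hzU, -, n, f, hf, hker⟩ := exists_tower_h1 i j hi z (V := ⊤) trivial
    exact ⟨_, n, hzU, T.nonempty_free hf hker⟩

end Groth.Agent.ConormalLib
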