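import Groth.Agent.ConormalLib.Seq
import Groth.Agent.ConormalLib.Cart
import Groth.Agent.ConormalLib.Trans
import Groth.Agent.FEtHom.Basic
import Groth.Prelude.Def_Omega3

/-!
# Local retractions of conormal maps of universal thickenings
-/

set_option autoImplicit false
set_option backward.isDefEq.respectTransparency false
set_option backward.defeqAttrib.useBackward true
set_option linter.style.haveILetI false
set_option maxHeartbeats 1000000

universe u

open CategoryTheory CategoryTheory.Limits AlgebraicGeometry TopologicalSpace Opposite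

namespace Groth.Agent.ConormalLib

/-- Formally smooth morphisms lift along square zero closed immersions into affine schemes. -/
theorem exists_lift_affine {X Y T T' : Scheme.{u}} {f : X ⟶ Y} (hf : MoreMor.IsFormallySmoothHom f)
    [IsAffine T'] (i : T ⟶ T') [IsClosedImmersion i] (hi : RingHom.ker i.appTop.hom ^ 2 = ⊥)
    (a : T ⟶ X) (b : T' ⟶ Y) (w : i ≫ b = a ≫ f) :
    ∃ l : T' ⟶ X, i ≫ l = a ∧ l ≫ f = b := by
  obtain ⟨_, hs⟩ := IsClosedImmersion.isAffine_surjective_of_isAffine i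
  let A := Γ(T', ⊤)
  let J : Ideal A := RingHom.ker i.appTop.hom
  let e := (RingHom.quotientKerEquivOfSurjective hs).toCommRingCatIso
  let k : Spec (CommRingCat.of (A ⧸ J)) ⟶ T := Spec.map e.inv ≫ T.isoSpec.inv
  haveI : IsIso k := by unfold k; infer_instance
  have hk : k ≫ i = Spec.map (CommRingCat.ofHom (Ideal.Quotient.mk J)) ≫ T'.isoSpec.inv := by
    rw [Category.assoc, ← Scheme.isoSpec_inv_naturality, ← Category.assoc, ← Spec.map_comp]
    congr 2
    ext x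
    exact RingHom.quotientKerEquivOfSurjective_symm_apply hs x
  obtain ⟨l, h₁, h₂⟩ := hf A J hi (k ≫ a) (T'.isoSpec.inv ≫ b)
    (by rw [← Category.assoc, ← hk, Category.assoc, w, ← Category.assoc])
  refine ⟨T'.isoSpec.hom ≫ l, ?_, ?_⟩
  · rw [← cancel_epi k, ← Category.assoc, hk, Category.assoc, Iso.inv_hom_id_assoc, h₁]
  · rw [Category.assoc, h₂, Iso.hom_inv_id_assoc]

/-- A thickening restricts to thickenings of affine opens. -/
theorem isFirstOrderThickening_morphismRestrict {Z Z' : Scheme.{u}} {i : Z ⟶ Z'} (h : MoreMor.IsFirstOrderThickening i)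
    {U : Z'.Opens} (hU : IsAffineOpen U) :
    MoreMor.IsFirstOrderThickening (i ∣_ U) ∧ RingHom.ker (i ∣_ U).appTop.hom ^ 2 = ⊥ := by
  obtain ⟨⟨hc, hs⟩, hsq⟩ := h
  haveI := hc
  haveI : IsClosedImmersion (i ∣_ U) := IsZariskiLocalAtTarget.restrict hc U
  haveI : IsAffine U.toScheme := hU
  have h2 : RingHom.ker (i.app U).hom ^ 2 = ⊥ := by
    have := congr($(hsq).ideal ⟨U, hU⟩)
    simpa [Scheme.IdealSheafData.ideal_mul, Scheme.Hom.ker_apply, pow_two] using this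
  have h3 := FEtHom.ker_morphismRestrict i U h2
  refine ⟨⟨⟨inferInstance, ⟨fun x => ?_⟩⟩, Scheme.IdealSheafData.ext_of_isAffine ?_⟩, h3⟩
  · obtain ⟨z, hz⟩ := hs.surj (U.ι x)
    have hzU : z ∈ i ⁻¹ᵁ U := by
      show i z ∈ U
      rw [hz]
      exact x.2
    refine ⟨⟨z, hzU⟩, U.ι.isOpenEmbedding.injective ?_⟩
    rw [← Scheme.Hom.comp_apply, morphismRestrict_ι]
    exact hz
  · rw [pow_two] at h3
    simpa [Scheme.IdealSheafData.ideal_mul, Scheme.Hom.ker_apply] using h3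

variable {Z Z' Z'' : Scheme.{u}} {i' : Z ⟶ Z'} {i'' : Z ⟶ Z''} {k : Z' ⟶ Z''} [QuasiCompact i'] [QuasiCompact i'']
  {ψ : (Scheme.Modules.pullback (𝟙 Z)).obj (Omega.conormal i'') ⟶ Omega.conormal i'}

/-- A local section of the map of thickenings gives a local left inverse of the conormal map. -/
theorem exists_retraction [IsImmersion i''] (hψ : OmegaSh.IsConormalMap i' i'' k (𝟙 Z) ψ) (U' : Z''.Opens)
    [QuasiCompact (i'' ∣_ U')] [IsImmersion (i'' ∣_ U')]
    (σ : U'.toScheme ⟶ Z') (hσ₁ : (i'' ∣_ U') ≫ σ = (i'' ⁻¹ᵁ U').ι ≫ i') (hσ₂ : σ ≫ k = U'.ι) :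
    ∃ r : (Scheme.Modules.restrictFunctor (i'' ⁻¹ᵁ U').ι).obj (Omega.conormal i') ⟶
          (Scheme.Modules.restrictFunctor (i'' ⁻¹ᵁ U').ι).obj ((Scheme.Modules.pullback (𝟙 Z)).obj (Omega.conormal i'')),
      (Scheme.Modules.restrictFunctor (i'' ⁻¹ᵁ U').ι).map ψ ≫ r = 𝟙 _ := by
  let W := i'' ⁻¹ᵁ U'
  let C'' := Omega.conormal i''
  obtain ⟨φσ, hφσ, -⟩ := existsUnique_conormalMap (i'' ∣_ U') i' σ W.ι hσ₁.symm
  have hP := isPullback_morphismRestrict i'' U'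
  obtain ⟨ρ, hρ, huniq⟩ := existsUnique_conormalMap (i'' ∣_ U') i'' U'.ι W.ι hP.w.symm
  haveI : IsIso ρ := (epi_and_isIso_of_isPullback hP hρ).2 inferInstance
  let pid := (Scheme.Modules.pullbackId Z).app C''
  have hid : (Scheme.Modules.pullback W.ι).map (pid.inv ≫ ψ) ≫ φσ = ρ := by
    refine huniq _ ⟨hP.w.symm, fun V'' s'' s hs O h₁ h₂ => ?_⟩
    let L := i'' ⁻¹ᵁ V''
    have hL : L ≤ i' ⁻¹ᵁ (k ⁻¹ᵁ V'') := fun z hz => by
      show k (i' z) ∈ V''
      rw [← Scheme.Hom.comp_apply, ← hψ.1, Category.id_comp]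
      exact hz
    obtain ⟨θ, hθ⟩ := exists_idealMap i' i'' k (𝟙 Z) hψ.1
    have e1 : (pid.inv ≫ ψ).app L (OmegaSh.conormalSect i'' V'' s'') =
        PullbackMod.pullMap i' (ClSub.idealMod i'.ker) hL (θ.app V'' s'') := by
      refine Eq.trans ?_ (conormalMap_apply i' i'' k (𝟙 Z) hψ (U' := V'') (U := k ⁻¹ᵁ V'') le_rfl (W' := L) le_rfl
        (W := L) le_rfl hL s'' (θ.app V'' s'') (by rw [hθ, Scheme.Hom.app_eq_appLE]))
      show ψ.app L (((Scheme.Modules.pullbackId Z).inv.app C'').app L _) = _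
      rw [pullbackId_inv_app]
      refine congrArg _ ?_
      refine (congr($(((Scheme.Modules.pullback (𝟙 Z)).obj C'').presheaf.map_id _) _)).symm.trans ?_
      exact congrArg (PullbackMod.pullMap (𝟙 Z) C'' (W := L) (W' := L) le_rfl)
        (congr($(((Scheme.Modules.pullback i'').obj (ClSub.idealMod i''.ker)).presheaf.map_id _) _)).symm
    have e2 : ∀ m : Γ(C'', L), ((Scheme.Modules.pullback W.ι).map (pid.inv ≫ ψ)).app (W.ι ⁻¹ᵁ L) (OmegaSh.pullSect W.ι C'' L m) =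
        OmegaSh.pullSect W.ι (Omega.conormal i') L ((pid.inv ≫ ψ).app L m) := fun m => by
      exact (congr($((Scheme.Modules.pullbackPushforwardAdjunction W.ι).unit.naturality (pid.inv ≫ ψ)).app L m)).symm
    refine (congrArg (fun t => (Omega.conormal (i'' ∣_ U')).presheaf.map (homOfLE h₁).op (φσ.app (W.ι ⁻¹ᵁ L) t))
      ((e2 (OmegaSh.conormalSect i'' V'' s'')).trans (congrArg (OmegaSh.pullSect W.ι (Omega.conormal i') L) e1))).trans ?_
    have hOU : U'.ι ⁻¹ᵁ V'' ≤ σ ⁻¹ᵁ (k ⁻¹ᵁ V'') := fun x hx => by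
      show k (σ x) ∈ V''
      rw [← Scheme.Hom.comp_apply, hσ₂]
      exact hx
    have h := conormalMap_apply (i'' ∣_ U') i' σ W.ι hφσ (U' := k ⁻¹ᵁ V'') (U := U'.ι ⁻¹ᵁ V'') hOU (W' := L) hL
      (W := O) h₁ h₂ (θ.app V'' s'') s (by
        rw [hs, hθ]
        show _ = (k.app V'' ≫ σ.appLE (k ⁻¹ᵁ V'') (U'.ι ⁻¹ᵁ V'') hOU) (OmegaSh.idealSect i''.ker V'' s'')
        rw [Scheme.Hom.app_eq_appLE, Scheme.Hom.app_eq_appLE, Scheme.Hom.appLE_comp_appLE]
        exact congr($(OmegaSh.appLE_congr_hom hσ₂.symm _ _) (OmegaSh.idealSect i''.ker V'' s'')))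
    refine (OmegaUnivLib.hom_natural φσ (homOfLE h₁) _).symm.trans (h.trans ?_)
    rfl
  let R := Scheme.Modules.restrictFunctorIsoPullback W.ι
  refine ⟨R.hom.app _ ≫ φσ ≫ inv ρ ≫ R.inv.app C'' ≫ (Scheme.Modules.restrictFunctor W.ι).map pid.inv, ?_⟩
  have h1 : (Scheme.Modules.pullback W.ι).map ψ ≫ φσ = (Scheme.Modules.pullback W.ι).map pid.hom ≫ ρ := by
    rw [← hid, ← Category.assoc, ← Functor.map_comp, Iso.hom_inv_id_assoc]
  rw [R.hom.naturality_assoc, reassoc_of% h1, IsIso.hom_inv_id_assoc, ← R.hom.naturality_assoc, Iso.hom_inv_id_app_assoc]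
  rw [← Functor.map_comp, Iso.hom_inv_id]
  exact (Scheme.Modules.restrictFunctor W.ι).map_id _

/-- A map of modules with local left inverses is a monomorphism. -/
theorem mono_of_retraction {X : Scheme.{u}} {M N : X.Modules} (φ : M ⟶ N)
    (h : ∀ x : X, ∃ (U : X.Opens) (r : (Scheme.Modules.restrictFunctor U.ι).obj N ⟶ (Scheme.Modules.restrictFunctor U.ι).obj M),
      x ∈ U ∧ (Scheme.Modules.restrictFunctor U.ι).map φ ≫ r = 𝟙 _) : Mono φ := by
  refine mono_of_local φ fun x V hx m hm => ?_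
  obtain ⟨U, r, hxU, hr⟩ := h x
  have hle : U.ι ''ᵁ (U.ι ⁻¹ᵁ V) ≤ V := by
    rintro _ ⟨y, hy, rfl⟩
    exact hy
  refine ⟨U.ι ''ᵁ (U.ι ⁻¹ᵁ V), hle, ⟨⟨x, hxU⟩, hx, rfl⟩, ?_⟩
  have h0 : φ.app (U.ι ''ᵁ (U.ι ⁻¹ᵁ V)) (M.presheaf.map (homOfLE hle).op m) = 0 := by
    rw [OmegaUnivLib.hom_natural, hm, map_zero]
  refine (congr($(hr).app (U.ι ⁻¹ᵁ V) (M.presheaf.map (homOfLE hle).op m))).symm.trans ?_
  show r.app _ (φ.app _ _) = _
  exact (congrArg (r.app (U.ι ⁻¹ᵁ V)) h0).trans (map_zero _)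

end Groth.Agent.ConormalLib
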