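import Groth.Agent.ConormalLib.ThickenOps
import Groth.Agent.ConormalLib.RingExist
import Groth.Agent.ConormalLib.SmoothRetr
import Groth.Agent.FEtHom.Basic

/-!
# Existence of universal first order thickenings of formally unramified morphisms
-/

set_option autoImplicit false
set_option backward.isDefEq.respectTransparency false
set_option backward.defeqAttrib.useBackward true
set_option linter.style.haveILetI false
set_option maxHeartbeats 1000000

universe u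

open CategoryTheory CategoryTheory.Limits AlgebraicGeometry TopologicalSpace Opposite

namespace Groth.Agent.ConormalLib

/-- Opens of a thickened scheme are restrictions of opens of the thickening. -/
theorem exists_preimage_eq {T T' : Scheme.{u}} (j : T ⟶ T') [IsClosedImmersion j] (V : T.Opens) :
    ∃ V' : T'.Opens, j ⁻¹ᵁ V' = V := by
  obtain ⟨O, hO, hV⟩ := (IsClosedImmersion.base_closed (f := j)).isEmbedding.isInducing.isOpen_iff.mp V.2
  exact ⟨⟨O, hO⟩, Opens.ext hV⟩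

/-- Universality of a thickening is local on the test thickening, with affine test thickenings. -/
theorem isUnivThickening_of_spec {Z X Z' : Scheme.{u}} {h : Z ⟶ X} {i : Z ⟶ Z'} {h' : Z' ⟶ X}
    (hi : MoreMor.IsFirstOrderThickening i) (w : i ≫ h' = h)
    (huniv : ∀ (A : Type u) [CommRing A] (I : Ideal A), I ^ 2 = ⊥ →
      ∀ (a : Spec (CommRingCat.of (A ⧸ I)) ⟶ Z) (b : Spec (CommRingCat.of A) ⟶ X),
        Spec.map (CommRingCat.ofHom (Ideal.Quotient.mk I)) ≫ b = a ≫ h →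
        ∃! l : Spec (CommRingCat.of A) ⟶ Z',
          Spec.map (CommRingCat.ofHom (Ideal.Quotient.mk I)) ≫ l = a ≫ i ∧ l ≫ h' = b) :
    OmegaSh.IsUnivThickening h i h' := by
  refine ⟨hi, w, fun T T' j b a hj hab => ?_⟩
  haveI := hj.1.1
  refine FEtHom.existsUnique_lift_of_local j (a ≫ i) b (by rw [Category.assoc, w]; exact hab)
    (fun W => IsAffineOpen W) (fun _ h => h) (fun O x hx => ?_) fun W hW => ?_
  · obtain ⟨_, ⟨W : T'.Opens, hW, rfl⟩, hxW, hWO⟩ := T'.isBasis_affineOpens.exists_subset_of_mem_open hx O.2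
    exact ⟨W, hW, hxW, hWO⟩
  · obtain ⟨hjW, hsq⟩ := isFirstOrderThickening_morphismRestrict hj hW
    haveI := hjW.1.1
    haveI : IsAffine W.toScheme := hW
    obtain ⟨_, hs⟩ := IsClosedImmersion.isAffine_surjective_of_isAffine (j ∣_ W)
    let A := Γ(W.toScheme, ⊤)
    let J : Ideal A := RingHom.ker (j ∣_ W).appTop.hom
    let e := (RingHom.quotientKerEquivOfSurjective hs).toCommRingCatIso
    let k : Spec (CommRingCat.of (A ⧸ J)) ⟶ (j ⁻¹ᵁ W).toScheme := Spec.map e.inv ≫ (j ⁻¹ᵁ W).toScheme.isoSpec.inv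
    haveI : IsIso k := by unfold k; infer_instance
    have hk : k ≫ (j ∣_ W) = Spec.map (CommRingCat.ofHom (Ideal.Quotient.mk J)) ≫ W.toScheme.isoSpec.inv := by
      rw [Category.assoc, ← Scheme.isoSpec_inv_naturality, ← Category.assoc, ← Spec.map_comp]
      congr 2
      ext x
      exact RingHom.quotientKerEquivOfSurjective_symm_apply hs x
    clear_value k
    obtain ⟨l, ⟨h₁, h₂⟩, hu⟩ := huniv A J hsq (k ≫ (j ⁻¹ᵁ W).ι ≫ a) (W.toScheme.isoSpec.inv ≫ W.ι ≫ b) (by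
      rw [← Category.assoc, ← hk, Category.assoc, ← Category.assoc (j ∣_ W), morphismRestrict_ι, Category.assoc, hab,
        Category.assoc, Category.assoc])
    refine ⟨W.toScheme.isoSpec.hom ≫ l, ⟨?_, ?_⟩, fun m ⟨m₁, m₂⟩ => ?_⟩
    · rw [← cancel_epi k, ← Category.assoc, hk, Category.assoc, Iso.inv_hom_id_assoc, h₁, Category.assoc, Category.assoc]
    · rw [Category.assoc, h₂, Iso.hom_inv_id_assoc]
    · rw [← hu (W.toScheme.isoSpec.inv ≫ m) ⟨?_, by rw [Category.assoc, m₂]⟩, Iso.hom_inv_id_assoc]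
      rw [← Category.assoc, ← hk, Category.assoc, m₁, Category.assoc, Category.assoc]

/-- A universal thickening of rings gives a universal thickening of spectra. -/
theorem isUnivThickening_spec (R S S' : Type u) [CommRing R] [CommRing S] [CommRing S'] [Algebra R S] [Algebra R S']
    (π : S' →ₐ[R] S) (hπ : OmegaSh.IsUnivThickeningRing R S S' π) :
    OmegaSh.IsUnivThickening (Spec.map (CommRingCat.ofHom (algebraMap R S)))
      (Spec.map (CommRingCat.ofHom π.toRingHom)) (Spec.map (CommRingCat.ofHom (algebraMap R S'))) := by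
  obtain ⟨hs, hsq, hu⟩ := hπ
  let e := (RingHom.quotientKerEquivOfSurjective (f := π.toRingHom) hs).toCommRingCatIso
  have hth : MoreMor.IsFirstOrderThickening (Spec.map (CommRingCat.ofHom π.toRingHom)) := by
    have he : Spec.map e.hom ≫ Spec.map (CommRingCat.ofHom (Ideal.Quotient.mk (RingHom.ker π.toRingHom))) =
        Spec.map (CommRingCat.ofHom π.toRingHom) := by
      rw [← Spec.map_comp]
      congr 1
    exact isFirstOrderThickening_of_isPullback (p := 𝟙 _) (q := Spec.map e.hom)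
      (IsPullback.of_horiz_isIso ⟨by rw [he, Category.comp_id]⟩) (isFirstOrderThickening_spec _ _ hsq)
  refine isUnivThickening_of_spec hth ?_ fun A _ I hI a b w => ?_
  · rw [← Spec.map_comp]
    congr 1
    ext r
    exact π.commutes r
  · obtain ⟨α, rfl⟩ := Spec.map_surjective a
    obtain ⟨β, rfl⟩ := Spec.map_surjective b
    rw [← Spec.map_comp, ← Spec.map_comp] at w
    have w' := Spec.map_injective w
    letI : Algebra R A := β.hom.toAlgebra
    let α' : S →ₐ[R] A ⧸ I := ⟨α.hom, fun r => congr($(w'.symm).hom r)⟩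
    obtain ⟨a', ha', huniq⟩ := hu A I hI α'
    refine ⟨Spec.map (CommRingCat.ofHom a'.toRingHom), ⟨?_, ?_⟩, fun m ⟨m₁, m₂⟩ => ?_⟩
    · rw [← Spec.map_comp, ← Spec.map_comp]
      congr 1
      ext x
      exact AlgHom.congr_fun ha' x
    · rw [← Spec.map_comp]
      congr 1
      ext r
      exact a'.commutes r
    · obtain ⟨μ, rfl⟩ := Spec.map_surjective m
      rw [← Spec.map_comp, ← Spec.map_comp] at m₁
      rw [← Spec.map_comp] at m₂
      let μ' : S' →ₐ[R] A := ⟨μ.hom, fun r => congr($(Spec.map_injective m₂).hom r)⟩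
      have hμ : μ' = a' := huniq μ' (AlgHom.ext fun x => congr($(Spec.map_injective m₁).hom x))
      rw [← hμ]
      rfl

/-- Universal thickenings may be transported along an isomorphism of the source. -/
theorem isUnivThickening_iso_comp {Z₀ Z X Z' : Scheme.{u}} {h : Z ⟶ X} {i : Z ⟶ Z'} {h' : Z' ⟶ X}
    (e : Z₀ ⟶ Z) [IsIso e] (hu : OmegaSh.IsUnivThickening h i h') :
    OmegaSh.IsUnivThickening (e ≫ h) (e ≫ i) h' := by
  refine ⟨isFirstOrderThickening_of_isPullback (p := 𝟙 _) (q := e)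
    (IsPullback.of_horiz_isIso ⟨by rw [Category.comp_id]⟩) hu.1, by rw [Category.assoc, hu.2.1],
    fun T T' j b a hj hab => ?_⟩
  simpa [Category.assoc] using hu.2.2 T T' j b (a ≫ e) hj (by rw [hab, Category.assoc])

/-- Universal thickenings over an open of the base are universal over the base. -/
theorem isUnivThickening_comp_openImmersion {Z U X Z' : Scheme.{u}} {h : Z ⟶ U} {i : Z ⟶ Z'} {h' : Z' ⟶ U}
    (g : U ⟶ X) [IsOpenImmersion g] (hu : OmegaSh.IsUnivThickening h i h') :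
    OmegaSh.IsUnivThickening (h ≫ g) i (h' ≫ g) := by
  refine ⟨hu.1, by rw [← Category.assoc, hu.2.1], fun T T' j b a hj hab => ?_⟩
  have hr : Set.range b ⊆ Set.range g := by
    rintro _ ⟨x, rfl⟩
    obtain ⟨t, rfl⟩ := hj.1.2.surj x
    rw [← Scheme.Hom.comp_apply, hab, ← Category.assoc]
    exact ⟨(a ≫ h) t, rfl⟩
  let b₀ := IsOpenImmersion.lift g b hr
  have hb₀ : b₀ ≫ g = b := IsOpenImmersion.lift_fac _ _ _
  obtain ⟨a', ⟨h₁, h₂⟩, huniq⟩ := hu.2.2 T T' j b₀ a hj (by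
    rw [← cancel_mono g, Category.assoc, hb₀, hab, Category.assoc])
  refine ⟨a', ⟨h₁, by rw [← Category.assoc, h₂, hb₀]⟩, fun y hy => huniq y ⟨hy.1, ?_⟩⟩
  rw [← cancel_mono g, hb₀, Category.assoc, hy.2]

/-- A formally unramified morphism has universal thickenings on small affine opens. -/
theorem exists_isUnivThickening_affine {Z X : Scheme.{u}} (h : Z ⟶ X) [FormallyUnramified h]
    {W : Z.Opens} (hW : IsAffineOpen W) {U : X.Opens} (hU : IsAffineOpen U) (hWU : W ≤ h ⁻¹ᵁ U) :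
    ∃ (Z' : Scheme.{u}) (i : W.toScheme ⟶ Z') (h' : Z' ⟶ X), OmegaSh.IsUnivThickening (W.ι ≫ h) i h' := by
  letI : Algebra Γ(X, U) Γ(Z, W) := (h.appLE U W hWU).hom.toAlgebra
  haveI : Algebra.FormallyUnramified Γ(X, U) Γ(Z, W) :=
    HasRingHomProperty.appLE @FormallyUnramified h inferInstance ⟨U, hU⟩ ⟨W, hW⟩ hWU
  obtain ⟨S', _, _, π, hπ⟩ := exists_isUnivThickeningRing Γ(X, U) Γ(Z, W)
  refine ⟨Spec (CommRingCat.of S'), hW.isoSpec.hom ≫ Spec.map (CommRingCat.ofHom π.toRingHom),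
    Spec.map (CommRingCat.ofHom (algebraMap Γ(X, U) S')) ≫ hU.fromSpec, ?_⟩
  have he : W.ι ≫ h = (hW.isoSpec.hom ≫ Spec.map (CommRingCat.ofHom (algebraMap Γ(X, U) Γ(Z, W)))) ≫ hU.fromSpec := by
    rw [Category.assoc]
    show _ = hW.isoSpec.hom ≫ Spec.map (h.appLE U W hWU) ≫ hU.fromSpec
    rw [IsAffineOpen.SpecMap_appLE_fromSpec h hU hW hWU, IsAffineOpen.isoSpec_hom_fromSpec_assoc]
  rw [he]
  exact isUnivThickening_comp_openImmersion hU.fromSpec
    (isUnivThickening_iso_comp hW.isoSpec.hom (isUnivThickening_spec _ _ _ π hπ))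

/-- The map of universal thickenings over an open immersion is an open immersion. -/
theorem isOpenImmersion_of_univ {Z₁ Z₂ X Z₁' Z₂' : Scheme.{u}} {h : Z₂ ⟶ X} (g : Z₁ ⟶ Z₂) [IsOpenImmersion g]
    {i₁ : Z₁ ⟶ Z₁'} {h₁ : Z₁' ⟶ X} (hu₁ : OmegaSh.IsUnivThickening (g ≫ h) i₁ h₁)
    {i₂ : Z₂ ⟶ Z₂'} {h₂ : Z₂' ⟶ X} (hu₂ : OmegaSh.IsUnivThickening h i₂ h₂)
    (m : Z₁' ⟶ Z₂') (hm₁ : i₁ ≫ m = g ≫ i₂) (hm₂ : m ≫ h₂ = h₁) : IsOpenImmersion m := by
  haveI := hu₂.1.1.1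
  obtain ⟨V', hV'⟩ := exists_preimage_eq i₂ g.opensRange
  have hrg : Set.range (g ≫ i₂) ⊆ Set.range V'.ι := by
    rintro _ ⟨z, rfl⟩
    rw [Scheme.Opens.range_ι]
    show g z ∈ i₂ ⁻¹ᵁ V'
    rw [hV']
    exact ⟨z, rfl⟩
  let i' := IsOpenImmersion.lift V'.ι (g ≫ i₂) hrg
  have hi' : i' ≫ V'.ι = g ≫ i₂ := IsOpenImmersion.lift_fac _ _ _
  have hc : IsPullback i' g V'.ι i₂ :=
    IsOpenImmersion.isPullback i' g V'.ι i₂ hi'.symm (by rw [Scheme.Opens.opensRange_ι]; exact hV')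
  have hth := isFirstOrderThickening_of_isPullback hc.flip hu₂.1
  obtain ⟨n, ⟨hn₁, hn₂⟩, -⟩ := hu₁.2.2 Z₁ V'.toScheme i' (V'.ι ≫ h₂) (𝟙 _) hth (by
    rw [reassoc_of% hi', hu₂.2.1, Category.id_comp])
  rw [Category.id_comp] at hn₁
  have hrm : Set.range m ⊆ Set.range V'.ι := by
    rintro _ ⟨x, rfl⟩
    obtain ⟨z, rfl⟩ := hu₁.1.1.2.surj x
    rw [← Scheme.Hom.comp_apply, hm₁]
    exact hrg ⟨z, rfl⟩
  let m₀ := IsOpenImmersion.lift V'.ι m hrm
  have hm₀ : m₀ ≫ V'.ι = m := IsOpenImmersion.lift_fac _ _ _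
  have hi₁ : i₁ ≫ m₀ = i' := by rw [← cancel_mono V'.ι, Category.assoc, hm₀, hm₁, hi']
  have e₁ : m₀ ≫ n = 𝟙 _ :=
    (hu₁.2.2 Z₁ Z₁' i₁ h₁ (𝟙 _) hu₁.1 (by rw [hu₁.2.1, Category.id_comp])).unique
      ⟨by rw [reassoc_of% hi₁, hn₁, Category.id_comp],
        by rw [Category.assoc, hn₂, reassoc_of% hm₀, hm₂]⟩
      ⟨by rw [Category.id_comp, Category.comp_id], Category.id_comp _⟩
  have e₂ : n ≫ m₀ = 𝟙 _ := by
    rw [← cancel_mono V'.ι, Category.assoc, hm₀, Category.id_comp]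
    exact (hu₂.2.2 Z₁ V'.toScheme i' (V'.ι ≫ h₂) g hth (by rw [reassoc_of% hi', hu₂.2.1])).unique
      ⟨by rw [reassoc_of% hn₁, hm₁], by rw [Category.assoc, hm₂, hn₂]⟩ ⟨hi', rfl⟩
  haveI : IsIso m₀ := ⟨n, e₁, e₂⟩
  rw [← hm₀]
  infer_instance

section Glue

variable {Z X : Scheme.{u}} (h : Z ⟶ X)

/-- Affine opens of the source inside the preimage of an affine open of the base. -/
abbrev SmallAffine : Type u :=
  {W : Z.Opens // IsAffineOpen W ∧ ∃ U : X.Opens, IsAffineOpen U ∧ W ≤ h ⁻¹ᵁ U}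

/-- There are small affine opens around every point. -/
theorem exists_smallAffine {O : Z.Opens} {z : Z} (hz : z ∈ O) : ∃ W : SmallAffine h, z ∈ W.1 ∧ W.1 ≤ O := by
  obtain ⟨U, hU, hzU, -⟩ := exists_isAffineOpen_mem_and_subset (U := (⊤ : X.Opens)) (x := h z) trivial
  obtain ⟨W, hW, hzW, hWO⟩ := exists_isAffineOpen_mem_and_subset (U := O ⊓ h ⁻¹ᵁ U) (x := z) ⟨hz, hzU⟩
  exact ⟨⟨W, hW, U, hU, hWO.trans inf_le_right⟩, hzW, hWO.trans inf_le_left⟩

variable [FormallyUnramified h]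

theorem exists_glueData : ∃ (P : SmallAffine h → Scheme.{u}) (i : ∀ W, W.1.toScheme ⟶ P W) (c : ∀ W, P W ⟶ X),
    ∀ W, OmegaSh.IsUnivThickening (W.1.ι ≫ h) (i W) (c W) := by
  choose P i c hu using fun W : SmallAffine h =>
    exists_isUnivThickening_affine h W.2.1 W.2.2.choose_spec.1 W.2.2.choose_spec.2
  exact ⟨P, i, c, hu⟩

/-- A formally unramified morphism has a universal first order thickening. -/
theorem exists_isUnivThickening :
    ∃ (Z' : Scheme.{u}) (i : Z ⟶ Z') (h' : Z' ⟶ X), OmegaSh.IsUnivThickening h i h' := by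
  obtain ⟨P, iW, c, hu⟩ := exists_glueData h
  have hw : ∀ {W₁ W₂ : SmallAffine h} (hle : W₁ ≤ W₂),
      iW W₁ ≫ c W₁ = Z.homOfLE hle ≫ W₂.1.ι ≫ h := fun {W₁ W₂} hle => by
    rw [(hu W₁).2.1, Scheme.homOfLE_ι_assoc]
  choose m hm hmu using fun (W₁ W₂ : SmallAffine h) (hle : W₁ ≤ W₂) =>
    (hu W₂).2.2 _ _ (iW W₁) (c W₁) (Z.homOfLE hle) (hu W₁).1 (hw hle)
  let F : SmallAffine h ⥤ Scheme.{u} :=
    { obj := P
      map := fun {W₁ W₂} f => m W₁ W₂ (leOfHom f)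
      map_id := fun W => (hmu W W le_rfl _ ⟨by rw [Scheme.homOfLE_rfl, Category.id_comp, Category.comp_id],
        Category.id_comp _⟩).symm
      map_comp := fun {W₁ W₂ W₃} f g => (hmu W₁ W₃ (leOfHom (f ≫ g)) _
        ⟨by rw [reassoc_of% (hm W₁ W₂ (leOfHom f)).1, (hm W₂ W₃ (leOfHom g)).1, Scheme.homOfLE_homOfLE_assoc],
          by rw [Category.assoc, (hm W₂ W₃ (leOfHom g)).2, (hm W₁ W₂ (leOfHom f)).2]⟩).symm }
  have hFi : ∀ {W₁ W₂ : SmallAffine h} (f : W₁ ⟶ W₂), iW W₁ ≫ F.map f = Z.homOfLE (leOfHom f) ≫ iW W₂ :=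
    fun f => (hm _ _ (leOfHom f)).1
  haveI hopen : ∀ {W₁ W₂ : SmallAffine h} (f : W₁ ⟶ W₂), IsOpenImmersion (F.map f) := fun {W₁ W₂} f =>
    isOpenImmersion_of_univ (Z.homOfLE (leOfHom f))
      (by rw [Scheme.homOfLE_ι_assoc]; exact hu W₁) (hu W₂) _ (hFi f) (hm _ _ (leOfHom f)).2
  have hFi' : ∀ {W₁ W₂ : SmallAffine h} (f : W₁ ⟶ W₂) (z : W₁.1.toScheme),
      F.map f (iW W₁ z) = iW W₂ (Z.homOfLE (leOfHom f) z) := fun f z => by
    rw [← Scheme.Hom.comp_apply, hFi, Scheme.Hom.comp_apply]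
  haveI hdir : (F ⋙ Scheme.forget).IsLocallyDirected := by
    refine ⟨fun {W₁ W₂ W₃} f₁ f₂ x₁ x₂ he => ?_⟩
    obtain ⟨z₁, rfl⟩ := (hu W₁).1.1.2.surj x₁
    obtain ⟨z₂, rfl⟩ := (hu W₂).1.1.2.surj x₂
    change F.map f₁ (iW W₁ z₁) = F.map f₂ (iW W₂ z₂) at he
    rw [hFi', hFi'] at he
    haveI := (hu W₃).1.1.1
    have h12 : W₁.1.ι z₁ = W₂.1.ι z₂ := by
      have := congrArg W₃.1.ι ((iW W₃).isClosedEmbedding.injective he)
      rwa [← Scheme.Hom.comp_apply, ← Scheme.Hom.comp_apply, Scheme.homOfLE_ι, Scheme.homOfLE_ι] at this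
    obtain ⟨L, hzL, hL⟩ := exists_smallAffine h (O := W₁.1 ⊓ W₂.1) (z := W₁.1.ι z₁)
      ⟨z₁.2, by rw [h12]; exact z₂.2⟩
    refine ⟨L, homOfLE (show L ≤ W₁ from hL.trans inf_le_left), homOfLE (show L ≤ W₂ from hL.trans inf_le_right),
      iW L ⟨W₁.1.ι z₁, hzL⟩, ?_, ?_⟩
    · show F.map _ (iW L _) = iW W₁ z₁
      rw [hFi']
      congr 1
      refine W₁.1.ι.isOpenEmbedding.injective ?_
      rw [← Scheme.Hom.comp_apply, Scheme.homOfLE_ι]
      rfl
    · show F.map _ (iW L _) = iW W₂ z₂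
      rw [hFi']
      congr 1
      refine W₂.1.ι.isOpenEmbedding.injective ?_
      rw [← Scheme.Hom.comp_apply, Scheme.homOfLE_ι]
      exact h12
  let Z' := colimit F
  let ι : ∀ W : SmallAffine h, P W ⟶ Z' := fun W => colimit.ι F W
  have hι : ∀ {W₁ W₂ : SmallAffine h} (f : W₁ ⟶ W₂), F.map f ≫ ι W₂ = ι W₁ := fun f => colimit.w F f
  have hsup : (⨆ W : SmallAffine h, W.1) = ⊤ := top_le_iff.mp fun z _ => by
    obtain ⟨W, hW, -⟩ := exists_smallAffine h (O := ⊤) (z := z) trivial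
    exact Opens.mem_iSup.mpr ⟨W, hW⟩
  let 𝒰 := Z.openCoverOfIsOpenCover (fun W : SmallAffine h => W.1) hsup
  have hcompat : ∀ W₁ W₂ : SmallAffine h,
      pullback.fst W₁.1.ι W₂.1.ι ≫ iW W₁ ≫ ι W₁ = pullback.snd W₁.1.ι W₂.1.ι ≫ iW W₂ ≫ ι W₂ := by
    intro W₁ W₂
    refine Scheme.hom_ext_of_forall _ _ fun x => ?_
    let p := pullback.fst W₁.1.ι W₂.1.ι ≫ W₁.1.ι
    have hp : p = pullback.snd W₁.1.ι W₂.1.ι ≫ W₂.1.ι := pullback.condition
    have h₁ : p x ∈ W₁.1 := (pullback.fst W₁.1.ι W₂.1.ι x).2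
    have h₂ : p x ∈ W₂.1 := by rw [hp]; exact (pullback.snd W₁.1.ι W₂.1.ι x).2
    obtain ⟨L, hxL, hL⟩ := exists_smallAffine h (O := W₁.1 ⊓ W₂.1) (z := p x) ⟨h₁, h₂⟩
    refine ⟨p ⁻¹ᵁ L.1, hxL, ?_⟩
    have e1 : (p ⁻¹ᵁ L.1).ι ≫ pullback.fst W₁.1.ι W₂.1.ι = (p ∣_ L.1) ≫ Z.homOfLE (hL.trans inf_le_left) := by
      rw [← cancel_mono W₁.1.ι]; simp [p]
    have e2 : (p ⁻¹ᵁ L.1).ι ≫ pullback.snd W₁.1.ι W₂.1.ι = (p ∣_ L.1) ≫ Z.homOfLE (hL.trans inf_le_right) := by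
      rw [← cancel_mono W₂.1.ι, Category.assoc, ← hp]; simp
    have key : ∀ {W : SmallAffine h} (hle : L ≤ W), Z.homOfLE hle ≫ iW W ≫ ι W = iW L ≫ ι L := fun {W} hle => by
      rw [← hι (homOfLE hle), reassoc_of% (hFi (homOfLE hle))]
    rw [← Category.assoc, e1, Category.assoc, key (hL.trans inf_le_left), ← Category.assoc _ (pullback.snd _ _), e2,
      Category.assoc, key (hL.trans inf_le_right)]
  let i : Z ⟶ Z' := 𝒰.glueMorphisms (fun W => iW W ≫ ι W) hcompat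
  have hi : ∀ W : SmallAffine h, W.1.ι ≫ i = iW W ≫ ι W := fun W => 𝒰.ι_glueMorphisms _ hcompat W
  let cc : Cocone F :=
    { pt := X
      ι := { app := c
             naturality := fun {W₁ W₂} f => by
               show F.map f ≫ c W₂ = c W₁ ≫ 𝟙 X
               rw [Category.comp_id]
               exact (hm _ _ (leOfHom f)).2 } }
  let h' : Z' ⟶ X := colimit.desc F cc
  have hh' : ∀ W, ι W ≫ h' = c W := fun W => colimit.ι_desc cc W
  have hih : i ≫ h' = h := 𝒰.hom_ext _ _ fun W => by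
    show W.1.ι ≫ i ≫ h' = W.1.ι ≫ h
    rw [reassoc_of% (hi W), hh', (hu W).2.1]
  have hcart : ∀ W : SmallAffine h, IsPullback (iW W) W.1.ι (ι W) i := by
    intro W
    refine IsOpenImmersion.isPullback _ _ _ _ (hi W) (Opens.ext ?_)
    rw [Scheme.Opens.opensRange_ι]
    ext z
    constructor
    · rintro ⟨y, hy⟩
      obtain ⟨w, rfl⟩ := (hu W).1.1.2.surj y
      obtain ⟨V, hzV, -⟩ := exists_smallAffine h (O := ⊤) (z := z) trivial
      have hz : i z = ι V (iW V ⟨z, hzV⟩) := by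
        rw [← Scheme.Hom.comp_apply, ← hi, Scheme.Hom.comp_apply]; rfl
      rw [hz] at hy
      obtain ⟨L, fW, fV, x, hx₁, hx₂⟩ := (Scheme.IsLocallyDirected.ι_eq_ι_iff F).mp hy
      obtain ⟨u, rfl⟩ := (hu L).1.1.2.surj x
      rw [hFi'] at hx₂
      haveI := (hu V).1.1.1
      have h3 : L.1.ι u = z := by
        have := congrArg V.1.ι ((iW V).isClosedEmbedding.injective hx₂)
        rwa [← Scheme.Hom.comp_apply, Scheme.homOfLE_ι] at this
      exact h3 ▸ leOfHom fW u.2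
    · intro hz
      exact ⟨iW W ⟨z, hz⟩, by rw [← Scheme.Hom.comp_apply, ← hi, Scheme.Hom.comp_apply]; rfl⟩
  haveI hci : IsClosedImmersion i := by
    refine (IsZariskiLocalAtTarget.iff_of_openCover (P := @IsClosedImmersion)
      (Scheme.IsLocallyDirected.openCover F)).mpr fun W => ?_
    have e := (hcart W).flip.isoPullback_inv_snd
    show IsClosedImmersion (pullback.snd i (ι W))
    rw [← e]
    haveI := (hu W).1.1.1
    infer_instance
  have hsur : Surjective i := ⟨fun x => by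
    obtain ⟨W, y, rfl⟩ := Scheme.IsLocallyDirected.ι_jointly_surjective F x
    obtain ⟨z, rfl⟩ := (hu W).1.1.2.surj y
    exact ⟨W.1.ι z, by rw [← Scheme.Hom.comp_apply, hi, Scheme.Hom.comp_apply]⟩⟩
  have hsq : i.ker * i.ker = ⊥ := by
    refine Scheme.IdealSheafData.ext_of_iSup_eq_top
      (fun V : {V : Z'.affineOpens // ∃ W, V.1 ≤ (ι W).opensRange} => V.1) ?_ fun V => ?_
    · refine eq_top_iff.mpr fun x _ => ?_
      obtain ⟨W, y, rfl⟩ := Scheme.IsLocallyDirected.ι_jointly_surjective F x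
      obtain ⟨V, hV, hxV, hVle⟩ := exists_isAffineOpen_mem_and_subset (U := (ι W).opensRange) (x := ι W y) ⟨y, rfl⟩
      exact Opens.mem_iSup.mpr ⟨⟨⟨V, hV⟩, W, hVle⟩, hxV⟩
    · obtain ⟨⟨V, hV⟩, W, hVle⟩ := V
      simp only [Scheme.IdealSheafData.ideal_mul, Scheme.IdealSheafData.ideal_bot, Pi.mul_apply, Pi.bot_apply,
        Scheme.Hom.ker_apply]
      rw [eq_bot_iff]
      refine Submodule.mul_le.mpr fun p hp q hq => ?_
      have hker : ∀ r, i.app V r = 0 → (iW W).app (ι W ⁻¹ᵁ V) ((ι W).app V r) = 0 := fun r hr => by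
        show ((iW W ≫ ι W).app V) r = 0
        rw [Scheme.Hom.congr_app (hi W).symm V]
        show W.1.toScheme.presheaf.map _ ((W.1.ι).app _ (i.app V r)) = 0
        rw [hr, map_zero, map_zero]
      have h0 : (ι W).app V (p * q) = 0 := by
        rw [map_mul]
        exact mul_eq_zero_of_thickening (hu W).1 (hker p hp) (hker q hq)
      haveI := (ι W).isIso_app V hVle
      refine (Submodule.mem_bot _).mpr ((ConcreteCategory.bijective_of_isIso ((ι W).app V)).1 ?_)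
      rw [h0, map_zero]
  refine ⟨Z', i, h', ⟨⟨hci, hsur⟩, hsq⟩, hih, fun T T' j b a hj hab => ?_⟩
  haveI := hj.1.1
  refine FEtHom.existsUnique_lift_of_local j (a ≫ i) b (by rw [Category.assoc, hih]; exact hab)
    (fun V => IsAffineOpen V ∧ ∃ W : SmallAffine h, j ⁻¹ᵁ V ≤ a ⁻¹ᵁ W.1) (fun _ h => h.1) (fun O x hx => ?_) ?_
  · obtain ⟨t, rfl⟩ := hj.1.2.surj x
    obtain ⟨W, htW, -⟩ := exists_smallAffine h (O := ⊤) (z := a t) trivial
    obtain ⟨O', hO'⟩ := exists_preimage_eq j (a ⁻¹ᵁ W.1)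
    have htO' : j t ∈ O' := by
      show t ∈ j ⁻¹ᵁ O'
      rw [hO']; exact htW
    obtain ⟨V, hV, hxV, hVle⟩ := exists_isAffineOpen_mem_and_subset (U := O ⊓ O') (x := j t) ⟨hx, htO'⟩
    exact ⟨V, ⟨hV, W, hO' ▸ j.preimage_mono (hVle.trans inf_le_right)⟩, hxV, hVle.trans inf_le_left⟩
  · rintro V ⟨hV, W, hle⟩
    have hjV := (isFirstOrderThickening_morphismRestrict hj hV).1
    have hr : Set.range ((j ⁻¹ᵁ V).ι ≫ a) ⊆ Set.range W.1.ι := by
      rintro _ ⟨t, rfl⟩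
      rw [Scheme.Opens.range_ι]
      exact hle t.2
    let aV := IsOpenImmersion.lift W.1.ι ((j ⁻¹ᵁ V).ι ≫ a) hr
    have haV : aV ≫ W.1.ι = (j ⁻¹ᵁ V).ι ≫ a := IsOpenImmersion.lift_fac _ _ _
    obtain ⟨a', ⟨h₁, h₂⟩, huniq⟩ := (hu W).2.2 _ _ (j ∣_ V) (V.ι ≫ b) aV hjV (by
      rw [morphismRestrict_ι_assoc, hab, reassoc_of% haV])
    have hai : aV ≫ iW W ≫ ι W = (j ⁻¹ᵁ V).ι ≫ a ≫ i := by
      rw [← hi W, reassoc_of% haV]
    refine ⟨a' ≫ ι W, ⟨?_, ?_⟩, fun l ⟨l₁, l₂⟩ => ?_⟩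
    · rw [reassoc_of% h₁, hai]
    · rw [Category.assoc, hh', h₂]
    · have hrl : Set.range l ⊆ Set.range (ι W) := by
        rintro _ ⟨x, rfl⟩
        obtain ⟨t, rfl⟩ := hjV.1.2.surj x
        rw [← Scheme.Hom.comp_apply, l₁, ← hai, ← Category.assoc]
        exact ⟨(aV ≫ iW W) t, rfl⟩
      let l₀ := IsOpenImmersion.lift (ι W) l hrl
      have hl₀ : l₀ ≫ ι W = l := IsOpenImmersion.lift_fac _ _ _
      rw [← hl₀, huniq l₀ ⟨?_, ?_⟩]
      · rw [← cancel_mono (ι W), Category.assoc, hl₀, l₁, Category.assoc, hai]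
      · rw [← hh', reassoc_of% hl₀, l₂]

end Glue

end Groth.Agent.ConormalLib
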