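import Mathlib

/-!
# The conormal sequences of ideals and differentials of rings
-/

set_option autoImplicit false
set_option linter.style.haveILetI false

universe u v w

open KaehlerDifferential

namespace Groth.Agent.ConormalLib

variable {A' : Type u} {A : Type u} [CommRing A'] [CommRing A] [Algebra A' A]
  (I : Ideal A) (J : Ideal A')

/-- If `A'` surjects onto `A ⧸ I`, every differential is `d x` modulo `I`, with `x` in `I`. -/
theorem exists_D_sub_mem (hs : ∀ a, ∃ a', a - algebraMap A' A a' ∈ I) (w : Ω[A⁄A']) :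
    ∃ x ∈ I, w - D A' A x ∈ (I • ⊤ : Submodule A Ω[A⁄A']) := by
  have hw : w ∈ Submodule.span A (Set.range (D A' A)) := by
    rw [span_range_derivation]; trivial
  induction hw using Submodule.span_induction with
  | mem y hy =>
    obtain ⟨a, rfl⟩ := hy
    obtain ⟨a', ha⟩ := hs a
    refine ⟨a - algebraMap A' A a', ha, ?_⟩
    rw [map_sub, Derivation.map_algebraMap, sub_zero, sub_self]
    exact zero_mem _
  | zero => exact ⟨0, zero_mem _, by simp⟩
  | add y z _ _ hy hz =>
    obtain ⟨x₁, h₁, e₁⟩ := hy
    obtain ⟨x₂, h₂, e₂⟩ := hz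
    refine ⟨x₁ + x₂, add_mem h₁ h₂, ?_⟩
    rw [map_add, show y + z - (D A' A x₁ + D A' A x₂) = (y - D A' A x₁) + (z - D A' A x₂) by abel]
    exact add_mem e₁ e₂
  | smul c y _ hy =>
    obtain ⟨x, hx, e⟩ := hy
    refine ⟨c * x, I.mul_mem_left c hx, ?_⟩
    rw [Derivation.leibniz, show c • y - (c • D A' A x + x • D A' A c) =
      c • (y - D A' A x) - x • D A' A c by rw [smul_sub]; abel]
    exact sub_mem (Submodule.smul_mem _ _ e) (Submodule.smul_mem_smul hx trivial)

/-- An element of `I` whose differential lies in `I Ω` lies in `J A + I²`. -/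
theorem mem_sup_of_D_mem (hJI : J.map (algebraMap A' A) ≤ I)
    (hs : ∀ a, ∃ a', a - algebraMap A' A a' ∈ I) (hJ : ∀ a', algebraMap A' A a' ∈ I → a' ∈ J)
    {x : A} (hx : x ∈ I) (hd : D A' A x ∈ (I • ⊤ : Submodule A Ω[A⁄A'])) :
    x ∈ J.map (algebraMap A' A) ⊔ I * I := by
  let Q := J.map (algebraMap A' A) ⊔ I * I
  let C := A ⧸ Q
  let mk : A →+* C := Ideal.Quotient.mk Q
  choose t ht using hs
  have hJ0 : ∀ a', a' ∈ J → mk (algebraMap A' A a') = 0 := fun a' h =>
    Ideal.Quotient.eq_zero_iff_mem.mpr (Ideal.mem_sup_left (Ideal.mem_map_of_mem _ h))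
  have hII : ∀ p q : A, p ∈ I → q ∈ I → mk p * mk q = 0 := fun p q hp hq => by
    rw [← map_mul]
    exact Ideal.Quotient.eq_zero_iff_mem.mpr (Ideal.mem_sup_right (Ideal.mul_mem_mul hp hq))
  -- `τ a` is the deviation of `a` from the image of `A'`
  let τ : A → C := fun a => mk (a - algebraMap A' A (t a))
  have hτ : ∀ a a', a - algebraMap A' A a' ∈ I → τ a = mk (a - algebraMap A' A a') := fun a a' h => by
    have hmem : algebraMap A' A (t a - a') ∈ I := by
      rw [map_sub, show algebraMap A' A (t a) - algebraMap A' A a' =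
        (a - algebraMap A' A a') - (a - algebraMap A' A (t a)) by abel]
      exact sub_mem h (ht a)
    have h0 := hJ0 _ (hJ _ hmem)
    rw [map_sub, map_sub, sub_eq_zero] at h0
    show mk (a - algebraMap A' A (t a)) = mk (a - algebraMap A' A a')
    rw [map_sub, map_sub, h0]
  have hτadd : ∀ a b, τ (a + b) = τ a + τ b := fun a b => by
    rw [hτ (a + b) (t a + t b) (by rw [map_add, show a + b - (algebraMap A' A (t a) + algebraMap A' A (t b)) = (a - algebraMap A' A (t a)) + (b - algebraMap A' A (t b)) by abel]; exact add_mem (ht a) (ht b))]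
    show _ = mk (a - algebraMap A' A (t a)) + mk (b - algebraMap A' A (t b))
    rw [← map_add, map_add (algebraMap A' A)]
    congr 1
    abel
  let δ : Derivation A' A C := Derivation.mk'
    { toFun := τ
      map_add' := hτadd
      map_smul' := fun r a => by
        rw [RingHom.id_apply, hτ (r • a) (r * t a) (by
          rw [Algebra.smul_def, map_mul, ← mul_sub]; exact I.mul_mem_left _ (ht a))]
        show mk _ = r • mk (a - algebraMap A' A (t a))
        rw [Algebra.smul_def, Algebra.smul_def, map_mul (algebraMap A' A), ← mul_sub, map_mul,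
          IsScalarTower.algebraMap_apply A' A C]
        rfl }
    (fun a b => by
      show τ (a * b) = mk a * τ b + mk b * τ a
      rw [hτ (a * b) (t a * t b) (by
        rw [map_mul, show a * b - algebraMap A' A (t a) * algebraMap A' A (t b) = a * (b - algebraMap A' A (t b)) + algebraMap A' A (t b) * (a - algebraMap A' A (t a)) by ring]
        exact add_mem (I.mul_mem_left _ (ht b)) (I.mul_mem_left _ (ht a)))]
      show _ = mk a * mk (b - algebraMap A' A (t b)) + mk b * mk (a - algebraMap A' A (t a))
      have h := hII _ _ (ht a) (ht b)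
      rw [← map_mul] at h
      rw [← map_mul, ← map_mul, ← map_add, ← sub_eq_zero, ← map_sub, ← neg_eq_zero, ← map_neg, ← h]
      congr 1
      rw [map_mul]
      ring)
  let L : Ω[A⁄A'] →ₗ[A] C := δ.liftKaehlerDifferential
  have hL : ∀ a, L (D A' A a) = τ a := fun a => Derivation.liftKaehlerDifferential_comp_D δ a
  have hker : ∀ c ∈ I, ∀ w : Ω[A⁄A'], mk c * L w = 0 := by
    intro c hc w
    have hw : w ∈ Submodule.span A (Set.range (D A' A)) := by
      rw [span_range_derivation]; trivial
    induction hw using Submodule.span_induction with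
    | mem y hy =>
      obtain ⟨a, rfl⟩ := hy
      rw [hL]
      exact hII _ _ hc (ht a)
    | zero => rw [map_zero, mul_zero]
    | add y z _ _ hy hz => rw [map_add, mul_add, hy, hz, add_zero]
    | smul r y _ hy =>
      rw [map_smul]
      show mk c * (mk r * L y) = 0
      rw [mul_left_comm, hy, mul_zero]
  have h0 : L (D A' A x) = 0 := by
    refine Submodule.smul_induction_on hd (fun c hc w _ => ?_) (fun y z hy hz => by rw [map_add, hy, hz, add_zero])
    rw [map_smul]
    exact hker c hc w
  rw [hL, hτ x 0 (by simpa using hx), map_zero, sub_zero] at h0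
  exact Ideal.Quotient.eq_zero_iff_mem.mp h0

/-- For a formally smooth algebra the ideal of the base injects into `I / I²`. -/
theorem mem_sq_of_algebraMap_mem [Algebra.FormallySmooth A' A] (hJI : J.map (algebraMap A' A) ≤ I)
    (hs : ∀ a, ∃ a', a - algebraMap A' A a' ∈ I) (hJ : ∀ a', algebraMap A' A a' ∈ I → a' ∈ J)
    {x' : A'} (hx' : x' ∈ J) (hsq : algebraMap A' A x' ∈ I * I) : x' ∈ J * J := by
  choose t ht using hs
  let P : A →+* A' ⧸ J :=
    { toFun := fun a => Ideal.Quotient.mk J (t a)
      map_one' := by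
        rw [← map_one (Ideal.Quotient.mk J), Ideal.Quotient.eq]
        apply hJ
        rw [map_sub, map_one, ← neg_sub]
        exact neg_mem (ht 1)
      map_mul' := fun a b => by
        rw [← map_mul, Ideal.Quotient.eq]
        apply hJ
        rw [map_sub, map_mul, show algebraMap A' A (t (a * b)) - algebraMap A' A (t a) * algebraMap A' A (t b) =
          -(a * b - algebraMap A' A (t (a * b))) + a * (b - algebraMap A' A (t b)) + algebraMap A' A (t b) * (a - algebraMap A' A (t a)) by ring]
        exact add_mem (add_mem (neg_mem (ht _)) (I.mul_mem_left _ (ht b))) (I.mul_mem_left _ (ht a))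
      map_zero' := by
        rw [← map_zero (Ideal.Quotient.mk J), Ideal.Quotient.eq]
        apply hJ
        rw [map_sub, map_zero, ← neg_sub]
        exact neg_mem (ht 0)
      map_add' := fun a b => by
        rw [← map_add, Ideal.Quotient.eq]
        apply hJ
        rw [map_sub, map_add, show algebraMap A' A (t (a + b)) - (algebraMap A' A (t a) + algebraMap A' A (t b)) =
          -(a + b - algebraMap A' A (t (a + b))) + (a - algebraMap A' A (t a)) + (b - algebraMap A' A (t b)) by ring]
        exact add_mem (add_mem (neg_mem (ht _)) (ht a)) (ht b) }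
  have hP : ∀ a', P (algebraMap A' A a') = Ideal.Quotient.mk J a' := fun a' => by
    show Ideal.Quotient.mk J (t (algebraMap A' A a')) = _
    rw [Ideal.Quotient.eq]
    apply hJ
    rw [map_sub, ← neg_sub]
    exact neg_mem (ht _)
  let J₂ : Ideal (A' ⧸ J * J) := J.map (Ideal.Quotient.mk (J * J))
  have hnil : IsNilpotent J₂ := ⟨2, by
    rw [pow_two, ← Ideal.map_mul, Ideal.map_quotient_self]
    rfl⟩
  let e : A' ⧸ J →+* (A' ⧸ J * J) ⧸ J₂ :=
    Ideal.Quotient.lift J ((Ideal.Quotient.mk J₂).comp (Ideal.Quotient.mk (J * J))) fun a ha =>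
      Ideal.Quotient.eq_zero_iff_mem.mpr (Ideal.mem_map_of_mem _ ha)
  let g : A →ₐ[A'] (A' ⧸ J * J) ⧸ J₂ :=
    { e.comp P with
      commutes' := fun a' => by
        show e (P (algebraMap A' A a')) = _
        rw [hP]
        rfl }
  let s : A →ₐ[A'] A' ⧸ J * J := Algebra.FormallySmooth.lift J₂ hnil g
  have hsI : ∀ a ∈ I, s a ∈ J₂ := fun a ha => by
    rw [← Ideal.Quotient.eq_zero_iff_mem, Algebra.FormallySmooth.mk_lift]
    show e (P a) = 0
    have : P a = 0 := by
      show Ideal.Quotient.mk J (t a) = 0
      refine Ideal.Quotient.eq_zero_iff_mem.mpr (hJ _ ?_)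
      rw [show algebraMap A' A (t a) = a - (a - algebraMap A' A (t a)) by abel]
      exact sub_mem ha (ht a)
    rw [this, map_zero]
  have h1 : s (algebraMap A' A x') ∈ J₂ * J₂ := by
    refine Submodule.mul_induction_on hsq (fun p hp q hq => ?_) (fun p q hp hq => ?_)
    · rw [map_mul]; exact Ideal.mul_mem_mul (hsI p hp) (hsI q hq)
    · rw [map_add]; exact add_mem hp hq
  have h2 : J₂ * J₂ = ⊥ := by rw [← Ideal.map_mul, Ideal.map_quotient_self]
  rw [h2, Ideal.mem_bot, AlgHom.commutes] at h1
  exact Ideal.Quotient.eq_zero_iff_mem.mp h1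

/-- A base change along a surjection is the quotient by the kernel. -/
theorem surjective_and_eq_zero_iff {B : Type v} [CommRing B] [Algebra A B]
    (hsurj : Function.Surjective (algebraMap A B)) {M : Type w} [AddCommGroup M] [Module A M]
    {N : Type w} [AddCommGroup N] [Module A N] [Module B N] [IsScalarTower A B N] {f : M →ₗ[A] N}
    (hf : IsBaseChange B f) :
    Function.Surjective f ∧ ∀ m, f m = 0 ↔ m ∈ (RingHom.ker (algebraMap A B) • ⊤ : Submodule A M) := by
  have hle : RingHom.ker (algebraMap A B) • (⊤ : Submodule A M) ≤ LinearMap.ker f := by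
    refine Submodule.smul_le.mpr fun a ha m _ => ?_
    rw [LinearMap.mem_ker, map_smul, ← algebraMap_smul B a, show algebraMap A B a = 0 from ha, zero_smul]
  refine ⟨?_, fun m => ⟨fun hm => ?_, fun hm => hle hm⟩⟩
  · have hS : Submodule.span B (Set.range f) = ⊤ := by
      refine Submodule.eq_top_iff'.mpr fun n => ?_
      induction n using hf.inductionOn with
      | zero => exact zero_mem _
      | tmul m => exact Submodule.subset_span ⟨m, rfl⟩
      | smul b n hn => exact Submodule.smul_mem _ _ hn
      | add n₁ n₂ h₁ h₂ => exact add_mem h₁ h₂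
    intro n
    have hn : n ∈ Submodule.span B (Set.range f) := by rw [hS]; trivial
    induction hn using Submodule.span_induction with
    | mem y hy => exact hy
    | zero => exact ⟨0, map_zero f⟩
    | add y z _ _ hy hz =>
      obtain ⟨a, rfl⟩ := hy
      obtain ⟨b, rfl⟩ := hz
      exact ⟨a + b, map_add f a b⟩
    | smul b y _ hy =>
      obtain ⟨a, rfl⟩ := hy
      obtain ⟨r, rfl⟩ := hsurj b
      exact ⟨r • a, by rw [map_smul, algebraMap_smul]⟩
  · let K : Ideal A := RingHom.ker (algebraMap A B)
    let E := TensorProduct.quotTensorEquivQuotSMul M K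
    let eB : (A ⧸ K) →ₗ[A] B :=
      (Ideal.Quotient.liftₐ K (Algebra.ofId A B) fun a ha => ha).toLinearMap
    have heB : Function.Bijective eB := by
      constructor
      · refine (injective_iff_map_eq_zero _).mpr fun q hq => ?_
        obtain ⟨a, rfl⟩ := Ideal.Quotient.mk_surjective q
        exact Ideal.Quotient.eq_zero_iff_mem.mpr hq
      · intro b
        obtain ⟨a, rfl⟩ := hsurj b
        exact ⟨Ideal.Quotient.mk K a, rfl⟩
    let ψ : TensorProduct A (A ⧸ K) M ≃ₗ[A] TensorProduct A B M :=
      TensorProduct.congr (LinearEquiv.ofBijective eB heB) (LinearEquiv.refl A M)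
    have h1 : hf.equiv (ψ ((1 : A ⧸ K) ⊗ₜ[A] m)) = 0 := by
      rw [show ψ ((1 : A ⧸ K) ⊗ₜ[A] m) = (1 : B) ⊗ₜ[A] m from by
        rw [TensorProduct.congr_tmul]
        exact congrArg (· ⊗ₜ[A] m) (map_one (Ideal.Quotient.liftₐ K (Algebra.ofId A B) fun a ha => ha))]
      rw [hf.equiv_tmul, one_smul, hm]
    rw [LinearEquiv.map_eq_zero_iff, LinearEquiv.map_eq_zero_iff] at h1
    have h2 := congrArg E h1
    rw [map_zero, ← map_one (Ideal.Quotient.mk K), TensorProduct.quotTensorEquivQuotSMul_mk_tmul, one_smul] at h2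
    exact (Submodule.Quotient.mk_eq_zero _).mp h2

/-- The image of `I • ⊤` under an injective map into the ring with range `I` is `I * I`. -/
theorem map_smul_top_eq {M : Type w} [AddCommGroup M] [Module A M] (f : M →ₗ[A] A)
    (hf : LinearMap.range f = I) : (I • (⊤ : Submodule A M)).map f = I * I := by
  rw [Submodule.map_smul'', Submodule.map_top, hf]
  rfl

end Groth.Agent.ConormalLib
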