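import Groth.Agent.PullbackMod.Hom
import Groth.Agent.OmegaAffLib.Ideal
import Groth.Agent.RegIdealLib.Immersion
import Groth.Agent.ConormalLib.Ring
import Groth.Agent.OmegaUnivLib.Basic

/-!
# Ideal sections and conormal sections of an immersion on affine charts
-/

set_option autoImplicit false
set_option backward.isDefEq.respectTransparency false
set_option backward.defeqAttrib.useBackward true
set_option linter.style.haveILetI false

universe u

open CategoryTheory CategoryTheory.Limits AlgebraicGeometry TopologicalSpace Opposite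
open Groth.Agent.CohBase

namespace Groth.Agent.ConormalLib

variable {X Z : Scheme.{u}}

/-- An immersion is closed over affine opens inside its coborder. -/
theorem chart_of_le (i : Z ⟶ X) [IsImmersion i] {U : X.Opens} (hU : IsAffineOpen U) (hUW : U ≤ i.coborderRange) :
    IsAffineOpen (i ⁻¹ᵁ U) ∧ Function.Surjective (i.app U) := by
  have hc : IsClosedImmersion (i ∣_ U) := by
    let W := i.coborderRange
    have hV : W.ι ''ᵁ (W.ι ⁻¹ᵁ U) = U := by
      rw [Scheme.Hom.image_preimage_eq_opensRange_inf, Scheme.Opens.opensRange_ι]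
      exact inf_eq_right.2 hUW
    have h0 : IsClosedImmersion (i ∣_ W) := by
      have hfac : i ∣_ W = (i ⁻¹ᵁ W).ι ≫ i.liftCoborder := by
        rw [← cancel_mono W.ι, morphismRestrict_ι, Category.assoc, i.liftCoborder_ι]
      haveI : IsClosedImmersion (i ⁻¹ᵁ W).ι := IsClosedImmersion.of_isPreimmersion _ (by
        rw [Scheme.Opens.range_ι, show ((i ⁻¹ᵁ W : Z.Opens) : Set Z) = Set.univ from
          Set.eq_univ_of_forall fun y => subset_coborder (Set.mem_range_self y)]
        exact isClosed_univ)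
      rw [hfac]
      infer_instance
    have h1 : IsClosedImmersion ((i ∣_ W) ∣_ (W.ι ⁻¹ᵁ U)) := IsZariskiLocalAtTarget.restrict h0 _
    rw [MorphismProperty.arrow_mk_iso_iff @IsClosedImmersion (morphismRestrictRestrict i W _)] at h1
    rwa [hV] at h1
  exact RegIdealLib.affine_and_surjective i hU hc

/-- An immersion is closed over small affine opens. -/
theorem exists_chart (i : Z ⟶ X) [IsImmersion i] (z : Z) {V : Z.Opens} (hV : z ∈ V) {O : X.Opens} (hO : i z ∈ O) :
    ∃ U : X.Opens, IsAffineOpen U ∧ i z ∈ U ∧ U ≤ O ∧ i ⁻¹ᵁ U ≤ V ∧ U ≤ i.coborderRange := by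
  obtain ⟨O', hO', hpre⟩ := i.isEmbedding.isInducing.isOpen_iff.mp V.2
  have hzO' : i z ∈ O' := by
    show z ∈ i ⁻¹' O'
    rw [hpre]; exact hV
  have hzW : i z ∈ i.coborderRange := subset_coborder (Set.mem_range_self z)
  obtain ⟨_, ⟨U : X.Opens, hU, rfl⟩, hzU, hle⟩ :=
    X.isBasis_affineOpens.exists_subset_of_mem_open (show i z ∈ (O : Set X) ∩ O' ∩ i.coborderRange from ⟨⟨hO, hzO'⟩, hzW⟩)
      ((O.2.inter hO').inter i.coborderRange.2)
  refine ⟨U, hU, hzU, fun x hx => (hle hx).1.1, fun y hy => ?_, fun x hx => (hle hx).2⟩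
  show y ∈ V.carrier
  rw [← hpre]
  exact (hle hy).1.2

theorem idealSect_res (K : X.IdealSheafData) {U V : X.Opens} (h : V ≤ U) (m : Γ(ClSub.idealMod K, U)) :
    OmegaSh.idealSect K V ((ClSub.idealMod K).presheaf.map (homOfLE h).op m) =
      X.presheaf.map (homOfLE h).op (OmegaSh.idealSect K U m) :=
  OmegaUnivLib.hom_natural (ClSub.idealModι K) (homOfLE h) m

theorem res_res {U V W : X.Opens} (h : V ≤ U) (h' : W ≤ V) (x : Γ(X, U)) :
    X.presheaf.map (homOfLE h').op (X.presheaf.map (homOfLE h).op x) = X.presheaf.map (homOfLE (h'.trans h)).op x := by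
  rw [← CommRingCat.comp_apply, ← Functor.map_comp]; rfl

/-- A local section of the ideal of `i` vanishes on `Z`. -/
theorem app_idealSect (i : Z ⟶ X) (U : X.Opens) (m : Γ(ClSub.idealMod i.ker, U)) :
    i.app U (OmegaSh.idealSect i.ker U m) = 0 := by
  have h0 : i.ker.subschemeι.app U (OmegaSh.idealSect i.ker U m) = 0 :=
    congr($(kernel.condition (ClSub.toSubscheme i.ker)).app U m)
  have h1 : i.app U = (i.toImage ≫ i.imageι).app U ≫ Z.presheaf.map (eqToHom (by rw [i.toImage_imageι])).op :=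
    Scheme.Hom.congr_app i.toImage_imageι.symm U
  rw [h1, Scheme.Hom.comp_app, CommRingCat.comp_apply, CommRingCat.comp_apply]
  erw [h0, map_zero, map_zero]

/-- A function vanishing on `Z` is a section of the ideal of `i`. -/
theorem exists_idealSect_eq (i : Z ⟶ X) [QuasiCompact i] (U : X.Opens) (x : Γ(X, U)) (hx : i.app U x = 0) :
    ∃ m : Γ(ClSub.idealMod i.ker, U), OmegaSh.idealSect i.ker U m = x := by
  suffices h0 : i.ker.subschemeι.app U x = 0 from
    ⟨OmegaSh.kerLift (ClSub.toSubscheme i.ker) U (OmegaSh.strSect X U x)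
      ((OmegaSh.toSubscheme_app_strSect U i.ker x).trans h0), OmegaSh.ι_kerLift _ _ _ _⟩
  refine TopCat.Sheaf.eq_of_locally_eq' i.ker.subscheme.sheaf
    (fun V : {V : X.affineOpens // V.1 ≤ U} => i.ker.subschemeι ⁻¹ᵁ V.1.1) _
    (fun V => homOfLE (i.ker.subschemeι.preimage_mono V.2)) ?_ _ _ fun V => ?_
  · intro y hy
    obtain ⟨_, ⟨W : X.Opens, hW, rfl⟩, hyW, hWU⟩ := X.isBasis_affineOpens.exists_subset_of_mem_open hy U.2
    exact Opens.mem_iSup.2 ⟨⟨⟨W, hW⟩, hWU⟩, hyW⟩
  · have h1 : X.presheaf.map (homOfLE V.2).op x ∈ i.ker.ideal V.1 := by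
      rw [Scheme.Hom.ker_apply, RingHom.mem_ker]
      show (X.presheaf.map (homOfLE V.2).op ≫ i.app V.1.1) x = 0
      rw [i.naturality, CommRingCat.comp_apply, hx, map_zero]
    rw [← Scheme.IdealSheafData.ker_subschemeι_app, RingHom.mem_ker] at h1
    refine Eq.trans ?_ (map_zero _).symm
    show (i.ker.subschemeι.app U ≫ i.ker.subscheme.presheaf.map _) x = 0
    erw [← i.ker.subschemeι.naturality]
    exact h1

section pullMap

variable (i : Z ⟶ X) {U : X.Opens} (hU : IsAffineOpen U) (hW : IsAffineOpen (i ⁻¹ᵁ U))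
  (hs : Function.Surjective (i.app U)) (M : X.Modules) [Coh.IsQCoh M]

include hU hW hs in
/-- Over a closed chart the inverse image of a quasi-coherent module is the quotient by the ideal. -/
theorem pullMap_surjective_and_eq_zero_iff :
    Function.Surjective (PullbackMod.pullMap i M (W := U) (W' := i ⁻¹ᵁ U) le_rfl) ∧
      ∀ m, PullbackMod.pullMap i M (W := U) (W' := i ⁻¹ᵁ U) le_rfl m = 0 ↔
        m ∈ (RingHom.ker (i.app U).hom • ⊤ : Submodule Γ(X, U) Γ(M, U)) := by
  have hφ : i.appLE U (i ⁻¹ᵁ U) le_rfl = i.app U := by rw [Scheme.Hom.app_eq_appLE]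
  letI : Algebra Γ(X, U) Γ(Z, i ⁻¹ᵁ U) := (i.appLE U (i ⁻¹ᵁ U) le_rfl).hom.toAlgebra
  letI := Module.compHom Γ((Scheme.Modules.pullback i).obj M, i ⁻¹ᵁ U) (i.appLE U (i ⁻¹ᵁ U) le_rfl).hom
  haveI : IsScalarTower Γ(X, U) Γ(Z, i ⁻¹ᵁ U) Γ((Scheme.Modules.pullback i).obj M, i ⁻¹ᵁ U) :=
    .of_algebraMap_smul fun _ _ => rfl
  have hbc := PullbackMod.isBaseChange_pullMapL i M hU hW le_rfl
  obtain ⟨h1, h2⟩ := surjective_and_eq_zero_iff (A := Γ(X, U)) (B := Γ(Z, i ⁻¹ᵁ U))
    (by rw [RingHom.algebraMap_toAlgebra, hφ]; exact hs) hbc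
  rw [RingHom.algebraMap_toAlgebra] at h2
  refine ⟨h1, fun m => ?_⟩
  rw [show RingHom.ker (i.app U).hom = RingHom.ker (i.appLE U (i ⁻¹ᵁ U) le_rfl).hom from by rw [hφ]]
  exact h2 m

end pullMap

section cls

variable (i : Z ⟶ X) [QuasiCompact i] {U : X.Opens} (hU : IsAffineOpen U) (hW : IsAffineOpen (i ⁻¹ᵁ U))
  (hs : Function.Surjective (i.app U))

/-- The ideal of a chart is the range of the sections of the ideal module. -/
theorem mem_range_iff (x : Γ(X, U)) :
    (∃ m, OmegaSh.idealSect i.ker U m = x) ↔ x ∈ RingHom.ker (i.app U).hom :=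
  ⟨fun ⟨m, hm⟩ => hm ▸ app_idealSect i U m, exists_idealSect_eq i U x⟩

include hU hW hs in
/-- Over a closed chart the sections of the conormal sheaf are `I / I²`. -/
theorem cls_surjective_and_eq_zero_iff :
    Function.Surjective (PullbackMod.pullMap i (ClSub.idealMod i.ker) (W := U) (W' := i ⁻¹ᵁ U) le_rfl) ∧
      ∀ m, PullbackMod.pullMap i (ClSub.idealMod i.ker) (W := U) (W' := i ⁻¹ᵁ U) le_rfl m = 0 ↔
        OmegaSh.idealSect i.ker U m ∈ RingHom.ker (i.app U).hom * RingHom.ker (i.app U).hom := by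
  haveI := OmegaAffLib.isQCoh_idealMod i.ker
  obtain ⟨h1, h2⟩ := pullMap_surjective_and_eq_zero_iff i hU hW hs (ClSub.idealMod i.ker)
  refine ⟨h1, fun m => ?_⟩
  let e : Γ(ClSub.idealMod i.ker, U) →ₗ[Γ(X, U)] Γ(X, U) :=
    { toFun := OmegaSh.idealSect i.ker U
      map_add' := map_add _
      map_smul' := fun r m => OmegaAffLib.idealSect_smul i.ker U r m }
  rw [h2, ← map_smul_top_eq (RingHom.ker (i.app U).hom) e (by
    ext x
    exact mem_range_iff i x)]
  exact ⟨fun h => ⟨m, h, rfl⟩, fun ⟨m', h', he⟩ => OmegaAffLib.idealSect_injective i.ker U he ▸ h'⟩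

end cls

end Groth.Agent.ConormalLib
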