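import Groth.Agent.ConormalLib.Chart
import Groth.Agent.OmegaUnivLib.Basic

/-!
# The split conormal sequence of an immersion with a left inverse
-/

set_option autoImplicit false
set_option backward.isDefEq.respectTransparency false
set_option backward.defeqAttrib.useBackward true
set_option linter.style.haveILetI false
set_option maxHeartbeats 1000000

universe u

open CategoryTheory CategoryTheory.Limits AlgebraicGeometry TopologicalSpace Opposite

namespace Groth.Agent.ConormalLib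

/-- Maps out of an inverse image are determined by the pulled back sections. -/
theorem hom_ext_pullback {X Z : Scheme.{u}} (i : Z ⟶ X) {M : X.Modules} {F : Z.Modules}
    {α β : (Scheme.Modules.pullback i).obj M ⟶ F}
    (h : ∀ (U : X.Opens) (m : Γ(M, U)),
      α.app (i ⁻¹ᵁ U) (OmegaSh.pullSect i M U m) = β.app (i ⁻¹ᵁ U) (OmegaSh.pullSect i M U m)) : α = β := by
  refine ((Scheme.Modules.pullbackPushforwardAdjunction i).homEquiv M F).injective ?_
  refine Scheme.Modules.hom_ext _ _ fun U => AddCommGrpCat.hom_ext (AddMonoidHom.ext fun m => ?_)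
  rw [Adjunction.homEquiv_unit, Adjunction.homEquiv_unit]
  exact h U m

/-- Maps out of an inverse image of differentials are determined by the values on differentials. -/
theorem hom_ext_pullback_omega {X Z S : Scheme.{u}} (i : Z ⟶ X) {f : X ⟶ S} {Ω : X.Modules} {d : OmegaSh.Der f Ω}
    (hd : OmegaSh.IsUniversal d) {F : Z.Modules} {α β : (Scheme.Modules.pullback i).obj Ω ⟶ F}
    (h : ∀ (U : X.Opens) (s : Γ(X, U)),
      α.app (i ⁻¹ᵁ U) (OmegaSh.pullSect i Ω U (d.app U s)) = β.app (i ⁻¹ᵁ U) (OmegaSh.pullSect i Ω U (d.app U s))) :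
    α = β := by
  let e := (Scheme.Modules.pullbackPushforwardAdjunction i).homEquiv Ω F
  refine e.injective ((hd _ (OmegaUnivLib.comp d (e α))).unique rfl ?_)
  refine OmegaUnivLib.der_ext fun U s => ?_
  show (e β).app U (d.app U s) = (e α).app U (d.app U s)
  rw [Adjunction.homEquiv_unit, Adjunction.homEquiv_unit]
  exact (h U s).symm

variable {Z X S : Scheme.{u}} {f : X ⟶ S} (i : Z ⟶ X) (g : X ⟶ Z)

/-- The part of `U` whose retraction lies over `U`. -/
abbrev sliceOpen (U : X.Opens) : X.Opens := U ⊓ g ⁻¹ᵁ (i ⁻¹ᵁ U)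

variable {i g}

theorem le_slice (hgi : i ≫ g = 𝟙 Z) (U : X.Opens) : i ⁻¹ᵁ U ≤ i ⁻¹ᵁ sliceOpen i g U := fun z hz => by
  refine ⟨hz, ?_⟩
  show g (i z) ∈ i ⁻¹ᵁ U
  rw [← Scheme.Hom.comp_apply, hgi]
  exact hz

/-- A section of `Z` pulled back by the retraction and restricted back to `Z`. -/
theorem appLE_retr (hgi : i ≫ g = 𝟙 Z) {W : Z.Opens} {V : X.Opens} {W' : Z.Opens} (e : V ≤ g ⁻¹ᵁ W)
    (e' : W' ≤ i ⁻¹ᵁ V) (e'' : W' ≤ W) (t : Γ(Z, W)) :
    i.appLE V W' e' (g.appLE W V e t) = Z.presheaf.map (homOfLE e'').op t := by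
  show (g.appLE W V e ≫ i.appLE V W' e') t = _
  rw [Scheme.Hom.appLE_comp_appLE, OmegaSh.appLE_congr_hom hgi _ (show W' ≤ (𝟙 Z : Z ⟶ Z) ⁻¹ᵁ W from e'')]
  simp only [Scheme.Hom.appLE, Scheme.Hom.id_app, Category.id_comp]

variable [QuasiCompact i] (hgi : i ≫ g = 𝟙 Z)

/-- The difference of a function and the pullback of its restriction to `Z`. -/
noncomputable def dev (U : X.Opens) (s : Γ(X, U)) : Γ(X, sliceOpen i g U) :=
  X.presheaf.map (homOfLE inf_le_left).op s - g.appLE (i ⁻¹ᵁ U) (sliceOpen i g U) inf_le_right (i.app U s)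

include hgi in
omit [QuasiCompact i] in
theorem appLE_dev (U : X.Opens) (s : Γ(X, U)) {W : Z.Opens} (e : W ≤ i ⁻¹ᵁ sliceOpen i g U) :
    i.appLE (sliceOpen i g U) W e (dev U s) = 0 := by
  rw [dev, map_sub, appLE_retr hgi inf_le_right e (fun z hz => (e hz).1), sub_eq_zero]
  show (X.presheaf.map (homOfLE inf_le_left).op ≫ i.appLE (sliceOpen i g U) W e) s =
    (i.app U ≫ Z.presheaf.map _) s
  rw [Scheme.Hom.map_appLE]
  rfl

include hgi in
theorem exists_devSect (U : X.Opens) (s : Γ(X, U)) :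
    ∃ m, OmegaSh.idealSect i.ker (sliceOpen i g U) m = dev U s :=
  exists_idealSect_eq i _ _ (by rw [Scheme.Hom.app_eq_appLE]; exact appLE_dev hgi U s _)

/-- The class of `dev U s`. -/
noncomputable def devSect (U : X.Opens) (s : Γ(X, U)) : Γ(ClSub.idealMod i.ker, sliceOpen i g U) :=
  (exists_devSect hgi U s).choose

theorem idealSect_devSect (U : X.Opens) (s : Γ(X, U)) :
    OmegaSh.idealSect i.ker (sliceOpen i g U) (devSect hgi U s) = dev U s :=
  (exists_devSect hgi U s).choose_spec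

theorem devSect_eq {U : X.Opens} {s : Γ(X, U)} {m : Γ(ClSub.idealMod i.ker, sliceOpen i g U)}
    (h : OmegaSh.idealSect i.ker (sliceOpen i g U) m = dev U s) : devSect hgi U s = m :=
  OmegaAffLib.idealSect_injective i.ker _ ((idealSect_devSect hgi U s).trans h.symm)

theorem devSect_add (U : X.Opens) (a b : Γ(X, U)) :
    devSect hgi U (a + b) = devSect hgi U a + devSect hgi U b :=
  devSect_eq hgi (by
    rw [map_add, idealSect_devSect, idealSect_devSect]
    simp only [dev, map_add]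
    abel)

/-- The class in the conormal sheaf of the deviation from the retraction. -/
noncomputable def retrHom (U : X.Opens) : Γ(X, U) →+ Γ((Scheme.Modules.pushforward i).obj (Omega.conormal i), U) where
  toFun s := PullbackMod.pullMap i (ClSub.idealMod i.ker) (le_slice hgi U) (devSect hgi U s)
  map_zero' := by
    rw [show devSect hgi U (0 : Γ(X, U)) = 0 from devSect_eq hgi (by simp [dev, map_zero]), map_zero]
  map_add' a b := by
    rw [devSect_add, map_add]

theorem retrHom_apply (U : X.Opens) (s : Γ(X, U)) :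
    retrHom hgi U s = PullbackMod.pullMap i (ClSub.idealMod i.ker) (le_slice hgi U) (devSect hgi U s) := rfl

/-- The derivation into the conormal sheaf given by a retraction. -/
noncomputable def retrDer (hgS : g ≫ i ≫ f = f) : OmegaSh.Der f ((Scheme.Modules.pushforward i).obj (Omega.conormal i)) :=
  OmegaUnivLib.mkDer (retrHom hgi)
    (fun U a b => by
      let C := ClSub.idealMod i.ker
      let e := le_slice hgi U
      have hsm : ∀ (x : Γ(X, U)) (m : Γ(C, sliceOpen i g U)),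
          i.app U x • PullbackMod.pullMap i C e m =
            PullbackMod.pullMap i C e (g.appLE (i ⁻¹ᵁ U) (sliceOpen i g U) inf_le_right (i.app U x) • m) := fun x m => by
        rw [PullbackMod.pullMap_smul, appLE_retr hgi inf_le_right e le_rfl]
        exact congrArg (· • PullbackMod.pullMap i C e m) (congr($(Z.presheaf.map_id _) _)).symm
      show PullbackMod.pullMap i C e (devSect hgi U (a * b)) =
        i.app U a • PullbackMod.pullMap i C e (devSect hgi U b) + i.app U b • PullbackMod.pullMap i C e (devSect hgi U a)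
      rw [hsm, hsm]
      have hm : devSect hgi U (a * b) = g.appLE (i ⁻¹ᵁ U) (sliceOpen i g U) inf_le_right (i.app U a) • devSect hgi U b +
          g.appLE (i ⁻¹ᵁ U) (sliceOpen i g U) inf_le_right (i.app U b) • devSect hgi U a +
          dev U a • devSect hgi U b := devSect_eq hgi (by
        rw [map_add, map_add, OmegaAffLib.idealSect_smul, OmegaAffLib.idealSect_smul, OmegaAffLib.idealSect_smul,
          idealSect_devSect, idealSect_devSect]
        simp only [dev, map_mul]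
        ring)
      rw [hm, map_add, map_add, PullbackMod.pullMap_smul i C e (dev U a), appLE_dev hgi U a e, zero_smul, add_zero])
    (fun {U V} h s => by
      have hle : sliceOpen i g U ≤ sliceOpen i g V := inf_le_inf h.le (g.preimage_mono (i.preimage_mono h.le))
      refine Eq.trans ?_ (PullbackMod.pullMap_res i (ClSub.idealMod i.ker) (le_slice hgi V) hle
        (i.preimage_mono h.le) (le_slice hgi U) (devSect hgi V s)).symm
      show PullbackMod.pullMap i (ClSub.idealMod i.ker) (le_slice hgi U) (devSect hgi U (X.presheaf.map h.op s)) = _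
      refine congrArg _ (devSect_eq hgi ?_)
      rw [idealSect_res, idealSect_devSect, dev, dev, map_sub]
      congr 1
      · rw [res_res]
        show _ = (X.presheaf.map h.op ≫ X.presheaf.map (homOfLE inf_le_left).op) s
        rw [← Functor.map_comp]
        rfl
      · show (g.appLE (i ⁻¹ᵁ V) (sliceOpen i g V) inf_le_right ≫ X.presheaf.map (homOfLE hle).op) (i.app V s) =
          g.appLE (i ⁻¹ᵁ U) (sliceOpen i g U) inf_le_right ((X.presheaf.map h.op ≫ i.app U) s)
        rw [Scheme.Hom.appLE_map, i.naturality]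
        show _ = (Z.presheaf.map _ ≫ g.appLE (i ⁻¹ᵁ U) (sliceOpen i g U) inf_le_right) (i.app V s)
        rw [Scheme.Hom.map_appLE])
    (fun W c => by
      show PullbackMod.pullMap i (ClSub.idealMod i.ker) (le_slice hgi _) (devSect hgi (f ⁻¹ᵁ W) (f.app W c)) = 0
      have hd : dev (i := i) (g := g) (f ⁻¹ᵁ W) (f.app W c) = 0 := by
        rw [dev, sub_eq_zero]
        show (f.app W ≫ X.presheaf.map _) c =
          (f.app W ≫ i.app (f ⁻¹ᵁ W) ≫ g.appLE (i ⁻¹ᵁ (f ⁻¹ᵁ W)) (sliceOpen i g (f ⁻¹ᵁ W)) inf_le_right) c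
        have key : f.app W ≫ X.presheaf.map (homOfLE (inf_le_left : sliceOpen i g (f ⁻¹ᵁ W) ≤ f ⁻¹ᵁ W)).op =
            f.app W ≫ i.app (f ⁻¹ᵁ W) ≫ g.appLE (i ⁻¹ᵁ (f ⁻¹ᵁ W)) (sliceOpen i g (f ⁻¹ᵁ W)) inf_le_right := by
          rw [Scheme.Hom.app_eq_appLE (f := i), Scheme.Hom.app_eq_appLE (f := f), Scheme.Hom.appLE_map,
            Scheme.Hom.appLE_comp_appLE, Scheme.Hom.appLE_comp_appLE]
          exact OmegaSh.appLE_congr_hom (by rw [Category.assoc]; exact hgS.symm) _ _
        exact congr($key c)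
      rw [show devSect hgi (f ⁻¹ᵁ W) (f.app W c) = 0 from devSect_eq hgi (by rw [map_zero, hd]), map_zero])

theorem retrDer_app (hgS : g ≫ i ≫ f = f) (U : X.Opens) (s : Γ(X, U)) :
    (retrDer hgi hgS).app U s =
      PullbackMod.pullMap i (ClSub.idealMod i.ker) (le_slice hgi U) (devSect hgi U s) := rfl

include hgi in
omit [QuasiCompact i] in
theorem le_retr (W : Z.Opens) : W ≤ i ⁻¹ᵁ (g ⁻¹ᵁ W) := fun z hz => by
  show g (i z) ∈ W
  rw [← Scheme.Hom.comp_apply, hgi]
  exact hz

/-- The derivation of `Z` into the restricted differentials of `X` given by a retraction. -/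
noncomputable def sectDer (hgS : g ≫ i ≫ f = f) {ΩX : X.Modules} (dX : OmegaSh.Der f ΩX) :
    OmegaSh.Der (i ≫ f) ((Scheme.Modules.pullback i).obj ΩX) :=
  OmegaUnivLib.mkDer
    (fun W => (PullbackMod.pullMap i ΩX (le_retr hgi W)).comp ((dX.app (g ⁻¹ᵁ W)).comp (g.app W).hom.toAddMonoidHom))
    (fun W a b => by
      show PullbackMod.pullMap i ΩX (le_retr hgi W) (dX.app (g ⁻¹ᵁ W) (g.app W (a * b))) =
        a • PullbackMod.pullMap i ΩX (le_retr hgi W) (dX.app (g ⁻¹ᵁ W) (g.app W b)) +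
          b • PullbackMod.pullMap i ΩX (le_retr hgi W) (dX.app (g ⁻¹ᵁ W) (g.app W a))
      have hsm : ∀ x : Γ(Z, W), i.appLE (g ⁻¹ᵁ W) W (le_retr hgi W) (g.app W x) = x := fun x => by
        rw [Scheme.Hom.app_eq_appLE, appLE_retr hgi _ _ le_rfl]
        exact congr($(Z.presheaf.map_id _) x)
      rw [map_mul, OmegaUnivLib.app_mul, map_add, PullbackMod.pullMap_smul, PullbackMod.pullMap_smul, hsm, hsm])
    (fun {U V} h s => by
      show PullbackMod.pullMap i ΩX (le_retr hgi U) (dX.app (g ⁻¹ᵁ U) (g.app U (Z.presheaf.map h.op s))) =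
        ((Scheme.Modules.pullback i).obj ΩX).presheaf.map h.op
          (PullbackMod.pullMap i ΩX (le_retr hgi V) (dX.app (g ⁻¹ᵁ V) (g.app V s)))
      rw [show h = homOfLE h.le from rfl, PullbackMod.pullMap_res i ΩX (le_retr hgi V) (g.preimage_mono h.le) h.le
        (le_retr hgi U), ← OmegaUnivLib.app_res]
      exact congrArg (fun t => PullbackMod.pullMap i ΩX (le_retr hgi U) (dX.app (g ⁻¹ᵁ U) t))
        congr($(g.naturality h.op) s))
    (fun W c => by
      show PullbackMod.pullMap i ΩX (le_retr hgi _) (dX.app (g ⁻¹ᵁ ((i ≫ f) ⁻¹ᵁ W)) (g.app ((i ≫ f) ⁻¹ᵁ W) ((i ≫ f).app W c))) = 0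
      have hle : g ⁻¹ᵁ ((i ≫ f) ⁻¹ᵁ W) ≤ f ⁻¹ᵁ W := fun x hx => by
        show f x ∈ W
        rw [← hgS, Scheme.Hom.comp_apply]
        exact hx
      have key : (i ≫ f).app W ≫ g.app ((i ≫ f) ⁻¹ᵁ W) = f.appLE W (g ⁻¹ᵁ ((i ≫ f) ⁻¹ᵁ W)) hle := by
        rw [Scheme.Hom.app_eq_appLE, Scheme.Hom.app_eq_appLE, Scheme.Hom.appLE_comp_appLE]
        exact OmegaSh.appLE_congr_hom hgS _ _
      rw [show g.app ((i ≫ f) ⁻¹ᵁ W) ((i ≫ f).app W c) = f.appLE W _ hle c from congr($key c),
        OmegaUnivLib.app_appLE, map_zero])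

omit [QuasiCompact i] in
theorem sectDer_app (hgS : g ≫ i ≫ f = f) {ΩX : X.Modules} (dX : OmegaSh.Der f ΩX) (W : Z.Opens) (s : Γ(Z, W)) :
    (sectDer hgi hgS dX).app W s = PullbackMod.pullMap i ΩX (le_retr hgi W) (dX.app (g ⁻¹ᵁ W) (g.app W s)) := rfl

include hgi in
/-- The conormal sequence of an immersion with a retraction is split exact. -/
theorem exists_splitting (hgS : g ≫ i ≫ f = f)
    {ΩX : X.Modules} {dX : OmegaSh.Der f ΩX} (hX : OmegaSh.IsUniversal dX)
    {ΩZ : Z.Modules} {dZ : OmegaSh.Der (i ≫ f) ΩZ} (hZ : OmegaSh.IsUniversal dZ)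
    {φ : Omega.conormal i ⟶ (Scheme.Modules.pullback i).obj ΩX} (hφ : OmegaSh.IsConormalDiff i dX φ)
    {c : (Scheme.Modules.pullback i).obj ΩX ⟶ ΩZ} (hc : OmegaSh.IsDiffCompat i dX dZ c) :
    ∃ w : φ ≫ c = 0, Nonempty (ShortComplex.mk φ c w).Splitting := by
  obtain ⟨α, hα, -⟩ := hX _ (retrDer hgi hgS)
  obtain ⟨σ, hσ, -⟩ := hZ _ (sectDer hgi hgS dX)
  let adj := Scheme.Modules.pullbackPushforwardAdjunction i
  let r := (adj.homEquiv _ _).symm α
  have hr : ∀ (U : X.Opens) (s : Γ(X, U)), r.app (i ⁻¹ᵁ U) (OmegaSh.pullSect i ΩX U (dX.app U s)) =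
      PullbackMod.pullMap i (ClSub.idealMod i.ker) (le_slice hgi U) (devSect hgi U s) := fun U s => by
    have h1 : adj.homEquiv _ _ r = α := Equiv.apply_symm_apply _ _
    rw [Adjunction.homEquiv_unit] at h1
    refine (congr($(h1).app U (dX.app U s))).trans ?_
    exact congrArg (fun E : OmegaSh.Der f _ => E.app U s) hα
  have hσ' : ∀ (W : Z.Opens) (t : Γ(Z, W)), σ.app W (dZ.app W t) =
      PullbackMod.pullMap i ΩX (le_retr hgi W) (dX.app (g ⁻¹ᵁ W) (g.app W t)) :=
    fun W t => congrArg (fun E : OmegaSh.Der (i ≫ f) _ => E.app W t) hσ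
  have hpull : ∀ (M : X.Modules) (U : X.Opens) (m : Γ(M, U)),
      OmegaSh.pullSect i M U m = PullbackMod.pullMap i M (W := U) (W' := i ⁻¹ᵁ U) le_rfl m := fun M U m =>
    (congr($(((Scheme.Modules.pullback i).obj M).presheaf.map_id _) _)).symm
  have w : φ ≫ c = 0 := hom_ext_pullback i fun U m => by
    refine (congrArg (c.app (i ⁻¹ᵁ U)) (hφ U m)).trans ?_
    rw [hc, app_idealSect, map_zero]
    rfl
  refine ⟨w, ⟨{ r := r, s := σ, f_r := ?_, s_g := ?_, id := ?_ }⟩⟩
  · refine hom_ext_pullback i fun U m => ?_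
    refine (congrArg (r.app (i ⁻¹ᵁ U)) (hφ U m)).trans ((hr U _).trans ?_)
    have hle : sliceOpen i g U ≤ U := inf_le_left
    rw [show devSect hgi U (OmegaSh.idealSect i.ker U m) = (ClSub.idealMod i.ker).presheaf.map (homOfLE hle).op m from
      devSect_eq hgi (by rw [idealSect_res, dev, app_idealSect, map_zero, sub_zero])]
    show _ = OmegaSh.pullSect i (ClSub.idealMod i.ker) U m
    rw [hpull, ← PullbackMod.pullMap_res i (ClSub.idealMod i.ker) le_rfl hle le_rfl (le_slice hgi U)]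
    exact congr($((Omega.conormal i).presheaf.map_id _) _)
  · refine (hZ ΩZ dZ).unique (y₁ := σ ≫ c) ?_ (OmegaUnivLib.comp_id dZ)
    refine OmegaUnivLib.der_ext fun W t => ?_
    show c.app W (σ.app W (dZ.app W t)) = dZ.app W t
    rw [hσ']
    show c.app W (((Scheme.Modules.pullback i).obj ΩX).presheaf.map (homOfLE (le_retr hgi W)).op
      (OmegaSh.pullSect i ΩX (g ⁻¹ᵁ W) (dX.app (g ⁻¹ᵁ W) (g.app W t)))) = _
    rw [OmegaUnivLib.hom_natural, hc, ← OmegaUnivLib.app_res]
    congr 1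
    show i.appLE (g ⁻¹ᵁ W) W (le_retr hgi W) (g.app W t) = t
    rw [Scheme.Hom.app_eq_appLE, appLE_retr hgi _ _ le_rfl]
    exact congr($(Z.presheaf.map_id _) t)
  · refine hom_ext_pullback_omega i hX fun U s => ?_
    show φ.app (i ⁻¹ᵁ U) (r.app (i ⁻¹ᵁ U) (OmegaSh.pullSect i ΩX U (dX.app U s))) +
      σ.app (i ⁻¹ᵁ U) (c.app (i ⁻¹ᵁ U) (OmegaSh.pullSect i ΩX U (dX.app U s))) =
      OmegaSh.pullSect i ΩX U (dX.app U s)
    rw [hr, hc, hσ']
    have hle : sliceOpen i g U ≤ U := inf_le_left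
    have hle' : sliceOpen i g U ≤ g ⁻¹ᵁ (i ⁻¹ᵁ U) := inf_le_right
    have e := le_slice hgi U
    have h1 : φ.app (i ⁻¹ᵁ U) (PullbackMod.pullMap i (ClSub.idealMod i.ker) e (devSect hgi U s)) =
        PullbackMod.pullMap i ΩX e (dX.app (sliceOpen i g U) (dev U s)) := by
      refine (OmegaUnivLib.hom_natural φ (homOfLE e) _).trans ?_
      refine (congrArg _ (hφ (sliceOpen i g U) (devSect hgi U s))).trans ?_
      rw [idealSect_devSect]
      rfl
    have h2 : PullbackMod.pullMap i ΩX (le_retr hgi (i ⁻¹ᵁ U)) (dX.app (g ⁻¹ᵁ (i ⁻¹ᵁ U)) (g.app (i ⁻¹ᵁ U) (i.app U s))) =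
        PullbackMod.pullMap i ΩX e (dX.app (sliceOpen i g U) (g.appLE (i ⁻¹ᵁ U) (sliceOpen i g U) hle' (i.app U s))) := by
      have h := PullbackMod.pullMap_res i ΩX (le_retr hgi (i ⁻¹ᵁ U)) hle' le_rfl e
        (dX.app (g ⁻¹ᵁ (i ⁻¹ᵁ U)) (g.app (i ⁻¹ᵁ U) (i.app U s)))
      refine (congr($(((Scheme.Modules.pullback i).obj ΩX).presheaf.map_id _) _)).symm.trans (h.trans ?_)
      rw [← OmegaUnivLib.app_res]
      rfl
    rw [h1, h2, ← map_add, ← map_add, dev, sub_add_cancel, OmegaUnivLib.app_res, hpull,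
      ← PullbackMod.pullMap_res i ΩX le_rfl hle le_rfl e]
    exact congr($(((Scheme.Modules.pullback i).obj ΩX).presheaf.map_id _) _)

end Groth.Agent.ConormalLib
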