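import Groth.Agent.ConormalLib.Map
import Groth.Agent.ConormalLib.Exact
import Groth.Agent.OmegaUnivLib.Aff

/-!
# The sequence of conormal sheaves and differentials of two immersions
-/

set_option autoImplicit false
set_option backward.isDefEq.respectTransparency false
set_option backward.defeqAttrib.useBackward true
set_option linter.style.haveILetI false
set_option maxHeartbeats 1000000

universe u

open CategoryTheory CategoryTheory.Limits AlgebraicGeometry TopologicalSpace Opposite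

namespace Groth.Agent.ConormalLib

/-- A map vanishing on every section near every point is zero. -/
theorem eq_zero_of_local {X : Scheme.{u}} {M N : X.Modules} (φ : M ⟶ N)
    (h : ∀ (x : X) (V : X.Opens) (_ : x ∈ V) (m : Γ(M, V)),
      ∃ (W : X.Opens) (hWV : W ≤ V), x ∈ W ∧ φ.app W (M.presheaf.map (homOfLE hWV).op m) = 0) : φ = 0 := by
  refine (PullbackMod.eq_zero_iff_stalk φ).mpr fun x => LinearMap.ext fun t => ?_
  obtain ⟨V, hx, m, rfl⟩ := TopCat.Presheaf.exists_germ_eq M.presheaf t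
  obtain ⟨W, hWV, hxW, h0⟩ := h x V hx m
  rw [LinearMap.zero_apply, ← TopCat.Presheaf.germ_res_apply M.presheaf (homOfLE hWV) x hxW m,
    PullbackMod.stalkLin_germ, h0, map_zero]

/-- Along the identity the inverse image has the same sections on affine opens. -/
theorem pullMap_id_bijective {Z : Scheme.{u}} (M : Z.Modules) [Coh.IsQCoh M] {W W' : Z.Opens}
    (hW : IsAffineOpen W) (hW' : IsAffineOpen W') (e : W' ≤ (𝟙 Z : Z ⟶ Z) ⁻¹ᵁ W) (heq : W' = W) :
    Function.Bijective (PullbackMod.pullMap (𝟙 Z) M e) := by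
  let φ := (𝟙 Z : Z ⟶ Z).appLE W W' e
  letI : Algebra Γ(Z, W) Γ(Z, W') := φ.hom.toAlgebra
  letI := Module.compHom Γ((Scheme.Modules.pullback (𝟙 Z)).obj M, W') φ.hom
  haveI : IsScalarTower Γ(Z, W) Γ(Z, W') Γ((Scheme.Modules.pullback (𝟙 Z)).obj M, W') :=
    .of_algebraMap_smul fun _ _ => rfl
  have hbc := PullbackMod.isBaseChange_pullMapL (𝟙 Z) M hW hW' e
  have hb : Function.Bijective φ := by
    haveI : IsIso (homOfLE heq.le) := ⟨homOfLE heq.ge, rfl, rfl⟩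
    have : φ = Z.presheaf.map (homOfLE heq.le).op := by
      simp only [φ, Scheme.Hom.appLE, Scheme.Hom.id_app, Category.id_comp]
    rw [this]
    exact ConcreteCategory.bijective_of_isIso _
  obtain ⟨h1, h2⟩ := surjective_and_eq_zero_iff (A := Γ(Z, W)) (B := Γ(Z, W')) hb.2 hbc
  refine ⟨(injective_iff_map_eq_zero _).mpr fun m hm => ?_, h1⟩
  have h3 := (h2 m).mp hm
  rw [show RingHom.ker (algebraMap Γ(Z, W) Γ(Z, W')) = ⊥ from (RingHom.injective_iff_ker_eq_bot _).mp hb.1,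
    Submodule.bot_smul] at h3
  exact (Submodule.mem_bot _).mp h3

variable {Z X Y : Scheme.{u}} (p : X ⟶ Y) (i : Z ⟶ X) (j : Z ⟶ Y)

/-- Affine charts for two compatible immersions. -/
structure Pair (U' : Y.Opens) (U : X.Opens) : Prop where
  affU' : IsAffineOpen U'
  affU : IsAffineOpen U
  le : U ≤ p ⁻¹ᵁ U'
  affW : IsAffineOpen (i ⁻¹ᵁ U)
  surj : Function.Surjective (i.app U)
  eq : i ⁻¹ᵁ U = j ⁻¹ᵁ U'
  affW' : IsAffineOpen (j ⁻¹ᵁ U')
  surj' : Function.Surjective (j.app U')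

theorem exists_pair [IsImmersion i] [IsImmersion j] (hij : i ≫ p = j) (z : Z) {V : Z.Opens} (hV : z ∈ V) :
    ∃ (U' : Y.Opens) (U : X.Opens), Pair p i j U' U ∧ z ∈ i ⁻¹ᵁ U ∧ i ⁻¹ᵁ U ≤ V := by
  obtain ⟨U₀', hU₀', hz', -, hV', hb'⟩ := exists_chart j z hV (O := ⊤) trivial
  have hp : i z ∈ p ⁻¹ᵁ U₀' := by
    show p (i z) ∈ U₀'
    rw [← Scheme.Hom.comp_apply, hij]
    exact hz'
  obtain ⟨U₀, hU₀, hz, hle, hV₀, hb⟩ := exists_chart i z hV hp
  obtain ⟨hW₀', hs₀'⟩ := chart_of_le j hU₀' hb'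
  obtain ⟨b, hbW, hzb⟩ := hW₀'.exists_basicOpen_le (V := i ⁻¹ᵁ U₀) ⟨z, hz⟩ hz'
  obtain ⟨a', ha'⟩ := hs₀' b
  have hpre : j ⁻¹ᵁ Y.basicOpen a' = Z.basicOpen b := by
    rw [Scheme.preimage_basicOpen, ha']
  have hU : U₀ ⊓ p ⁻¹ᵁ Y.basicOpen a' = X.basicOpen (p.appLE U₀' U₀ hle a') := by
    rw [Scheme.preimage_basicOpen, Scheme.Hom.appLE, CommRingCat.comp_apply]
    exact (X.basicOpen_res _ (homOfLE hle).op).symm
  have heq : i ⁻¹ᵁ (U₀ ⊓ p ⁻¹ᵁ Y.basicOpen a') = j ⁻¹ᵁ Y.basicOpen a' := by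
    refine le_antisymm (fun y hy => ?_) fun y hy => ⟨?_, ?_⟩
    · show j y ∈ Y.basicOpen a'
      rw [← hij, Scheme.Hom.comp_apply]
      exact hy.2
    · exact hbW (hpre.le hy)
    · show p (i y) ∈ Y.basicOpen a'
      rw [← Scheme.Hom.comp_apply, hij]
      exact hy
  refine ⟨Y.basicOpen a', U₀ ⊓ p ⁻¹ᵁ Y.basicOpen a', ?_, ?_, fun y hy => hV₀ hy.1⟩
  · obtain ⟨h1, h2⟩ := chart_of_le i (U := U₀ ⊓ p ⁻¹ᵁ Y.basicOpen a') (hU ▸ hU₀.basicOpen _) (inf_le_left.trans hb)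
    obtain ⟨h3, h4⟩ := chart_of_le j (hU₀'.basicOpen a') ((Y.basicOpen_le a').trans hb')
    exact ⟨hU₀'.basicOpen a', hU ▸ hU₀.basicOpen _, inf_le_right, h1, h2, heq, h3, h4⟩
  · rw [heq, hpre]
    exact hzb

variable [QuasiCompact i] [QuasiCompact j] {p i j}
  {Ω : X.Modules} {d : OmegaSh.Der p Ω} (hd : OmegaSh.IsUniversal d)
  {ψ : (Scheme.Modules.pullback (𝟙 Z)).obj (Omega.conormal j) ⟶ Omega.conormal i}
  (hψ : OmegaSh.IsConormalMap i j p (𝟙 Z) ψ)
  {φ : Omega.conormal i ⟶ (Scheme.Modules.pullback i).obj Ω} (hφ : OmegaSh.IsConormalDiff i d φ)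
  {U' : Y.Opens} {U : X.Opens}

namespace Pair

variable (P : Pair p i j U' U)

include hψ in
omit [QuasiCompact j] in
theorem hij (_ : Pair p i j U' U) : i ≫ p = j := by
  rw [← hψ.1, Category.id_comp]

include P in
omit [QuasiCompact i] [QuasiCompact j] in
theorem appLE_mem (hij : i ≫ p = j) (x' : Γ(Y, U')) :
    i.app U (p.appLE U' U P.le x') = Z.presheaf.map (homOfLE P.eq.le).op (j.app U' x') := by
  show (p.appLE U' U P.le ≫ i.app U) x' = (j.app U' ≫ Z.presheaf.map (homOfLE P.eq.le).op) x'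
  rw [Scheme.Hom.app_eq_appLE (f := i), Scheme.Hom.appLE_comp_appLE]
  exact congr($(OmegaSh.appLE_congr_hom hij _ (show i ⁻¹ᵁ U ≤ j ⁻¹ᵁ U' from P.eq.le)) x')

include P in
omit [QuasiCompact i] [QuasiCompact j] in
theorem ring_hyps (hij : i ≫ p = j) :
    letI := (p.appLE U' U P.le).hom.toAlgebra
    (RingHom.ker (j.app U').hom).map (algebraMap Γ(Y, U') Γ(X, U)) ≤ RingHom.ker (i.app U).hom ∧
      (∀ a : Γ(X, U), ∃ a' : Γ(Y, U'), a - algebraMap Γ(Y, U') Γ(X, U) a' ∈ RingHom.ker (i.app U).hom) ∧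
      ∀ a' : Γ(Y, U'), algebraMap Γ(Y, U') Γ(X, U) a' ∈ RingHom.ker (i.app U).hom → a' ∈ RingHom.ker (j.app U').hom := by
  letI := (p.appLE U' U P.le).hom.toAlgebra
  have hb : Function.Bijective (Z.presheaf.map (homOfLE P.eq.le).op) := by
    haveI : IsIso (homOfLE P.eq.le) := ⟨homOfLE P.eq.ge, rfl, rfl⟩
    exact ConcreteCategory.bijective_of_isIso _
  refine ⟨Ideal.map_le_iff_le_comap.mpr fun x' hx' => ?_, fun a => ?_, fun a' ha' => ?_⟩
  · show i.app U (p.appLE U' U P.le x') = 0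
    rw [P.appLE_mem hij, show j.app U' x' = 0 from hx', map_zero]
  · obtain ⟨b, hb'⟩ := hb.2 (i.app U a)
    obtain ⟨a', ha'⟩ := P.surj' b
    refine ⟨a', ?_⟩
    show i.app U (a - p.appLE U' U P.le a') = 0
    rw [map_sub, P.appLE_mem hij, ha', hb', sub_self]
  · refine hb.1 ((P.appLE_mem hij a').symm.trans ?_)
    rw [map_zero]
    exact ha'

include P in
omit [QuasiCompact i] [QuasiCompact j] in
theorem le_pre : i ⁻¹ᵁ U ≤ (𝟙 Z : Z ⟶ Z) ⁻¹ᵁ (j ⁻¹ᵁ U') := P.eq.le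

include P in
omit [QuasiCompact i] in
theorem exists_gen (n : Γ((Scheme.Modules.pullback (𝟙 Z)).obj (Omega.conormal j), i ⁻¹ᵁ U)) :
    ∃ s' : Γ(ClSub.idealMod j.ker, U'), n = PullbackMod.pullMap (𝟙 Z) (Omega.conormal j) P.le_pre
      (PullbackMod.pullMap j (ClSub.idealMod j.ker) (W := U') (W' := j ⁻¹ᵁ U') le_rfl s') := by
  haveI := OmegaAffLib.isQCoh_idealMod j.ker
  haveI : Coh.IsQCoh (Omega.conormal j) := PullbackMod.isQCoh_pullback j (ClSub.idealMod j.ker)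
  obtain ⟨c, rfl⟩ := (pullMap_id_bijective (Omega.conormal j) P.affW' P.affW P.le_pre P.eq).2 n
  obtain ⟨s', rfl⟩ := (cls_surjective_and_eq_zero_iff j P.affU' P.affW' P.surj').1 c
  exact ⟨s', rfl⟩

include hψ P in
theorem exists_psi_apply (s' : Γ(ClSub.idealMod j.ker, U')) :
    ∃ s : Γ(ClSub.idealMod i.ker, U),
      OmegaSh.idealSect i.ker U s = p.appLE U' U P.le (OmegaSh.idealSect j.ker U' s') ∧
      ψ.app (i ⁻¹ᵁ U) (PullbackMod.pullMap (𝟙 Z) (Omega.conormal j) P.le_pre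
          (PullbackMod.pullMap j (ClSub.idealMod j.ker) (W := U') (W' := j ⁻¹ᵁ U') le_rfl s')) =
        PullbackMod.pullMap i (ClSub.idealMod i.ker) (W := U) (W' := i ⁻¹ᵁ U) le_rfl s := by
  obtain ⟨s, hs⟩ := exists_idealSect_eq i U (p.appLE U' U P.le (OmegaSh.idealSect j.ker U' s')) (by
    rw [P.appLE_mem (P.hij hψ), app_idealSect, map_zero])
  exact ⟨s, hs, conormalMap_apply i j p (𝟙 Z) hψ P.le le_rfl P.le_pre le_rfl s' s hs⟩

include hφ in
omit [QuasiCompact i] [QuasiCompact j] in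
theorem phi_apply (s : Γ(ClSub.idealMod i.ker, U)) :
    φ.app (i ⁻¹ᵁ U) (PullbackMod.pullMap i (ClSub.idealMod i.ker) (W := U) (W' := i ⁻¹ᵁ U) le_rfl s) =
      PullbackMod.pullMap i Ω (W := U) (W' := i ⁻¹ᵁ U) le_rfl (d.app U (OmegaSh.idealSect i.ker U s)) := by
  refine (congrArg (φ.app (i ⁻¹ᵁ U)) ?_).trans ((hφ U s).trans ?_)
  · exact congr($(((Scheme.Modules.pullback i).obj (ClSub.idealMod i.ker)).presheaf.map_id _) _)
  · exact (congr($(((Scheme.Modules.pullback i).obj Ω).presheaf.map_id _) _)).symm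

include hψ hφ P in
theorem comp_apply_eq_zero (n : Γ((Scheme.Modules.pullback (𝟙 Z)).obj (Omega.conormal j), i ⁻¹ᵁ U)) :
    φ.app (i ⁻¹ᵁ U) (ψ.app (i ⁻¹ᵁ U) n) = 0 := by
  obtain ⟨s', rfl⟩ := P.exists_gen n
  obtain ⟨s, hs, he⟩ := P.exists_psi_apply hψ s'
  rw [he, phi_apply hφ, hs, OmegaUnivLib.app_appLE, map_zero]

include hd hψ hφ P in
theorem exists_lift (c : Γ(Omega.conormal i, i ⁻¹ᵁ U)) (hc : φ.app (i ⁻¹ᵁ U) c = 0) :
    ∃ n, ψ.app (i ⁻¹ᵁ U) n = c := by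
  haveI := OmegaUnivLib.isQCoh_of_universal hd
  letI := (p.appLE U' U P.le).hom.toAlgebra
  obtain ⟨hJI, hs, hJ⟩ := P.ring_hyps (P.hij hψ)
  obtain ⟨hsurj, hker⟩ := cls_surjective_and_eq_zero_iff i P.affU P.affW P.surj
  obtain ⟨s, rfl⟩ := hsurj c
  rw [phi_apply hφ, (pullMap_surjective_and_eq_zero_iff i P.affU P.affW P.surj Ω).2] at hc
  obtain ⟨T, hT⟩ := OmegaUnivLib.exists_lin_of_der d P.le
  have hTb := OmegaUnivLib.bijective_of_universal P.affU' P.affU P.le hd T hT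
  rw [← hT] at hc
  have hD : KaehlerDifferential.D Γ(Y, U') Γ(X, U) (OmegaSh.idealSect i.ker U s) ∈
      (RingHom.ker (i.app U).hom • ⊤ : Submodule Γ(X, U) _) := by
    have h : T (KaehlerDifferential.D Γ(Y, U') Γ(X, U) (OmegaSh.idealSect i.ker U s)) ∈
        (RingHom.ker (i.app U).hom • ⊤ : Submodule Γ(X, U) _).map T := by
      rw [Submodule.map_smul'', Submodule.map_top, LinearMap.range_eq_top.mpr hTb.2]
      exact hc
    obtain ⟨w, hw, he⟩ := h
    exact hTb.1 he ▸ hw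
  have hx := mem_sup_of_D_mem _ _ hJI hs hJ (app_idealSect i U s) hD
  obtain ⟨y, hy, q, hq, hyq⟩ := Submodule.mem_sup.mp hx
  obtain ⟨sy, hsy⟩ := exists_idealSect_eq i U y (hJI hy)
  have hcls : PullbackMod.pullMap i (ClSub.idealMod i.ker) (W := U) (W' := i ⁻¹ᵁ U) le_rfl (s - sy) = 0 := by
    rw [hker, map_sub, hsy, ← hyq, add_sub_cancel_left]
    exact hq
  rw [map_sub, sub_eq_zero] at hcls
  rw [hcls]
  clear hcls hyq hD hc hx
  induction hy using Submodule.span_induction generalizing sy with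
  | mem w hw =>
    obtain ⟨x', hx', rfl⟩ := hw
    obtain ⟨s', rfl⟩ := exists_idealSect_eq j U' x' hx'
    obtain ⟨s₁, hs₁, he⟩ := P.exists_psi_apply hψ s'
    exact ⟨_, he.trans (congrArg _ (OmegaAffLib.idealSect_injective i.ker U (hs₁.trans hsy.symm)))⟩
  | zero =>
    rw [OmegaAffLib.idealSect_injective i.ker U (hsy.trans (map_zero (OmegaSh.idealSect i.ker U)).symm)]
    exact ⟨0, (map_zero _).trans (map_zero _).symm⟩
  | add v w hv hw ihv ihw =>
    obtain ⟨sv, hsv⟩ := exists_idealSect_eq i U v (hJI hv)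
    obtain ⟨sw, hsw⟩ := exists_idealSect_eq i U w (hJI hw)
    obtain ⟨nv, hnv⟩ := ihv sv hsv
    obtain ⟨nw, hnw⟩ := ihw sw hsw
    refine ⟨nv + nw, ?_⟩
    rw [map_add, hnv, hnw]
    refine ((PullbackMod.pullMap i (ClSub.idealMod i.ker) (W := U) (W' := i ⁻¹ᵁ U) le_rfl).map_add sv sw).symm.trans ?_
    exact congrArg _ (OmegaAffLib.idealSect_injective i.ker U (by rw [map_add, hsv, hsw, hsy]))
  | smul a v hv ihv =>
    obtain ⟨sv, hsv⟩ := exists_idealSect_eq i U v (hJI hv)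
    obtain ⟨nv, hnv⟩ := ihv sv hsv
    refine ⟨i.appLE U (i ⁻¹ᵁ U) le_rfl a • nv, ?_⟩
    rw [Scheme.Modules.Hom.app_smul, hnv]
    refine (PullbackMod.pullMap_smul i (ClSub.idealMod i.ker) le_rfl a sv).symm.trans (congrArg _ ?_)
    exact OmegaAffLib.idealSect_injective i.ker U (by rw [OmegaAffLib.idealSect_smul, hsv, hsy]; rfl)

include hd hψ hφ P in
theorem phi_surjective : Function.Surjective (φ.app (i ⁻¹ᵁ U)) := by
  haveI := OmegaUnivLib.isQCoh_of_universal hd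
  letI := (p.appLE U' U P.le).hom.toAlgebra
  obtain ⟨-, hs, -⟩ := P.ring_hyps (P.hij hψ)
  intro m
  obtain ⟨ω, rfl⟩ := (pullMap_surjective_and_eq_zero_iff i P.affU P.affW P.surj Ω).1 m
  obtain ⟨T, hT⟩ := OmegaUnivLib.exists_lin_of_der d P.le
  obtain ⟨w, rfl⟩ := (OmegaUnivLib.bijective_of_universal P.affU' P.affU P.le hd T hT).2 ω
  obtain ⟨x, hx, hwx⟩ := exists_D_sub_mem _ hs w
  obtain ⟨s, hsx⟩ := exists_idealSect_eq i U x hx
  refine ⟨PullbackMod.pullMap i (ClSub.idealMod i.ker) (W := U) (W' := i ⁻¹ᵁ U) le_rfl s, ?_⟩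
  rw [phi_apply hφ, hsx, ← hT, eq_comm, ← sub_eq_zero, ← map_sub, ← map_sub,
    (pullMap_surjective_and_eq_zero_iff i P.affU P.affW P.surj Ω).2]
  have h : T (w - KaehlerDifferential.D Γ(Y, U') Γ(X, U) x) ∈
      (RingHom.ker (i.app U).hom • ⊤ : Submodule Γ(X, U) _).map T := ⟨_, hwx, rfl⟩
  rw [Submodule.map_smul'', Submodule.map_top] at h
  exact Submodule.smul_mono le_rfl le_top h

include hψ P in
theorem psi_eq_zero [Smooth p] (n : Γ((Scheme.Modules.pullback (𝟙 Z)).obj (Omega.conormal j), i ⁻¹ᵁ U))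
    (hn : ψ.app (i ⁻¹ᵁ U) n = 0) : n = 0 := by
  obtain ⟨s', rfl⟩ := P.exists_gen n
  obtain ⟨s, hs, he⟩ := P.exists_psi_apply hψ s'
  rw [he, (cls_surjective_and_eq_zero_iff i P.affU P.affW P.surj).2, hs] at hn
  letI := (p.appLE U' U P.le).hom.toAlgebra
  haveI : Algebra.FormallySmooth Γ(Y, U') Γ(X, U) :=
    (HasRingHomProperty.appLE @Smooth p inferInstance ⟨U', P.affU'⟩ ⟨U, P.affU⟩ P.le).formallySmooth
  obtain ⟨hJI, hsu, hJ⟩ := P.ring_hyps (P.hij hψ)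
  have h := mem_sq_of_algebraMap_mem _ _ hJI hsu hJ (app_idealSect j U' s') hn
  rw [(cls_surjective_and_eq_zero_iff j P.affU' P.affW' P.surj').2 s' |>.mpr h]
  exact map_zero _

end Pair

variable [IsImmersion i] [IsImmersion j]

include hd hψ hφ in
/-- The conormal-conormal-differential sequence is exact. -/
theorem exact_and_epi :
    ∃ w : ψ ≫ φ = 0, (ShortComplex.mk ψ φ w).Exact ∧ Epi φ := by
  have hij : i ≫ p = j := by rw [← hψ.1, Category.id_comp]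
  have w : ψ ≫ φ = 0 := eq_zero_of_local _ fun z V hz m => by
    obtain ⟨U', U, P, hzU, hle⟩ := exists_pair p i j hij z hz
    exact ⟨_, hle, hzU, P.comp_apply_eq_zero hψ hφ _⟩
  refine ⟨w, exact_of_local ψ φ w fun z V hz m hm => ?_, epi_of_local φ fun z V hz m => ?_⟩
  · obtain ⟨U', U, P, hzU, hle⟩ := exists_pair p i j hij z hz
    exact ⟨_, hle, hzU, P.exists_lift hd hψ hφ _ (by rw [OmegaUnivLib.hom_natural, hm, map_zero])⟩
  · obtain ⟨U', U, P, hzU, hle⟩ := exists_pair p i j hij z hz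
    exact ⟨_, hle, hzU, P.phi_surjective hd hψ hφ _⟩

include hψ in
omit [QuasiCompact j] in
/-- For smooth morphisms the first map is injective. -/
theorem mono_of_smooth [QuasiCompact j] [Smooth p] : Mono ψ := by
  have hij : i ≫ p = j := by rw [← hψ.1, Category.id_comp]
  refine mono_of_local ψ fun z V hz m hm => ?_
  obtain ⟨U', U, P, hzU, hle⟩ := exists_pair p i j hij z hz
  exact ⟨_, hle, hzU, P.psi_eq_zero hψ _ (by rw [OmegaUnivLib.hom_natural, hm, map_zero])⟩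

end Groth.Agent.ConormalLib
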