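import Mathlib
import Groth.Prelude.Def_Omega3

/-!
# Universal first order thickenings of algebras
-/

set_option autoImplicit false
set_option linter.style.haveILetI false

universe u

namespace Groth.Agent.ConormalLib

variable {A B B' : Type u} [CommRing A] [CommRing B] [CommRing B'] [Algebra A B] [Algebra A B']
  {π : B' →ₐ[A] B}

/-- Derivations out of a universal thickening are determined on the base. -/
theorem existsUnique_derivation_ring (h : OmegaSh.IsUnivThickeningRing A B B' π) {P : Type u} [AddCommGroup P]
    [Module B P] (δ : A →+ P)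
    (hδ : ∀ r r', δ (r * r') = algebraMap A B r • δ r' + algebraMap A B r' • δ r) :
    ∃! D : B' →+ P, (∀ a b, D (a * b) = π a • D b + π b • D a) ∧ ∀ r, D (algebraMap A B' r) = δ r := by
  letI : Module B' P := Module.compHom P π.toRingHom
  letI : Module B'ᵐᵒᵖ P := Module.compHom P ((RingHom.id B').fromOpposite mul_comm)
  haveI : IsCentralScalar B' P := ⟨fun _ _ => rfl⟩
  let E := TrivSqZeroExt B' P
  let f : E →+* B := π.toRingHom.comp (TrivSqZeroExt.fstHom B' B' P).toRingHom
  have hf : Function.Surjective f := fun b => by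
    obtain ⟨a, rfl⟩ := h.1 b
    exact ⟨TrivSqZeroExt.inl a, rfl⟩
  let K := RingHom.ker f
  have hJ2 := h.2.1
  rw [pow_two] at hJ2
  have hK : K ^ 2 = ⊥ := by
    rw [pow_two, eq_bot_iff]
    refine Submodule.mul_le.mpr fun x hx y hy => ?_
    have hx' : π (TrivSqZeroExt.fst x) = 0 := hx
    have hy' : π (TrivSqZeroExt.fst y) = 0 := hy
    rw [Submodule.mem_bot]
    refine TrivSqZeroExt.ext ?_ ?_
    · rw [TrivSqZeroExt.fst_mul, TrivSqZeroExt.fst_zero]
      have : TrivSqZeroExt.fst x * TrivSqZeroExt.fst y ∈ RingHom.ker π.toRingHom * RingHom.ker π.toRingHom :=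
        Ideal.mul_mem_mul hx' hy'
      rwa [hJ2, Ideal.mem_bot] at this
    · rw [TrivSqZeroExt.snd_mul, TrivSqZeroExt.snd_zero]
      show π (TrivSqZeroExt.fst x) • TrivSqZeroExt.snd y + π (TrivSqZeroExt.fst y) • TrivSqZeroExt.snd x = 0
      rw [hx', hy', zero_smul, zero_smul, add_zero]
  -- twisted inclusion of a ring with a derivation
  let mkHom : ∀ {R : Type u} [CommRing R] (ι : R →+* B') (D : R →+ P),
      (∀ a b, D (a * b) = π (ι a) • D b + π (ι b) • D a) → R →+* E := fun ι D hD =>
    { toFun := fun a => TrivSqZeroExt.inl (ι a) + TrivSqZeroExt.inr (D a)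
      map_one' := by
        have h1 : D 1 = 0 := by simpa using hD 1 1
        rw [map_one, h1, TrivSqZeroExt.inr_zero, add_zero, TrivSqZeroExt.inl_one]
      map_mul' := fun a b => TrivSqZeroExt.ext (by
        show ι (a * b) + 0 = (ι a + 0) * (ι b + 0)
        rw [map_mul, add_zero, add_zero, add_zero]) (by
        show (0 : P) + D (a * b) = π (ι a + 0) • ((0 : P) + D b) + π (ι b + 0) • ((0 : P) + D a)
        rw [hD, add_zero, add_zero, zero_add, zero_add, zero_add])
      map_zero' := by simp
      map_add' := fun a b => by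
        rw [map_add, map_add, TrivSqZeroExt.inl_add, TrivSqZeroExt.inr_add]
        exact add_add_add_comm _ _ _ _ }
  have mkfst : ∀ {R : Type u} [CommRing R] (ι : R →+* B') (D : R →+ P) hD (a : R),
      TrivSqZeroExt.fst (mkHom ι D hD a) = ι a := fun ι D _ a => by
    show ι a + 0 = ι a
    rw [add_zero]
  have mksnd : ∀ {R : Type u} [CommRing R] (ι : R →+* B') (D : R →+ P) hD (a : R),
      TrivSqZeroExt.snd (mkHom ι D hD a) = D a := fun ι D _ a => by
    show (0 : P) + D a = D a
    rw [zero_add]
  have hδ' : ∀ a b, δ (a * b) = π (algebraMap A B' a) • δ b + π (algebraMap A B' b) • δ a := fun a b => by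
    simpa only [AlgHom.commutes] using hδ a b
  let γ : A →+* E := mkHom (algebraMap A B') δ hδ'
  letI algE : Algebra A E := γ.toAlgebra
  let e := RingHom.quotientKerEquivOfSurjective hf
  have hea : ∀ a, e (Ideal.Quotient.mk K (γ a)) = algebraMap A B a := fun a => by
    show π (TrivSqZeroExt.fst (γ a)) = _
    rw [mkfst _ δ hδ' a, AlgHom.commutes]
  let β : B →ₐ[A] E ⧸ K :=
    { e.symm.toRingHom with
      commutes' := fun a => by
        show e.symm (algebraMap A B a) = Ideal.Quotient.mk K (γ a)
        rw [← hea a, RingEquiv.symm_apply_apply] }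
  have hβ : ∀ x : E, β (π (TrivSqZeroExt.fst x)) = Ideal.Quotient.mk K x := fun x => by
    show e.symm (f x) = _
    exact RingHom.quotientKerEquivOfSurjective_symm_apply hf x
  obtain ⟨φ, hφ, huniq⟩ := h.2.2 E K hK β
  have hφ' : ∀ a, Ideal.Quotient.mk K (φ a) = β (π a) := fun a => AlgHom.congr_fun hφ a
  -- the first component is the identity
  have hfst : ∀ a, TrivSqZeroExt.fst (φ a) = a := by
    let e' := RingHom.quotientKerEquivOfSurjective (f := π.toRingHom) h.1
    let ψ₁ : B' →ₐ[A] B' :=
      { (TrivSqZeroExt.fstHom B' B' P).toRingHom.comp φ.toRingHom with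
        commutes' := fun a => by
          show TrivSqZeroExt.fst (φ (algebraMap A B' a)) = _
          rw [AlgHom.commutes]
          exact mkfst _ δ hδ' a }
    let β' : B →ₐ[A] B' ⧸ RingHom.ker π.toRingHom :=
      { e'.symm.toRingHom with
        commutes' := fun a => by
          show e'.symm (algebraMap A B a) = Ideal.Quotient.mk _ (algebraMap A B' a)
          rw [← π.commutes a]
          exact RingHom.quotientKerEquivOfSurjective_symm_apply h.1 _ }
    have hu := h.2.2 B' (RingHom.ker π.toRingHom) h.2.1 β'
    have h2 : ψ₁ = AlgHom.id A B' := hu.unique (AlgHom.ext fun a => by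
      show Ideal.Quotient.mk _ (TrivSqZeroExt.fst (φ a)) = e'.symm (π a)
      rw [← RingHom.quotientKerEquivOfSurjective_symm_apply h.1 (TrivSqZeroExt.fst (φ a))]
      refine congrArg e'.symm ?_
      have h3 := hφ' a
      rw [← hβ (φ a)] at h3
      exact e.symm.injective h3) (AlgHom.ext fun a => (RingHom.quotientKerEquivOfSurjective_symm_apply h.1 a).symm)
    exact fun a => AlgHom.congr_fun h2 a
  let D : B' →+ P :=
    { toFun := fun a => TrivSqZeroExt.snd (φ a)
      map_zero' := by rw [map_zero]; rfl
      map_add' := fun a b => by rw [map_add]; rfl }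
  refine ⟨D, ⟨fun a b => ?_, fun r => ?_⟩, fun D' hD' => ?_⟩
  · show TrivSqZeroExt.snd (φ (a * b)) = π a • TrivSqZeroExt.snd (φ b) + π b • TrivSqZeroExt.snd (φ a)
    rw [map_mul, TrivSqZeroExt.snd_mul, hfst, hfst]
    rfl
  · show TrivSqZeroExt.snd (φ (algebraMap A B' r)) = δ r
    rw [AlgHom.commutes]
    exact mksnd _ δ hδ' r
  · let g : B' →ₐ[A] E :=
      { mkHom (RingHom.id B') D' hD'.1 with
        commutes' := fun r => TrivSqZeroExt.ext ((mkfst _ D' hD'.1 _).trans (mkfst _ δ hδ' r).symm)
          ((mksnd _ D' hD'.1 _).trans ((hD'.2 r).trans (mksnd _ δ hδ' r).symm)) }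
    have h1 : g = φ := huniq g (AlgHom.ext fun a => by
      show Ideal.Quotient.mk K (g a) = β (π a)
      rw [← hβ]
      exact congrArg (fun t => β (π t)) (mkfst _ D' hD'.1 a))
    refine AddMonoidHom.ext fun a => ?_
    show D' a = TrivSqZeroExt.snd (φ a)
    rw [← h1]
    exact (mksnd _ D' hD'.1 a).symm

open TensorProduct in
/-- Differentials of a universal thickening: it is formally unramified over the base, and its
differentials restricted to the original algebra are those of the base. -/
theorem formallyUnramified_and_bijective (R : Type u) [CommRing R] [Algebra R A] [Algebra R B'] [IsScalarTower R A B']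
    [Algebra B' B] [IsScalarTower A B' B] (h : OmegaSh.IsUnivThickeningRing A B B' (IsScalarTower.toAlgHom A B' B)) :
    Algebra.FormallyUnramified A B' ∧
      Function.Bijective ((KaehlerDifferential.mapBaseChange R A B').baseChange B) := by
  have hmk : ∀ (P : Type u) [AddCommGroup P] [Module B' P] [Module B P] [IsScalarTower B' B P] (a : B') (x : P),
      IsScalarTower.toAlgHom A B' B a • x = a • x := fun P _ _ _ _ a x => algebraMap_smul B a x
  refine ⟨?_, ?_⟩
  · let J := RingHom.ker (algebraMap B' B)
    let Ω' := Ω[B'⁄A]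
    have hJ : ∀ w : Ω', w ∈ (J • ⊤ : Submodule B' Ω') := by
      let P := B ⊗[B'] Ω'
      have hu := existsUnique_derivation_ring h (P := P) 0 (fun r r' => by simp)
      let D1 : B' →+ P :=
        { toFun := fun b => (1 : B) ⊗ₜ[B'] KaehlerDifferential.D A B' b
          map_zero' := by rw [map_zero, TensorProduct.tmul_zero]
          map_add' := fun a b => by rw [map_add, TensorProduct.tmul_add] }
      have h0 : D1 = 0 := hu.unique
        ⟨fun a b => by
          show (1 : B) ⊗ₜ[B'] KaehlerDifferential.D A B' (a * b) = _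
          rw [Derivation.leibniz, TensorProduct.tmul_add, TensorProduct.tmul_smul, TensorProduct.tmul_smul, hmk, hmk]
          rfl, fun r => by
          show (1 : B) ⊗ₜ[B'] KaehlerDifferential.D A B' (algebraMap A B' r) = 0
          rw [Derivation.map_algebraMap, TensorProduct.tmul_zero]⟩
        ⟨fun a b => by simp, fun r => rfl⟩
      intro w
      have hw : w ∈ Submodule.span B' (Set.range (KaehlerDifferential.D A B')) := by
        rw [KaehlerDifferential.span_range_derivation]; trivial
      induction hw using Submodule.span_induction with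
      | mem y hy =>
        obtain ⟨b, rfl⟩ := hy
        have h1 : (1 : B) ⊗ₜ[B'] KaehlerDifferential.D A B' b = 0 := DFunLike.congr_fun h0 b
        let eB : (B' ⧸ J) →ₗ[B'] B := (Ideal.Quotient.liftₐ J (Algebra.ofId B' B) fun a ha => ha).toLinearMap
        have heB : Function.Bijective eB := by
          refine ⟨(injective_iff_map_eq_zero _).mpr fun q hq => ?_, fun c => ?_⟩
          · obtain ⟨a, rfl⟩ := Ideal.Quotient.mk_surjective q
            exact Ideal.Quotient.eq_zero_iff_mem.mpr hq
          · obtain ⟨a, ha⟩ := h.1 c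
            exact ⟨Ideal.Quotient.mk J a, ha⟩
        let ψ : (B' ⧸ J) ⊗[B'] Ω' ≃ₗ[B'] B ⊗[B'] Ω' :=
          TensorProduct.congr (LinearEquiv.ofBijective eB heB) (LinearEquiv.refl B' Ω')
        have h2 : ψ ((1 : B' ⧸ J) ⊗ₜ[B'] KaehlerDifferential.D A B' b) = 0 := by
          rw [TensorProduct.congr_tmul]
          refine Eq.trans (congrArg (· ⊗ₜ[B'] KaehlerDifferential.D A B' b) ?_) h1
          exact map_one (Ideal.Quotient.liftₐ J (Algebra.ofId B' B) fun a ha => ha)
        rw [LinearEquiv.map_eq_zero_iff] at h2
        have h3 := congrArg (TensorProduct.quotTensorEquivQuotSMul Ω' J) h2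
        rw [map_zero, ← map_one (Ideal.Quotient.mk J), TensorProduct.quotTensorEquivQuotSMul_mk_tmul, one_smul] at h3
        exact (Submodule.Quotient.mk_eq_zero _).mp h3
      | zero => exact zero_mem _
      | add y z _ _ hy hz => exact add_mem hy hz
      | smul c y _ hy => exact Submodule.smul_mem _ c hy
    have h2 : ∀ w : Ω', w = 0 := fun w => by
      refine Submodule.smul_induction_on (hJ w) (fun a ha y _ => ?_) (fun y z hy hz => by rw [hy, hz, add_zero])
      refine Submodule.smul_induction_on (hJ y) (fun b hb z _ => ?_) (fun y z hy hz => by rw [smul_add, hy, hz, add_zero])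
      rw [smul_smul]
      have h4 : a * b ∈ RingHom.ker (IsScalarTower.toAlgHom A B' B).toRingHom * RingHom.ker (IsScalarTower.toAlgHom A B' B).toRingHom :=
        Ideal.mul_mem_mul ha hb
      rw [← pow_two, h.2.1, Ideal.mem_bot] at h4
      rw [h4, zero_smul]
    exact ⟨⟨fun a b => (h2 a).trans (h2 b).symm⟩⟩
  · let P1 := B ⊗[B'] (B' ⊗[A] Ω[A⁄R])
    let c := (KaehlerDifferential.mapBaseChange R A B').baseChange B
    have hc : ∀ a : A, c ((1 : B) ⊗ₜ[B'] ((1 : B') ⊗ₜ[A] KaehlerDifferential.D R A a)) =
        (1 : B) ⊗ₜ[B'] KaehlerDifferential.D R B' (algebraMap A B' a) := fun a => by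
      show (KaehlerDifferential.mapBaseChange R A B').baseChange B _ = _
      rw [LinearMap.baseChange_tmul, KaehlerDifferential.mapBaseChange_tmul, one_smul, KaehlerDifferential.map_D]
    let δ : A →+ P1 :=
      { toFun := fun a => (1 : B) ⊗ₜ[B'] ((1 : B') ⊗ₜ[A] KaehlerDifferential.D R A a)
        map_zero' := by rw [map_zero, TensorProduct.tmul_zero, TensorProduct.tmul_zero]
        map_add' := fun a b => by rw [map_add, TensorProduct.tmul_add, TensorProduct.tmul_add] }
    have hδ : ∀ r r', δ (r * r') = algebraMap A B r • δ r' + algebraMap A B r' • δ r := fun r r' => by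
      show (1 : B) ⊗ₜ[B'] ((1 : B') ⊗ₜ[A] KaehlerDifferential.D R A (r * r')) = _
      rw [Derivation.leibniz, TensorProduct.tmul_add, TensorProduct.tmul_smul, TensorProduct.tmul_smul,
        TensorProduct.tmul_add, ← algebraMap_smul B' r ((1 : B') ⊗ₜ[A] KaehlerDifferential.D R A r'),
        ← algebraMap_smul B' r' ((1 : B') ⊗ₜ[A] KaehlerDifferential.D R A r), TensorProduct.tmul_smul, TensorProduct.tmul_smul,
        ← hmk P1 (algebraMap A B' r), ← hmk P1 (algebraMap A B' r'), AlgHom.commutes, AlgHom.commutes]
      rfl
    obtain ⟨D, ⟨hDmul, hDA⟩, -⟩ := existsUnique_derivation_ring h δ hδ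
    letI : Module R P1 := Module.compHom P1 (algebraMap R B')
    haveI : IsScalarTower R B' P1 := .of_algebraMap_smul fun _ _ => rfl
    have hD0 : ∀ x : R, D (algebraMap R B' x) = 0 := fun x => by
      rw [IsScalarTower.algebraMap_apply R A B', hDA]
      show (1 : B) ⊗ₜ[B'] ((1 : B') ⊗ₜ[A] KaehlerDifferential.D R A (algebraMap R A x)) = 0
      rw [Derivation.map_algebraMap, TensorProduct.tmul_zero, TensorProduct.tmul_zero]
    let D' : Derivation R B' P1 := Derivation.mk'
      { toFun := D
        map_add' := map_add D
        map_smul' := fun x a => by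
          rw [RingHom.id_apply, Algebra.smul_def, hDmul, hD0, smul_zero, add_zero, hmk]
          rfl }
      fun a b => (hDmul a b).trans (by rw [hmk, hmk]; rfl)
    let G : B ⊗[B'] Ω[B'⁄R] →ₗ[B] P1 := D'.liftKaehlerDifferential.liftBaseChange B
    have hG : ∀ b, G ((1 : B) ⊗ₜ[B'] KaehlerDifferential.D R B' b) = D b := fun b => by
      show D'.liftKaehlerDifferential.liftBaseChange B _ = _
      rw [LinearMap.liftBaseChange_tmul, one_smul, Derivation.liftKaehlerDifferential_comp_D]
      rfl
    have h1 : ∀ n, G (c n) = n := by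
      intro n
      induction n with
      | zero => rw [map_zero, map_zero]
      | add y z hy hz => rw [map_add, map_add, hy, hz]
      | tmul b y =>
        induction y with
        | zero => rw [TensorProduct.tmul_zero, map_zero, map_zero]
        | add y z hy hz => rw [TensorProduct.tmul_add, map_add, map_add, hy, hz]
        | tmul b' w =>
          have hw : w ∈ Submodule.span A (Set.range (KaehlerDifferential.D R A)) := by
            rw [KaehlerDifferential.span_range_derivation]; trivial
          rw [show b ⊗ₜ[B'] (b' ⊗ₜ[A] w) = (b * algebraMap B' B b') • ((1 : B) ⊗ₜ[B'] ((1 : B') ⊗ₜ[A] w)) by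
            rw [TensorProduct.smul_tmul', smul_eq_mul, mul_one, show b * algebraMap B' B b' = b' • b by
              rw [Algebra.smul_def, mul_comm], TensorProduct.smul_tmul, TensorProduct.smul_tmul', smul_eq_mul, mul_one],
            map_smul, map_smul]
          congr 1
          induction hw using Submodule.span_induction with
          | mem z hz =>
            obtain ⟨a, rfl⟩ := hz
            rw [hc, hG, hDA]
            rfl
          | zero => rw [TensorProduct.tmul_zero, TensorProduct.tmul_zero, map_zero, map_zero]
          | add y z _ _ hy hz => rw [TensorProduct.tmul_add, TensorProduct.tmul_add, map_add, map_add, hy, hz]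
          | smul a y _ hy =>
            rw [TensorProduct.tmul_smul, ← algebraMap_smul B' a ((1 : B') ⊗ₜ[A] y), TensorProduct.tmul_smul,
              ← algebraMap_smul B (algebraMap A B' a), map_smul, map_smul, hy]
    have h2 : ∀ n, c (G n) = n := by
      have hu := existsUnique_derivation_ring h (P := B ⊗[B'] Ω[B'⁄R]) (c.toAddMonoidHom.comp δ) (fun r r' => by
        show c (δ (r * r')) = _
        rw [hδ, map_add, map_smul, map_smul]
        rfl)
      let D1 : B' →+ B ⊗[B'] Ω[B'⁄R] :=
        { toFun := fun b => (1 : B) ⊗ₜ[B'] KaehlerDifferential.D R B' b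
          map_zero' := by rw [map_zero, TensorProduct.tmul_zero]
          map_add' := fun a b => by rw [map_add, TensorProduct.tmul_add] }
      have e : c.toAddMonoidHom.comp D = D1 := hu.unique
        ⟨fun a b => by
          show c (D (a * b)) = _
          rw [hDmul, map_add, map_smul, map_smul]
          rfl, fun r => congrArg c (hDA r)⟩
        ⟨fun a b => by
          show (1 : B) ⊗ₜ[B'] KaehlerDifferential.D R B' (a * b) = _
          rw [Derivation.leibniz, TensorProduct.tmul_add, TensorProduct.tmul_smul, TensorProduct.tmul_smul, hmk, hmk]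
          rfl, fun r => (hc r).symm⟩
      intro n
      induction n with
      | zero => rw [map_zero, map_zero]
      | add y z hy hz => rw [map_add, map_add, hy, hz]
      | tmul b w =>
        have hw : w ∈ Submodule.span B' (Set.range (KaehlerDifferential.D R B')) := by
          rw [KaehlerDifferential.span_range_derivation]; trivial
        rw [show b ⊗ₜ[B'] w = b • ((1 : B) ⊗ₜ[B'] w) by rw [TensorProduct.smul_tmul', smul_eq_mul, mul_one],
          map_smul, map_smul]
        congr 1
        induction hw using Submodule.span_induction with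
        | mem z hz => obtain ⟨a, rfl⟩ := hz; rw [hG]; exact DFunLike.congr_fun e a
        | zero => rw [TensorProduct.tmul_zero, map_zero, map_zero]
        | add y z _ _ hy hz => rw [TensorProduct.tmul_add, map_add, map_add, hy, hz]
        | smul a y _ hy => rw [TensorProduct.tmul_smul, ← algebraMap_smul B a, map_smul, map_smul, hy]
    exact ⟨Function.LeftInverse.injective h1, Function.RightInverse.surjective h2⟩

end Groth.Agent.ConormalLib
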