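import Groth.Agent.ConormalLib.Trans
import Groth.Prelude.Def_Omega3
import Groth.Prelude.Def_MoreMor

/-!
# Universal first order thickenings and their conormal sheaves
-/

set_option autoImplicit false
set_option backward.isDefEq.respectTransparency false
set_option backward.defeqAttrib.useBackward true
set_option linter.style.haveILetI false
set_option maxHeartbeats 1000000

universe u

open CategoryTheory CategoryTheory.Limits AlgebraicGeometry TopologicalSpace Opposite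

namespace Groth.Agent.ConormalLib

/-- A closed immersion has everything in its coborder. -/
theorem le_coborderRange {Z X : Scheme.{u}} (i : Z ⟶ X) [IsClosedImmersion i] (U : X.Opens) : U ≤ i.coborderRange :=
  fun x _ => (coborder_eq_univ_iff.mpr i.isClosedEmbedding.isClosed_range).ge (Set.mem_univ x)

/-- A thickening factoring through a closed subscheme is a thickening of it. -/
theorem isFirstOrderThickening_of_comp {Z W Z' : Scheme.{u}} (w : Z ⟶ W) (n : W ⟶ Z') [IsClosedImmersion n]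
    (h : MoreMor.IsFirstOrderThickening (w ≫ n)) : MoreMor.IsFirstOrderThickening w := by
  obtain ⟨⟨hc, hs⟩, hsq⟩ := h
  haveI := hc
  haveI : IsClosedImmersion w := IsClosedImmersion.of_comp w n
  refine ⟨⟨inferInstance, ⟨fun x => ?_⟩⟩, ?_⟩
  · obtain ⟨z, hz⟩ := hs.surj (n x)
    exact ⟨z, n.isClosedEmbedding.injective (by rw [← Scheme.Hom.comp_apply]; exact hz)⟩
  · refine Scheme.IdealSheafData.ext_of_iSup_eq_top
      (fun U : Z'.affineOpens => ⟨n ⁻¹ᵁ U.1, U.2.preimage n⟩) ?_ fun U => ?_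
    · refine eq_top_iff.mpr fun x _ => ?_
      obtain ⟨U, hU, hx, -⟩ := Z'.isBasis_affineOpens.exists_subset_of_mem_open (Set.mem_univ (n x)) isOpen_univ
      obtain ⟨U', hU', rfl⟩ := hU
      exact Opens.mem_iSup.mpr ⟨⟨U', hU'⟩, hx⟩
    · have hn : Function.Surjective (n.app U.1) := (chart_of_le n U.2 (le_coborderRange n _)).2
      have h1 : RingHom.ker ((w ≫ n).app U.1).hom * RingHom.ker ((w ≫ n).app U.1).hom = ⊥ := by
        have := congr($(hsq).ideal U)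
        simpa [Scheme.IdealSheafData.ideal_mul, Scheme.Hom.ker_apply] using this
      simp only [Scheme.IdealSheafData.ideal_mul, Scheme.IdealSheafData.ideal_bot, Pi.mul_apply, Pi.bot_apply,
        Scheme.Hom.ker_apply]
      rw [eq_bot_iff]
      refine Submodule.mul_le.mpr fun p hp q hq => ?_
      obtain ⟨p', rfl⟩ := hn p
      obtain ⟨q', rfl⟩ := hn q
      rw [← map_mul]
      have : p' * q' ∈ RingHom.ker ((w ≫ n).app U.1).hom * RingHom.ker ((w ≫ n).app U.1).hom :=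
        Ideal.mul_mem_mul hp hq
      rw [h1, Ideal.mem_bot] at this
      rw [this, map_zero]
      exact zero_mem _

variable {Z Y X Z' Y' Z'' : Scheme.{u}} {i : Z ⟶ Y} {b : Y ⟶ X} {i' : Z ⟶ Z'} {c : Z' ⟶ X}
  {j : Y ⟶ Y'} {d : Y' ⟶ X} {m : Z' ⟶ Y'} {i'' : Z ⟶ Z''} {e : Z'' ⟶ Y} {n : Z'' ⟶ Z'}

/-- The thickening of `Z` over `Y` is cut out of the one over `X` by the thickening of `Y` over `X`. -/
theorem isPullback_univThickening (hZ' : OmegaSh.IsUnivThickening (i ≫ b) i' c) (hY' : OmegaSh.IsUnivThickening b j d)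
    (hm₁ : i' ≫ m = i ≫ j) (hm₂ : m ≫ d = c) (hZ'' : OmegaSh.IsUnivThickening i i'' e)
    (hn₁ : i'' ≫ n = i') (hn₂ : n ≫ c = e ≫ b) : IsPullback n e m j := by
  haveI : IsClosedImmersion j := hY'.1.1.1
  have hnm : n ≫ m = e ≫ j :=
    (hY'.2.2 Z Z'' i'' (e ≫ b) i hZ''.1 (by rw [reassoc_of% hZ''.2.1])).unique
      ⟨by rw [reassoc_of% hn₁, hm₁], by rw [Category.assoc, hm₂, hn₂]⟩
      ⟨by rw [reassoc_of% hZ''.2.1], by rw [Category.assoc, hY'.2.1]⟩
  let w : Z ⟶ pullback m j := pullback.lift i' i hm₁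
  haveI : IsClosedImmersion (pullback.fst m j) := inferInstance
  have hw : MoreMor.IsFirstOrderThickening w :=
    isFirstOrderThickening_of_comp w (pullback.fst m j) (by rw [pullback.lift_fst]; exact hZ'.1)
  have hb : pullback.fst m j ≫ c = pullback.snd m j ≫ b := by
    rw [← hm₂, pullback.condition_assoc, hY'.2.1]
  obtain ⟨r, ⟨hr₁, hr₂⟩, -⟩ := hZ''.2.2 Z (pullback m j) w (pullback.snd m j) (𝟙 Z) hw
    (by rw [pullback.lift_snd, Category.id_comp])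
  rw [Category.id_comp] at hr₁
  have hrn : r ≫ n = pullback.fst m j :=
    (hZ'.2.2 Z (pullback m j) w (pullback.fst m j ≫ c) (𝟙 Z) hw
      (by rw [pullback.lift_fst_assoc, hZ'.2.1, Category.id_comp])).unique
      ⟨by rw [reassoc_of% hr₁, hn₁, Category.id_comp], by rw [Category.assoc, hn₂, reassoc_of% hr₂, hb]⟩
      ⟨by rw [pullback.lift_fst, Category.id_comp], rfl⟩
  have hl : pullback.lift n e hnm ≫ r = 𝟙 Z'' := by
    have hlw : i'' ≫ pullback.lift n e hnm = w := by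
      refine pullback.hom_ext ?_ ?_
      · rw [Category.assoc, pullback.lift_fst, pullback.lift_fst, hn₁]
      · rw [Category.assoc, pullback.lift_snd, pullback.lift_snd, hZ''.2.1]
    exact (hZ''.2.2 Z Z'' i'' e (𝟙 Z) hZ''.1 (by rw [hZ''.2.1, Category.id_comp])).unique
      ⟨by rw [reassoc_of% hlw, hr₁, Category.id_comp], by rw [Category.assoc, hr₂, pullback.lift_snd]⟩
      ⟨by rw [Category.comp_id, Category.id_comp], Category.id_comp e⟩
  refine IsPullback.of_iso (IsPullback.of_hasPullback m j) ⟨r, pullback.lift n e hnm, ?_, hl⟩ (Iso.refl _)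
    (Iso.refl _) (Iso.refl _) ?_ ?_ ?_ ?_
  · refine pullback.hom_ext ?_ ?_
    · rw [Category.assoc, pullback.lift_fst, hrn, Category.id_comp]
    · rw [Category.assoc, pullback.lift_snd, hr₂, Category.id_comp]
  · simp [hrn]
  · simp [hr₂]
  · simp
  · simp

section exact

variable {ψ₁ : (Scheme.Modules.pullback i).obj (Omega.conormal j) ⟶ Omega.conormal (i'' ≫ n)}
  {ψ₂ : (Scheme.Modules.pullback (𝟙 Z)).obj (Omega.conormal (i'' ≫ n)) ⟶ Omega.conormal i''}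

/-- The sequence of conormal sheaves of a closed subthickening cut out by a pulled back ideal. -/
theorem exact_of_isPullback [IsClosedImmersion i''] [IsClosedImmersion j] (hP : IsPullback n e m j)
    (hi : i'' ≫ e = i) (h₁ : OmegaSh.IsConormalMap (i'' ≫ n) j m i ψ₁)
    (h₂ : OmegaSh.IsConormalMap i'' (i'' ≫ n) n (𝟙 Z) ψ₂) :
    ∃ w : ψ₁ ≫ Tower.snd ψ₂ = 0, (ShortComplex.mk ψ₁ (Tower.snd ψ₂) w).Exact ∧ Epi (Tower.snd ψ₂) := by
  haveI : IsClosedImmersion n := MorphismProperty.of_isPullback hP.flip inferInstance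
  haveI := OmegaAffLib.isQCoh_idealMod j.ker
  haveI : Coh.IsQCoh (Omega.conormal j) := PullbackMod.isQCoh_pullback j (ClSub.idealMod j.ker)
  have chart : ∀ (z : Z) (V : Z.Opens), z ∈ V → ∃ (U' : Y'.Opens) (U : Z'.Opens) (hle : U ≤ m ⁻¹ᵁ U'),
      IsAffineOpen U' ∧ Tower i'' n U ∧ z ∈ i'' ⁻¹ᵁ (n ⁻¹ᵁ U) ∧ i'' ⁻¹ᵁ (n ⁻¹ᵁ U) ≤ V ∧
      RingHom.ker (n.app U).hom = (RingHom.ker (j.app U').hom).map (m.appLE U' U hle).hom := by
    intro z V hz
    obtain ⟨U', hU', hzU', -⟩ := exists_isAffineOpen_mem_and_subset (U := (⊤ : Y'.Opens)) (x := m ((i'' ≫ n) z)) trivial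
    obtain ⟨U, hU, hzU, hle, hV, -⟩ := exists_chart (i'' ≫ n) z hz (O := m ⁻¹ᵁ U') hzU'
    have hc : IsClosedImmersion (j ∣_ U') := IsZariskiLocalAtTarget.restrict (inferInstance : IsClosedImmersion j) U'
    exact ⟨U', U, hle, hU', tower_of_le i'' n hU (le_coborderRange _ _) (le_coborderRange _ _), hzU, hV,
      (RelDivLib.closed_and_ker_pullback hP.flip hU' hc hU hle).2⟩
  have happ : ∀ (U' : Y'.Opens) (U : Z'.Opens) (hle : U ≤ m ⁻¹ᵁ U') (hi' : i'' ⁻¹ᵁ (n ⁻¹ᵁ U) ≤ i ⁻¹ᵁ (j ⁻¹ᵁ U'))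
      (s' : Γ(ClSub.idealMod j.ker, U')) (s : Γ(ClSub.idealMod (i'' ≫ n).ker, U)),
      OmegaSh.idealSect (i'' ≫ n).ker U s = m.appLE U' U hle (OmegaSh.idealSect j.ker U' s') →
      ψ₁.app (i'' ⁻¹ᵁ (n ⁻¹ᵁ U)) (PullbackMod.pullMap i (Omega.conormal j) hi'
          (PullbackMod.pullMap j (ClSub.idealMod j.ker) (W := U') (W' := j ⁻¹ᵁ U') le_rfl s')) =
        PullbackMod.pullMap (i'' ≫ n) (ClSub.idealMod (i'' ≫ n).ker) (W := U) (W' := i'' ⁻¹ᵁ (n ⁻¹ᵁ U)) le_rfl s :=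
    fun U' U hle hi' s' s hs => conormalMap_apply (i'' ≫ n) j m i h₁ hle le_rfl hi' le_rfl s' s hs
  have hle' : ∀ (U' : Y'.Opens) (U : Z'.Opens), U ≤ m ⁻¹ᵁ U' → i'' ⁻¹ᵁ (n ⁻¹ᵁ U) ≤ i ⁻¹ᵁ (j ⁻¹ᵁ U') := by
    intro U' U hle y hy
    show j (i y) ∈ U'
    rw [← hi, Scheme.Hom.comp_apply, ← Scheme.Hom.comp_apply e j, ← hP.w, Scheme.Hom.comp_apply]
    exact hle hy
  have hker0 : ∀ (U' : Y'.Opens) (U : Z'.Opens) (hle : U ≤ m ⁻¹ᵁ U'),
      RingHom.ker (n.app U).hom = (RingHom.ker (j.app U').hom).map (m.appLE U' U hle).hom →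
      ∀ x' ∈ RingHom.ker (j.app U').hom, n.app U (m.appLE U' U hle x') = 0 :=
    fun U' U hle hk x' hx' => RingHom.mem_ker.mp (hk ▸ Ideal.mem_map_of_mem _ hx')
  have w : ψ₁ ≫ Tower.snd ψ₂ = 0 := by
    refine (PullbackMod.eq_zero_iff_stalk _).mpr fun z => LinearMap.ext fun t => ?_
    obtain ⟨V, hz, x, rfl⟩ := TopCat.Presheaf.exists_germ_eq ((Scheme.Modules.pullback i).obj (Omega.conormal j)).presheaf t
    obtain ⟨U', U, hle, hU', T, hzU, hV, hk⟩ := chart z V hz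
    rw [LinearMap.zero_apply, ← TopCat.Presheaf.germ_res_apply _ (homOfLE hV) z hzU x, PullbackMod.stalkLin_germ]
    show _ = (0 : _)
    generalize ((Scheme.Modules.pullback i).obj (Omega.conormal j)).presheaf.map (homOfLE hV).op x = y
    suffices h0 : (ψ₁ ≫ Tower.snd ψ₂).app (i'' ⁻¹ᵁ (n ⁻¹ᵁ U)) y = 0 by rw [h0, map_zero]
    have hY : IsAffineOpen (j ⁻¹ᵁ U') := (chart_of_le j hU' (le_coborderRange _ _)).1
    let L : Γ(Omega.conormal j, j ⁻¹ᵁ U') →+ Γ(Omega.conormal i'', i'' ⁻¹ᵁ (n ⁻¹ᵁ U)) :=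
      (((ψ₁ ≫ Tower.snd ψ₂).app (i'' ⁻¹ᵁ (n ⁻¹ᵁ U))).hom).comp (PullbackMod.pullMap i (Omega.conormal j) (hle' U' U hle))
    have hL : ∀ c, L c = 0 := fun c => by
      obtain ⟨s', rfl⟩ := (cls_surjective_and_eq_zero_iff j hU' hY (chart_of_le j hU' (le_coborderRange _ _)).2).1 c
      obtain ⟨s, hs⟩ := exists_idealSect_eq (i'' ≫ n) U (m.appLE U' U hle (OmegaSh.idealSect j.ker U' s')) (by
        show i''.app (n ⁻¹ᵁ U) (n.app U _) = 0
        rw [hker0 U' U hle hk _ (app_idealSect j U' s'), map_zero])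
      obtain ⟨t, ht, he⟩ := Tower.exists_b_apply h₂ s
      show (Tower.snd ψ₂).app _ (ψ₁.app _ _) = 0
      rw [happ U' U hle (hle' U' U hle) s' s hs, he, show t = 0 from OmegaAffLib.idealSect_injective i''.ker _
        (by rw [ht, hs, hker0 U' U hle hk _ (app_idealSect j U' s'), map_zero]), map_zero]
    letI := Module.compHom Γ((Scheme.Modules.pullback i).obj (Omega.conormal j), i'' ⁻¹ᵁ (n ⁻¹ᵁ U))
      (i.appLE (j ⁻¹ᵁ U') (i'' ⁻¹ᵁ (n ⁻¹ᵁ U)) (hle' U' U hle)).hom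
    letI : Algebra Γ(Y, j ⁻¹ᵁ U') Γ(Z, i'' ⁻¹ᵁ (n ⁻¹ᵁ U)) :=
      (i.appLE (j ⁻¹ᵁ U') (i'' ⁻¹ᵁ (n ⁻¹ᵁ U)) (hle' U' U hle)).hom.toAlgebra
    haveI : IsScalarTower Γ(Y, j ⁻¹ᵁ U') Γ(Z, i'' ⁻¹ᵁ (n ⁻¹ᵁ U))
        Γ((Scheme.Modules.pullback i).obj (Omega.conormal j), i'' ⁻¹ᵁ (n ⁻¹ᵁ U)) := .of_algebraMap_smul fun _ _ => rfl
    induction y using (PullbackMod.isBaseChange_pullMapL i (Omega.conormal j) hY T.affW (hle' U' U hle)).inductionOn with
    | zero => exact map_zero _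
    | tmul c => exact hL c
    | smul r y hy => rw [Scheme.Modules.Hom.app_smul, hy, smul_zero]
    | add p q hp hq => rw [map_add, hp, hq, add_zero]
  refine ⟨w, exact_of_local ψ₁ (Tower.snd ψ₂) w fun z V hz x hx => ?_, epi_of_local (Tower.snd ψ₂) fun z V hz x => ?_⟩
  · obtain ⟨U', U, hle, hU', T, hzU, hV, hk⟩ := chart z V hz
    refine ⟨_, hV, hzU, ?_⟩
    have hx0 : (Tower.snd ψ₂).app (i'' ⁻¹ᵁ (n ⁻¹ᵁ U)) ((Omega.conormal (i'' ≫ n)).presheaf.map (homOfLE hV).op x) = 0 := by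
      rw [OmegaUnivLib.hom_natural, hx, map_zero]
    generalize (Omega.conormal (i'' ≫ n)).presheaf.map (homOfLE hV).op x = y at hx0 ⊢
    obtain ⟨hsurj, hker⟩ := cls_surjective_and_eq_zero_iff (i'' ≫ n) T.affU T.affW T.surjK
    obtain ⟨s, rfl⟩ := hsurj y
    obtain ⟨t, ht, he⟩ := Tower.exists_b_apply h₂ s
    have hsq : n.app U (OmegaSh.idealSect (i'' ≫ n).ker U s) ∈
        (RingHom.ker ((i'' ≫ n).app U).hom * RingHom.ker ((i'' ≫ n).app U).hom).map (n.app U).hom := by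
      rw [Ideal.map_mul, Tower.kerK, Ideal.map_comap_of_surjective _ T.surjY, ← ht]
      exact (cls_surjective_and_eq_zero_iff i'' T.affY T.affW T.surjW).2 t |>.mp (he.symm.trans hx0)
    obtain ⟨q, hq, hqe⟩ := (Ideal.mem_map_iff_of_surjective _ T.surjY).mp hsq
    have hy : OmegaSh.idealSect (i'' ≫ n).ker U s - q ∈ (RingHom.ker (j.app U').hom).map (m.appLE U' U hle).hom := by
      rw [← hk, RingHom.mem_ker, map_sub]
      exact sub_eq_zero.mpr hqe.symm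
    have hJI : (RingHom.ker (j.app U').hom).map (m.appLE U' U hle).hom ≤ RingHom.ker ((i'' ≫ n).app U).hom := by
      rw [← hk]
      intro y hy
      show i''.app (n ⁻¹ᵁ U) (n.app U y) = 0
      rw [show n.app U y = 0 from hy, map_zero]
    obtain ⟨sy, hsy⟩ := exists_idealSect_eq (i'' ≫ n) U _ (hJI hy)
    have hdiff : PullbackMod.pullMap (i'' ≫ n) (ClSub.idealMod (i'' ≫ n).ker) (W := U) (W' := i'' ⁻¹ᵁ (n ⁻¹ᵁ U)) le_rfl (s - sy) = 0 :=
      (hker _).mpr (by rw [map_sub, hsy, sub_sub_cancel]; exact hq)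
    rw [map_sub, sub_eq_zero] at hdiff
    suffices hgoal : ∃ k, ψ₁.app (i'' ⁻¹ᵁ (n ⁻¹ᵁ U)) k =
        PullbackMod.pullMap (i'' ≫ n) (ClSub.idealMod (i'' ≫ n).ker) (W := U) (W' := i'' ⁻¹ᵁ (n ⁻¹ᵁ U)) le_rfl sy by
      obtain ⟨k, hk'⟩ := hgoal
      exact ⟨k, hk'.trans hdiff.symm⟩
    generalize hv : OmegaSh.idealSect (i'' ≫ n).ker U s - q = v at hy hsy
    clear hdiff hv he hx0 hx hqe hsq ht
    induction hy using Submodule.span_induction generalizing sy with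
    | mem w hw =>
      obtain ⟨x', hx', rfl⟩ := hw
      obtain ⟨s', rfl⟩ := exists_idealSect_eq j U' x' hx'
      exact ⟨_, happ U' U hle (hle' U' U hle) s' sy hsy⟩
    | zero =>
      rw [OmegaAffLib.idealSect_injective (i'' ≫ n).ker U (hsy.trans (map_zero (OmegaSh.idealSect (i'' ≫ n).ker U)).symm)]
      exact ⟨0, (map_zero _).trans (map_zero _).symm⟩
    | add v w hv hw ihv ihw =>
      obtain ⟨sv, hsv⟩ := exists_idealSect_eq (i'' ≫ n) U v (hJI hv)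
      obtain ⟨sw, hsw⟩ := exists_idealSect_eq (i'' ≫ n) U w (hJI hw)
      obtain ⟨nv, hnv⟩ := ihv sv hsv
      obtain ⟨nw, hnw⟩ := ihw sw hsw
      refine ⟨nv + nw, ?_⟩
      rw [map_add, hnv, hnw]
      refine ((PullbackMod.pullMap (i'' ≫ n) (ClSub.idealMod (i'' ≫ n).ker) (W := U) (W' := i'' ⁻¹ᵁ (n ⁻¹ᵁ U)) le_rfl).map_add sv sw).symm.trans ?_
      exact congrArg _ (OmegaAffLib.idealSect_injective _ U (by rw [map_add, hsv, hsw, hsy]))
    | smul r v hv ihv =>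
      obtain ⟨sv, hsv⟩ := exists_idealSect_eq (i'' ≫ n) U v (hJI hv)
      obtain ⟨nv, hnv⟩ := ihv sv hsv
      refine ⟨(i'' ≫ n).appLE U (i'' ⁻¹ᵁ (n ⁻¹ᵁ U)) le_rfl r • nv, ?_⟩
      rw [Scheme.Modules.Hom.app_smul, hnv]
      refine (PullbackMod.pullMap_smul (i'' ≫ n) (ClSub.idealMod (i'' ≫ n).ker) le_rfl r sv).symm.trans (congrArg _ ?_)
      exact OmegaAffLib.idealSect_injective _ U (by rw [OmegaAffLib.idealSect_smul, hsv, hsy]; rfl)
  · obtain ⟨U', U, hle, hU', T, hzU, hV, -⟩ := chart z V hz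
    exact ⟨_, hV, hzU, T.snd_surjective h₂ _⟩

end exact

end Groth.Agent.ConormalLib
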