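import Groth.Agent.ConormalLib.UnivRing
import Groth.Agent.ConormalLib.Thicken
import Groth.Agent.ConormalLib.RingThick
import Groth.Agent.RelDivLib.ImmBC

/-!
# Operations on universal first order thickenings
-/

set_option autoImplicit false
set_option backward.isDefEq.respectTransparency false
set_option backward.defeqAttrib.useBackward true
set_option linter.style.haveILetI false
set_option maxHeartbeats 1000000

universe u

open CategoryTheory CategoryTheory.Limits AlgebraicGeometry TopologicalSpace Opposite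

namespace Groth.Agent.ConormalLib

/-- Functions killed by a first order thickening multiply to zero. -/
theorem mul_eq_zero_of_thickening {T T' : Scheme.{u}} {j : T ⟶ T'} (h : MoreMor.IsFirstOrderThickening j)
    {O : T'.Opens} {p q : Γ(T', O)} (hp : j.app O p = 0) (hq : j.app O q = 0) : p * q = 0 := by
  haveI := h.1.1
  refine TopCat.Sheaf.eq_of_locally_eq' T'.sheaf (fun V : {V : T'.affineOpens // V.1 ≤ O} => V.1.1) O
    (fun V => homOfLE V.2) ?_ _ _ fun V => ?_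
  · intro y hy
    obtain ⟨_, ⟨W : T'.Opens, hW, rfl⟩, hyW, hWO⟩ := T'.isBasis_affineOpens.exists_subset_of_mem_open hy O.2
    exact Opens.mem_iSup.2 ⟨⟨⟨W, hW⟩, hWO⟩, hyW⟩
  · show T'.presheaf.map (homOfLE V.2).op (p * q) = T'.presheaf.map (homOfLE V.2).op 0
    rw [map_mul, map_zero]
    have hmem : ∀ r, j.app O r = 0 → T'.presheaf.map (homOfLE V.2).op r ∈ j.ker.ideal V.1 := fun r hr => by
      rw [Scheme.Hom.ker_apply, RingHom.mem_ker]
      show (T'.presheaf.map (homOfLE V.2).op ≫ j.app V.1.1) r = 0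
      rw [j.naturality, CommRingCat.comp_apply, hr, map_zero]
    have h2 := Ideal.mul_mem_mul (hmem p hp) (hmem q hq)
    have h3 : j.ker.ideal V.1 * j.ker.ideal V.1 = ⊥ := congr($(h.2).ideal V.1)
    rw [h3] at h2
    exact (Submodule.mem_bot _).mp h2

/-- Thickenings are stable under base change. -/
theorem isFirstOrderThickening_of_isPullback {Z X Z' X' : Scheme.{u}} {i : Z ⟶ X} {i' : Z' ⟶ X'} {p : X' ⟶ X}
    {q : Z' ⟶ Z} (hc : IsPullback q i' i p) (h : MoreMor.IsFirstOrderThickening i) :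
    MoreMor.IsFirstOrderThickening i' := by
  obtain ⟨⟨hcl, hs⟩, hsq⟩ := h
  haveI := hcl
  haveI := hs
  haveI : IsClosedImmersion i' := MorphismProperty.of_isPullback hc hcl
  refine ⟨⟨inferInstance, MorphismProperty.of_isPullback hc hs⟩, ?_⟩
  refine Scheme.IdealSheafData.ext_of_iSup_eq_top
    (fun V : {V : X'.affineOpens // ∃ U : X.affineOpens, V.1 ≤ p ⁻¹ᵁ U.1} => V.1) ?_ fun V => ?_
  · refine eq_top_iff.mpr fun x _ => ?_
    obtain ⟨U, hU, hxU, -⟩ := exists_isAffineOpen_mem_and_subset (U := (⊤ : X.Opens)) (x := p x) trivial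
    obtain ⟨V, hV, hxV, hVU⟩ := exists_isAffineOpen_mem_and_subset (U := p ⁻¹ᵁ U) (x := x) hxU
    exact Opens.mem_iSup.mpr ⟨⟨⟨V, hV⟩, ⟨U, hU⟩, hVU⟩, hxV⟩
  · obtain ⟨⟨V, hV⟩, ⟨U, hU⟩, hVU⟩ := V
    have hk := (RelDivLib.closed_and_ker_pullback hc hU (IsZariskiLocalAtTarget.restrict hcl U) hV hVU).2
    have hU2 : RingHom.ker (i.app U).hom * RingHom.ker (i.app U).hom = ⊥ := by
      have := congr($(hsq).ideal ⟨U, hU⟩)
      simpa [Scheme.IdealSheafData.ideal_mul, Scheme.Hom.ker_apply] using this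
    simp only [Scheme.IdealSheafData.ideal_mul, Scheme.IdealSheafData.ideal_bot, Pi.mul_apply, Pi.bot_apply,
      Scheme.Hom.ker_apply]
    rw [hk, ← Ideal.map_mul, hU2, Ideal.map_bot]

/-- Affine pieces of a universal thickening are universal thickenings of rings. -/
theorem isUnivThickeningRing_appLE {Z X Z' : Scheme.{u}} {h : Z ⟶ X} {i : Z ⟶ Z'} {h' : Z' ⟶ X}
    (hu : OmegaSh.IsUnivThickening h i h') {U : X.Opens} (hU : IsAffineOpen U) {V : Z'.Opens} (hV : IsAffineOpen V)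
    (hVU : V ≤ h' ⁻¹ᵁ U) (hW : IsAffineOpen (i ⁻¹ᵁ V)) (hs : Function.Surjective (i.app V)) :
    letI : Algebra Γ(X, U) Γ(Z', V) := (h'.appLE U V hVU).hom.toAlgebra
    letI : Algebra Γ(X, U) Γ(Z, i ⁻¹ᵁ V) := ((i.app V).hom.comp (h'.appLE U V hVU).hom).toAlgebra
    letI : Algebra Γ(Z', V) Γ(Z, i ⁻¹ᵁ V) := (i.app V).hom.toAlgebra
    haveI : IsScalarTower Γ(X, U) Γ(Z', V) Γ(Z, i ⁻¹ᵁ V) := .of_algebraMap_eq fun _ => rfl
    OmegaSh.IsUnivThickeningRing Γ(X, U) Γ(Z, i ⁻¹ᵁ V) Γ(Z', V)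
      (IsScalarTower.toAlgHom Γ(X, U) Γ(Z', V) Γ(Z, i ⁻¹ᵁ V)) := by
  letI : Algebra Γ(X, U) Γ(Z', V) := (h'.appLE U V hVU).hom.toAlgebra
  letI : Algebra Γ(X, U) Γ(Z, i ⁻¹ᵁ V) := ((i.app V).hom.comp (h'.appLE U V hVU).hom).toAlgebra
  letI : Algebra Γ(Z', V) Γ(Z, i ⁻¹ᵁ V) := (i.app V).hom.toAlgebra
  haveI : IsScalarTower Γ(X, U) Γ(Z', V) Γ(Z, i ⁻¹ᵁ V) := .of_algebraMap_eq fun _ => rfl
  haveI := hu.1.1.1
  refine ⟨hs, ?_, fun E _ _ K hK a => ?_⟩
  · have := congr($(hu.1.2).ideal ⟨V, hV⟩)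
    rw [pow_two]
    show RingHom.ker (i.app V).hom * RingHom.ker (i.app V).hom = ⊥
    simpa [Scheme.IdealSheafData.ideal_mul, Scheme.Hom.ker_apply] using this
  · obtain ⟨φ, ⟨hφ₁, hφ₂⟩, huniq⟩ := existsUnique_ringHom hu hU hV hVU hW K hK a.toRingHom (algebraMap Γ(X, U) E)
      fun r => a.commutes r
    refine ⟨{ φ with commutes' := hφ₁ }, AlgHom.ext hφ₂, fun g hg => AlgHom.coe_ringHom_injective ?_⟩
    exact huniq g.toRingHom ⟨g.commutes, fun x => AlgHom.congr_fun hg x⟩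

/-- A universal thickening is formally unramified over the base. -/
theorem formallyUnramified_univThickening {Z X Z' : Scheme.{u}} {h : Z ⟶ X} {i : Z ⟶ Z'} {h' : Z' ⟶ X}
    (hu : OmegaSh.IsUnivThickening h i h') : FormallyUnramified h' := by
  rw [HasRingHomProperty.iff_exists_appLE (P := @FormallyUnramified)
    (RingHom.FormallyUnramified.stableUnderComposition.stableUnderCompositionWithLocalizationAway
      RingHom.FormallyUnramified.holdsForLocalizationAway).1]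
  intro x
  obtain ⟨U, hU, hzU, -⟩ := exists_isAffineOpen_mem_and_subset (U := (⊤ : X.Opens)) (x := h' x) trivial
  obtain ⟨V, hV, hxV, hVU⟩ := exists_isAffineOpen_mem_and_subset (U := h' ⁻¹ᵁ U) (x := x) hzU
  refine ⟨⟨U, hU⟩, ⟨V, hV⟩, hxV, hVU, ?_⟩
  obtain ⟨hW, hs⟩ := RegIdealLib.affine_and_surjective i hV (IsZariskiLocalAtTarget.restrict hu.1.1.1 V)
  letI : Algebra Γ(X, U) Γ(Z', V) := (h'.appLE U V hVU).hom.toAlgebra
  letI : Algebra Γ(X, U) Γ(Z, i ⁻¹ᵁ V) := ((i.app V).hom.comp (h'.appLE U V hVU).hom).toAlgebra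
  letI : Algebra Γ(Z', V) Γ(Z, i ⁻¹ᵁ V) := (i.app V).hom.toAlgebra
  haveI : IsScalarTower Γ(X, U) Γ(Z', V) Γ(Z, i ⁻¹ᵁ V) := .of_algebraMap_eq fun _ => rfl
  exact (formallyUnramified_and_bijective Γ(X, U) (isUnivThickeningRing_appLE hu hU hV hVU hW hs)).1

/-- Universal thickenings pull back. -/
theorem isUnivThickening_baseChange {Z X W Y W' : Scheme.{u}} {h : Z ⟶ X} {f : Z ⟶ W} {g : X ⟶ Y} {h' : W ⟶ Y}
    (hc : IsPullback h f g h') {j : W ⟶ W'} {k : W' ⟶ Y} (hu : OmegaSh.IsUnivThickening h' j k)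
    (w : h ≫ g = (f ≫ j) ≫ k) :
    OmegaSh.IsUnivThickening h (pullback.lift h (f ≫ j) w) (pullback.fst g k) := by
  have hP : IsPullback f (pullback.lift h (f ≫ j) w) j (pullback.snd g k) :=
    IsPullback.of_bot (h₃₁ := g) (v₂₁ := pullback.fst g k) (v₂₂ := k)
      (by rw [pullback.lift_fst, hu.2.1]; exact hc.flip) (pullback.lift_snd _ _ _).symm
      (IsPullback.of_hasPullback g k).flip
  refine ⟨isFirstOrderThickening_of_isPullback hP hu.1, pullback.lift_fst _ _ _, fun T T' t b a ht hab => ?_⟩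
  have hab' : t ≫ b ≫ g = (a ≫ f) ≫ h' := by
    rw [reassoc_of% hab, hc.w, Category.assoc]
  obtain ⟨a', ⟨ha₁, ha₂⟩, huniq⟩ := hu.2.2 T T' t (b ≫ g) (a ≫ f) ht hab'
  refine ⟨pullback.lift b a' ha₂.symm, ⟨pullback.hom_ext ?_ ?_, pullback.lift_fst _ _ _⟩, fun y hy => ?_⟩
  · rw [Category.assoc, pullback.lift_fst, Category.assoc, pullback.lift_fst, hab]
  · rw [Category.assoc, pullback.lift_snd, ha₁, Category.assoc, Category.assoc, pullback.lift_snd]
  · refine pullback.hom_ext (by rw [hy.2, pullback.lift_fst]) ?_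
    rw [pullback.lift_snd]
    refine huniq _ ⟨?_, ?_⟩
    · rw [← Category.assoc, hy.1, Category.assoc, pullback.lift_snd, Category.assoc]
    · rw [Category.assoc, ← pullback.condition, ← Category.assoc, hy.2]

/-- Universal thickenings restrict to opens. -/
theorem isUnivThickening_restrict {Z Z' X : Scheme.{u}} {h : Z ⟶ X} {i : Z ⟶ Z'} {h' : Z' ⟶ X}
    (hu : OmegaSh.IsUnivThickening h i h') (V : Z.Opens) (U : X.Opens) (hVU : V ≤ h ⁻¹ᵁ U)
    (V' : Z'.Opens) (hV' : i ⁻¹ᵁ V' = V) (hV'U : V' ≤ h' ⁻¹ᵁ U) :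
    OmegaSh.IsUnivThickening (h.resLE U V hVU) (i.resLE V' V hV'.ge) (h'.resLE U V' hV'U) := by
  subst hV'
  have hth : MoreMor.IsFirstOrderThickening (i.resLE V' (i ⁻¹ᵁ V') le_rfl) := by
    rw [Scheme.Hom.resLE_eq_morphismRestrict]
    exact isFirstOrderThickening_of_isPullback (isPullback_morphismRestrict i V').flip hu.1
  refine ⟨hth, ?_, fun T T' t b a ht hab => ?_⟩
  · rw [← cancel_mono U.ι, Category.assoc, Scheme.Hom.resLE_comp_ι, Scheme.Hom.resLE_comp_ι,
      ← Category.assoc, Scheme.Hom.resLE_comp_ι, Category.assoc, hu.2.1]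
  have hab' : t ≫ b ≫ U.ι = (a ≫ (i ⁻¹ᵁ V').ι) ≫ h := by
    rw [reassoc_of% hab, Scheme.Hom.resLE_comp_ι, Category.assoc]
  obtain ⟨a', ⟨ha₁, ha₂⟩, huniq⟩ := hu.2.2 T T' t (b ≫ U.ι) (a ≫ (i ⁻¹ᵁ V').ι) ht hab'
  have hr : Set.range a' ⊆ Set.range V'.ι := by
    rintro _ ⟨x, rfl⟩
    obtain ⟨s, rfl⟩ := ht.1.2.surj x
    rw [Scheme.Opens.range_ι, ← Scheme.Hom.comp_apply, ha₁]
    exact (a s).2
  let l := IsOpenImmersion.lift V'.ι a' hr
  have hl : l ≫ V'.ι = a' := IsOpenImmersion.lift_fac _ _ _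
  refine ⟨l, ⟨?_, ?_⟩, fun y hy => ?_⟩
  · rw [← cancel_mono V'.ι, Category.assoc, hl, ha₁, Category.assoc, Category.assoc, Scheme.Hom.resLE_comp_ι]
  · rw [← cancel_mono U.ι, Category.assoc, Scheme.Hom.resLE_comp_ι, ← Category.assoc, hl, ha₂]
  · rw [← cancel_mono V'.ι, hl]
    refine huniq _ ⟨?_, ?_⟩
    · rw [← Category.assoc, hy.1, Category.assoc, Scheme.Hom.resLE_comp_ι, Category.assoc]
    · rw [Category.assoc, ← Scheme.Hom.resLE_comp_ι h' hV'U, ← Category.assoc, hy.2]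

/-- The thickening of a composite induces the thickening of the first map. -/
theorem exists_isUnivThickening_of_comp {Z Y X Z' Y' : Scheme.{u}} {a : Z ⟶ Y} {b : Y ⟶ X}
    {i : Z ⟶ Z'} {c : Z' ⟶ X} (hZ : OmegaSh.IsUnivThickening (a ≫ b) i c)
    {j : Y ⟶ Y'} {d : Y' ⟶ X} (hY : OmegaSh.IsUnivThickening b j d) :
    ∃ (m : Z' ⟶ Y') (hm : i ≫ m = a ≫ j), m ≫ d = c ∧
      OmegaSh.IsUnivThickening a (pullback.lift a i hm.symm) (pullback.fst j m) := by
  obtain ⟨m, ⟨hm₁, hm₂⟩, -⟩ := hY.2.2 Z Z' i c a hZ.1 hZ.2.1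
  haveI : IsClosedImmersion j := hY.1.1.1
  haveI : IsClosedImmersion (pullback.snd j m) := inferInstance
  refine ⟨m, hm₁, hm₂, isFirstOrderThickening_of_comp _ (pullback.snd j m) (by rw [pullback.lift_snd]; exact hZ.1),
    pullback.lift_fst _ _ _, fun T T' t bT aT ht hab => ?_⟩
  obtain ⟨a', ⟨ha₁, ha₂⟩, huniq⟩ := hZ.2.2 T T' t (bT ≫ b) aT ht (by rw [reassoc_of% hab])
  have hcomp : bT ≫ j = a' ≫ m :=
    (hY.2.2 T T' t (bT ≫ b) (aT ≫ a) ht (by rw [reassoc_of% hab, Category.assoc])).unique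
      ⟨by rw [reassoc_of% hab, Category.assoc], by rw [Category.assoc, hY.2.1]⟩
      ⟨by rw [reassoc_of% ha₁, hm₁, Category.assoc], by rw [Category.assoc, hm₂, ha₂]⟩
  refine ⟨pullback.lift bT a' hcomp, ⟨pullback.hom_ext ?_ ?_, pullback.lift_fst _ _ _⟩, fun y hy => ?_⟩
  · rw [Category.assoc, pullback.lift_fst, Category.assoc, pullback.lift_fst, hab]
  · rw [Category.assoc, pullback.lift_snd, ha₁, Category.assoc, pullback.lift_snd]
  · refine pullback.hom_ext (by rw [hy.2, pullback.lift_fst]) ?_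
    rw [pullback.lift_snd]
    refine huniq _ ⟨?_, ?_⟩
    · rw [← Category.assoc, hy.1, Category.assoc, pullback.lift_snd]
    · rw [Category.assoc, ← hm₂, ← pullback.condition_assoc, hY.2.1, reassoc_of% hy.2]

/-- The first infinitesimal neighbourhood of an immersion is its universal thickening. -/
theorem isUnivThickening_firstOrderNbhd {X : Scheme.{u}} (U : X.Opens) (I : (U : Scheme.{u}).IdealSheafData)
    (h : I ^ 2 ≤ I) :
    OmegaSh.IsUnivThickening (I.subschemeι ≫ U.ι) (Scheme.IdealSheafData.inclusion h)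
      ((I ^ 2).subschemeι ≫ U.ι) := by
  let w := Scheme.IdealSheafData.inclusion h
  let n := (I ^ 2).subschemeι
  have hwn : w ≫ n = I.subschemeι := Scheme.IdealSheafData.inclusion_subschemeι h
  haveI : IsClosedImmersion w := by
    haveI : IsClosedImmersion (w ≫ n) := by rw [hwn]; infer_instance
    exact IsClosedImmersion.of_comp w n
  have hth : MoreMor.IsFirstOrderThickening w := by
    refine ⟨⟨inferInstance, ⟨fun x => ?_⟩⟩, ?_⟩
    · have hx : n x ∈ Set.range I.subschemeι := by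
        rw [Scheme.IdealSheafData.range_subschemeι, ← Scheme.IdealSheafData.support_pow_succ I 1,
          ← Scheme.IdealSheafData.range_subschemeι]
        exact ⟨x, rfl⟩
      obtain ⟨z, hz⟩ := hx
      exact ⟨z, n.isClosedEmbedding.injective (by rw [← Scheme.Hom.comp_apply, hwn]; exact hz)⟩
    · refine Scheme.IdealSheafData.ext_of_iSup_eq_top
        (fun W : (U : Scheme.{u}).affineOpens => ⟨n ⁻¹ᵁ W.1, W.2.preimage n⟩) ?_ fun W => ?_
      · refine eq_top_iff.mpr fun x _ => ?_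
        obtain ⟨W, hW, hx, -⟩ := exists_isAffineOpen_mem_and_subset (U := (⊤ : (U : Scheme.{u}).Opens)) (x := n x) trivial
        exact Opens.mem_iSup.mpr ⟨⟨W, hW⟩, hx⟩
      · simp only [Scheme.IdealSheafData.ideal_mul, Scheme.IdealSheafData.ideal_bot, Pi.mul_apply, Pi.bot_apply,
          Scheme.Hom.ker_apply]
        rw [eq_bot_iff]
        have hn : Function.Surjective (n.app W.1) := (chart_of_le n W.2 (le_coborderRange n _)).2
        refine Submodule.mul_le.mpr fun p hp q hq => ?_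
        obtain ⟨p', rfl⟩ := hn p
        obtain ⟨q', rfl⟩ := hn q
        have hmem : ∀ r, w.app (n ⁻¹ᵁ W.1) (n.app W.1 r) = 0 → r ∈ I.ideal W := fun r hr => by
          rw [← Scheme.IdealSheafData.ker_subschemeι_app, RingHom.mem_ker]
          rw [Scheme.Hom.congr_app hwn.symm W.1]
          show I.subscheme.presheaf.map _ (w.app (n ⁻¹ᵁ W.1) (n.app W.1 r)) = 0
          rw [hr, map_zero]
        have h2 : p' * q' ∈ (I ^ 2).ideal W := by
          rw [pow_two, Scheme.IdealSheafData.ideal_mul]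
          exact Ideal.mul_mem_mul (hmem p' hp) (hmem q' hq)
        rw [← Scheme.IdealSheafData.ker_subschemeι_app, RingHom.mem_ker] at h2
        rw [← map_mul]
        exact (Submodule.mem_bot _).mpr h2
  refine ⟨hth, by rw [← Category.assoc, hwn], fun T T' t b a ht hab => ?_⟩
  have hr : Set.range b ⊆ Set.range U.ι := by
    rintro _ ⟨x, rfl⟩
    obtain ⟨s, rfl⟩ := ht.1.2.surj x
    rw [← Scheme.Hom.comp_apply, hab]
    exact ⟨_, rfl⟩
  let b₀ := IsOpenImmersion.lift U.ι b hr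
  have hb₀ : b₀ ≫ U.ι = b := IsOpenImmersion.lift_fac _ _ _
  have hab₀ : t ≫ b₀ = a ≫ I.subschemeι := by rw [← cancel_mono U.ι, Category.assoc, hb₀, hab, Category.assoc]
  have hle : n.ker ≤ b₀.ker := by
    rw [Scheme.IdealSheafData.ker_subschemeι]
    refine Scheme.IdealSheafData.le_ofIdeals_iff.mpr fun W x hx => ?_
    rw [RingHom.mem_ker]
    rw [pow_two, Scheme.IdealSheafData.ideal_mul] at hx
    have hI : ∀ y ∈ I.ideal W, t.app (b₀ ⁻¹ᵁ W.1) (b₀.app W.1 y) = 0 := fun y hy => by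
      show ((t ≫ b₀).app W.1) y = 0
      rw [← Scheme.IdealSheafData.ker_subschemeι_app] at hy
      rw [Scheme.Hom.congr_app hab₀ W.1]
      show T.presheaf.map _ (a.app _ (I.subschemeι.app W.1 y)) = 0
      rw [show I.subschemeι.app W.1 y = 0 from hy, map_zero, map_zero]
    refine Submodule.mul_induction_on hx (fun p hp q hq => ?_) fun p q hp hq => by rw [map_add, hp, hq, add_zero]
    rw [map_mul]
    exact mul_eq_zero_of_thickening ht (hI p hp) (hI q hq)
  let l := IsClosedImmersion.lift n b₀ hle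
  have hl : l ≫ n = b₀ := IsClosedImmersion.lift_fac _ _ _
  refine ⟨l, ⟨?_, by rw [← Category.assoc, hl, hb₀]⟩, fun y hy => ?_⟩
  · rw [← cancel_mono n, Category.assoc, Category.assoc, hl, hwn, hab₀]
  · rw [← cancel_mono (n ≫ U.ι), hy.2, ← Category.assoc, hl, hb₀]

end Groth.Agent.ConormalLib
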