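import Groth.Agent.ConormalLib.Chart
import Groth.Agent.FEtHom.Basic
import Groth.Prelude.Def_Omega3
import Groth.Prelude.Def_MoreMor

/-!
# Derivations out of a universal first order thickening on affine pieces
-/

set_option autoImplicit false
set_option backward.isDefEq.respectTransparency false
set_option backward.defeqAttrib.useBackward true
set_option linter.style.haveILetI false
set_option maxHeartbeats 1000000

universe u

open CategoryTheory CategoryTheory.Limits AlgebraicGeometry TopologicalSpace Opposite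

namespace Groth.Agent.ConormalLib

/-- The spectrum of a square zero quotient is a first order thickening. -/
theorem isFirstOrderThickening_spec (E : Type u) [CommRing E] (K : Ideal E) (hK : K ^ 2 = ⊥) :
    MoreMor.IsFirstOrderThickening (Spec.map (CommRingCat.ofHom (Ideal.Quotient.mk K))) := by
  haveI : IsClosedImmersion (Spec.map (CommRingCat.ofHom (Ideal.Quotient.mk K))) :=
    IsClosedImmersion.spec_of_surjective _ Ideal.Quotient.mk_surjective
  refine ⟨⟨inferInstance, ⟨fun x => ?_⟩⟩, Scheme.IdealSheafData.ext_of_isAffine ?_⟩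
  · have hx : x.asIdeal ∈ {p : Ideal E | p.IsPrime} := x.isPrime
    have hle : K ≤ x.asIdeal := fun k hk => x.isPrime.mem_of_pow_mem 2 (by
      have : k ^ 2 ∈ K ^ 2 := Ideal.pow_mem_pow hk 2
      rw [hK, Ideal.mem_bot] at this
      rw [this]; exact zero_mem _)
    exact Set.mem_range.mp (show x ∈ Set.range (PrimeSpectrum.comap (Ideal.Quotient.mk K)) by
      rw [range_comap_of_surjective _ _ Ideal.Quotient.mk_surjective, Ideal.mk_ker]
      exact hle)
  · have h := FEtHom.ker_appTop_sq E K hK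
    rw [pow_two] at h
    simpa [Scheme.IdealSheafData.ideal_mul, Scheme.Hom.ker_apply] using h

variable {Z X Z' : Scheme.{u}} {h : Z ⟶ X} {i : Z ⟶ Z'} {h' : Z' ⟶ X}
  (hu : OmegaSh.IsUnivThickening h i h') {U : X.Opens} (hU : IsAffineOpen U) {V : Z'.Opens} (hV : IsAffineOpen V)
  (hVU : V ≤ h' ⁻¹ᵁ U) (hW : IsAffineOpen (i ⁻¹ᵁ V))

include hu hU hV hW in
/-- Maps from the ring of an affine piece of the universal thickening into square zero extensions. -/
theorem existsUnique_ringHom {E : Type u} [CommRing E] (K : Ideal E) (hK : K ^ 2 = ⊥)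
    (β : Γ(Z, i ⁻¹ᵁ V) →+* E ⧸ K) (γ : Γ(X, U) →+* E)
    (hc : ∀ r, β (i.app V (h'.appLE U V hVU r)) = Ideal.Quotient.mk K (γ r)) :
    ∃! φ : Γ(Z', V) →+* E, (∀ r, φ (h'.appLE U V hVU r) = γ r) ∧ ∀ a, Ideal.Quotient.mk K (φ a) = β (i.app V a) := by
  let q := Spec.map (CommRingCat.ofHom (Ideal.Quotient.mk K))
  have hT := isFirstOrderThickening_spec E K hK
  let a : Spec (CommRingCat.of (E ⧸ K)) ⟶ Z := Spec.map (CommRingCat.ofHom β) ≫ hW.fromSpec
  let b : Spec (CommRingCat.of E) ⟶ X := Spec.map (CommRingCat.ofHom γ) ≫ hU.fromSpec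
  have hW' : i ⁻¹ᵁ V ≤ h ⁻¹ᵁ U := fun z hz => by
    show h z ∈ U
    rw [← hu.2.1, Scheme.Hom.comp_apply]
    exact hVU hz
  have hcomp : i.app V = i.appLE V (i ⁻¹ᵁ V) le_rfl := Scheme.Hom.app_eq_appLE i
  have hsq : q ≫ b = a ≫ h := by
    show Spec.map _ ≫ Spec.map _ ≫ hU.fromSpec = (Spec.map _ ≫ hW.fromSpec) ≫ h
    rw [Category.assoc, ← IsAffineOpen.SpecMap_appLE_fromSpec h hU hW hW', ← Category.assoc, ← Category.assoc,
      ← Spec.map_comp, ← Spec.map_comp]
    congr 2
    have ec : h'.appLE U V hVU ≫ i.app V = h.appLE U (i ⁻¹ᵁ V) hW' := by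
      rw [hcomp, Scheme.Hom.appLE_comp_appLE]
      exact OmegaSh.appLE_congr_hom hu.2.1 _ _
    rw [← ec]
    ext r
    exact (hc r).symm
  obtain ⟨a', ⟨ha₁, ha₂⟩, huniq⟩ := hu.2.2 _ _ q b a hT hsq
  have key : ∀ φ : Γ(Z', V) →+* E, ((∀ r, φ (h'.appLE U V hVU r) = γ r) ∧
      ∀ a, Ideal.Quotient.mk K (φ a) = β (i.app V a)) ↔
      (q ≫ (Spec.map (CommRingCat.ofHom φ) ≫ hV.fromSpec) = a ≫ i ∧
        (Spec.map (CommRingCat.ofHom φ) ≫ hV.fromSpec) ≫ h' = b) := fun φ => by
    have e1 : q ≫ (Spec.map (CommRingCat.ofHom φ) ≫ hV.fromSpec) =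
        Spec.map (CommRingCat.ofHom φ ≫ CommRingCat.ofHom (Ideal.Quotient.mk K)) ≫ hV.fromSpec := by
      rw [Spec.map_comp, Category.assoc]
    have e2 : a ≫ i = Spec.map (i.app V ≫ CommRingCat.ofHom β) ≫ hV.fromSpec := by
      rw [Spec.map_comp, Category.assoc, Category.assoc, hcomp, IsAffineOpen.SpecMap_appLE_fromSpec i hV hW le_rfl]
    have e3 : (Spec.map (CommRingCat.ofHom φ) ≫ hV.fromSpec) ≫ h' =
        Spec.map (h'.appLE U V hVU ≫ CommRingCat.ofHom φ) ≫ hU.fromSpec := by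
      rw [Category.assoc, Spec.map_comp, Category.assoc, IsAffineOpen.SpecMap_appLE_fromSpec h' hU hV hVU]
    rw [e1, e2, e3]
    constructor
    · rintro ⟨h1, h2⟩
      constructor
      · congr 2; ext x; exact h2 x
      · show _ = Spec.map (CommRingCat.ofHom γ) ≫ hU.fromSpec
        congr 2; ext x; exact h1 x
    · rintro ⟨h1, h2⟩
      exact ⟨fun r => congr($(Spec.map_injective ((cancel_mono hU.fromSpec).mp h2)) r),
        fun x => congr($(Spec.map_injective ((cancel_mono hV.fromSpec).mp h1)) x)⟩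
  have hr : Set.range a' ⊆ Set.range hV.fromSpec := by
    rintro _ ⟨x, rfl⟩
    obtain ⟨t, rfl⟩ := hT.1.2.surj x
    rw [hV.range_fromSpec, ← Scheme.Hom.comp_apply, ha₁, Scheme.Hom.comp_apply]
    have : a t ∈ (i ⁻¹ᵁ V : Z.Opens) := by
      show a t ∈ ((i ⁻¹ᵁ V : Z.Opens) : Set Z)
      rw [← hW.range_fromSpec]
      exact ⟨_, rfl⟩
    exact this
  let φ₀ := Spec.preimage (IsOpenImmersion.lift hV.fromSpec a' hr)
  have hφ₀ : Spec.map (CommRingCat.ofHom φ₀.hom) ≫ hV.fromSpec = a' := by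
    rw [CommRingCat.ofHom_hom, Spec.map_preimage, IsOpenImmersion.lift_fac]
  refine ⟨φ₀.hom, (key _).mpr (by rw [hφ₀]; exact ⟨ha₁, ha₂⟩), fun φ hφ => ?_⟩
  have h2 := huniq _ ((key φ).mp hφ)
  rw [← hφ₀, cancel_mono] at h2
  exact congr($(Spec.map_injective h2).hom)

include hu hU hV hW in
/-- Derivations of an affine piece of the universal thickening are determined on the base. -/
theorem existsUnique_derivation (hs : Function.Surjective (i.app V)) {P : Type u} [AddCommGroup P]
    [Module Γ(Z, i ⁻¹ᵁ V) P] (δ : Γ(X, U) →+ P)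
    (hδ : ∀ r r', δ (r * r') = i.app V (h'.appLE U V hVU r) • δ r' + i.app V (h'.appLE U V hVU r') • δ r) :
    ∃! D : Γ(Z', V) →+ P, (∀ a b, D (a * b) = i.app V a • D b + i.app V b • D a) ∧
      ∀ r, D (h'.appLE U V hVU r) = δ r := by
  letI : Module Γ(Z', V) P := Module.compHom P (i.app V).hom
  letI : Module (Γ(Z', V))ᵐᵒᵖ P := Module.compHom P ((RingHom.id Γ(Z', V)).fromOpposite mul_comm)
  haveI : IsCentralScalar Γ(Z', V) P := ⟨fun _ _ => rfl⟩
  let E := TrivSqZeroExt Γ(Z', V) P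
  have hJ2 : RingHom.ker (i.app V).hom * RingHom.ker (i.app V).hom = ⊥ := by
    haveI := hu.1.1.1
    have := congr($(hu.1.2).ideal ⟨V, hV⟩)
    simpa [Scheme.IdealSheafData.ideal_mul, Scheme.Hom.ker_apply] using this
  let f : E →+* Γ(Z, i ⁻¹ᵁ V) := (i.app V).hom.comp (TrivSqZeroExt.fstHom Γ(Z', V) Γ(Z', V) P).toRingHom
  have hf : Function.Surjective f := fun b => by
    obtain ⟨a, rfl⟩ := hs b
    exact ⟨TrivSqZeroExt.inl a, rfl⟩
  let K := RingHom.ker f
  have hK : K ^ 2 = ⊥ := by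
    rw [pow_two, eq_bot_iff]
    refine Submodule.mul_le.mpr fun x hx y hy => ?_
    have hx' : i.app V x.fst = 0 := hx
    have hy' : i.app V y.fst = 0 := hy
    rw [Submodule.mem_bot]
    refine TrivSqZeroExt.ext ?_ ?_
    · rw [TrivSqZeroExt.fst_mul, TrivSqZeroExt.fst_zero]
      have : x.fst * y.fst ∈ RingHom.ker (i.app V).hom * RingHom.ker (i.app V).hom := Ideal.mul_mem_mul hx' hy'
      rwa [hJ2, Ideal.mem_bot] at this
    · rw [TrivSqZeroExt.snd_mul, TrivSqZeroExt.snd_zero]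
      show i.app V x.fst • y.snd + i.app V y.fst • x.snd = 0
      rw [hx', hy', zero_smul, zero_smul, add_zero]
  let e := RingHom.quotientKerEquivOfSurjective hf
  let β : Γ(Z, i ⁻¹ᵁ V) →+* E ⧸ K := e.symm.toRingHom
  have hβ : ∀ x : E, β (i.app V x.fst) = Ideal.Quotient.mk K x := fun x => by
    show e.symm (f x) = _
    exact RingHom.quotientKerEquivOfSurjective_symm_apply hf x
  let mkHom : ∀ {R : Type u} [CommRing R] (ι : R →+* Γ(Z', V)) (D : R →+ P),
      (∀ a b, D (a * b) = i.app V (ι a) • D b + i.app V (ι b) • D a) → R →+* E := fun ι D hD =>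
    { toFun := fun a => TrivSqZeroExt.inl (ι a) + TrivSqZeroExt.inr (D a)
      map_one' := by
        have h1 : D 1 = 0 := by simpa using hD 1 1
        rw [map_one, h1, TrivSqZeroExt.inr_zero, add_zero, TrivSqZeroExt.inl_one]
      map_mul' := fun a b => TrivSqZeroExt.ext (by
        show ι (a * b) + 0 = (ι a + 0) * (ι b + 0)
        rw [map_mul, add_zero, add_zero, add_zero]) (by
        show (0 : P) + D (a * b) = i.app V (ι a + 0) • ((0 : P) + D b) + i.app V (ι b + 0) • ((0 : P) + D a)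
        rw [hD, add_zero, add_zero, zero_add, zero_add, zero_add])
      map_zero' := by simp
      map_add' := fun a b => by
        rw [map_add, map_add, TrivSqZeroExt.inl_add, TrivSqZeroExt.inr_add]
        exact add_add_add_comm _ _ _ _ }
  have mkfst : ∀ {R : Type u} [CommRing R] (ι : R →+* Γ(Z', V)) (D : R →+ P) hD (a : R),
      TrivSqZeroExt.fst (mkHom ι D hD a) = ι a := fun ι D _ a => by
    show ι a + 0 = ι a
    rw [add_zero]
  have mksnd : ∀ {R : Type u} [CommRing R] (ι : R →+* Γ(Z', V)) (D : R →+ P) hD (a : R),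
      TrivSqZeroExt.snd (mkHom ι D hD a) = D a := fun ι D _ a => by
    show (0 : P) + D a = D a
    rw [zero_add]
  let γ : Γ(X, U) →+* E := mkHom (h'.appLE U V hVU).hom δ hδ
  obtain ⟨φ, ⟨hφ₁, hφ₂⟩, huniq⟩ := existsUnique_ringHom hu hU hV hVU hW K hK β γ (fun r => by
    rw [← hβ, show TrivSqZeroExt.fst (γ r) = h'.appLE U V hVU r from mkfst _ δ hδ r])
  -- the first component is the identity
  obtain ⟨ψ, -, hψuniq⟩ := existsUnique_ringHom hu hU hV hVU hW (RingHom.ker (i.app V).hom) (by rw [pow_two]; exact hJ2)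
    (RingHom.quotientKerEquivOfSurjective hs).symm.toRingHom (h'.appLE U V hVU).hom (fun r =>
      RingHom.quotientKerEquivOfSurjective_symm_apply hs _)
  have hfst : ∀ a, (φ a).fst = a := by
    have h1 : (TrivSqZeroExt.fstHom Γ(Z', V) Γ(Z', V) P).toRingHom.comp φ = ψ := hψuniq _ ⟨fun r => by
        show TrivSqZeroExt.fst (φ (h'.appLE U V hVU r)) = _
        rw [hφ₁]; exact mkfst _ δ hδ r, fun a => by
        show Ideal.Quotient.mk _ (φ a).fst = _
        rw [← RingHom.quotientKerEquivOfSurjective_symm_apply hs (φ a).fst]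
        refine congrArg (RingHom.quotientKerEquivOfSurjective hs).symm ?_
        have h3 := hφ₂ a
        rw [← hβ (φ a)] at h3
        exact e.symm.injective h3⟩
    have h2 : RingHom.id Γ(Z', V) = ψ := hψuniq _ ⟨fun r => rfl, fun a =>
      (RingHom.quotientKerEquivOfSurjective_symm_apply hs a).symm⟩
    exact fun a => RingHom.congr_fun (h1.trans h2.symm) a
  let D : Γ(Z', V) →+ P :=
    { toFun := fun a => (φ a).snd
      map_zero' := by rw [map_zero]; rfl
      map_add' := fun a b => by rw [map_add]; rfl }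
  refine ⟨D, ⟨fun a b => ?_, fun r => ?_⟩, fun D' hD' => ?_⟩
  · show (φ (a * b)).snd = i.app V a • (φ b).snd + i.app V b • (φ a).snd
    rw [map_mul, TrivSqZeroExt.snd_mul, hfst, hfst]
    rfl
  · show (φ (h'.appLE U V hVU r)).snd = δ r
    rw [hφ₁]; exact mksnd _ δ hδ r
  · have h1 : mkHom (RingHom.id Γ(Z', V)) D' hD'.1 = φ := huniq _ ⟨fun r => by
        refine TrivSqZeroExt.ext ?_ ?_
        · exact (mkfst _ D' hD'.1 _).trans (mkfst _ δ hδ r).symm
        · exact (mksnd _ D' hD'.1 _).trans ((hD'.2 r).trans (mksnd _ δ hδ r).symm), fun a => by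
        rw [← hβ]; exact congrArg (fun t => β (i.app V t)) (mkfst _ D' hD'.1 a)⟩
    refine AddMonoidHom.ext fun a => ?_
    show D' a = TrivSqZeroExt.snd (φ a)
    rw [← h1]; exact (mksnd _ D' hD'.1 a).symm

end Groth.Agent.ConormalLib
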