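import Groth.Agent.ConormalLib.UnivRing
import Groth.Agent.ConormalLib.Chart
import Groth.Agent.OmegaUnivLib.Compat

/-!
# Differentials of a universal thickening restricted to the original scheme
-/

set_option autoImplicit false
set_option backward.isDefEq.respectTransparency false
set_option backward.defeqAttrib.useBackward true
set_option linter.style.haveILetI false
set_option maxHeartbeats 2000000

universe u

open CategoryTheory CategoryTheory.Limits AlgebraicGeometry TopologicalSpace Opposite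

namespace Groth.Agent.ConormalLib

variable {Z X S Z' : Scheme.{u}} {h : Z ⟶ X} {q : X ⟶ S} {i : Z ⟶ Z'} {h' : Z' ⟶ X}
  (hu : OmegaSh.IsUnivThickening h i h')
  {ΩX : X.Modules} {dX : OmegaSh.Der q ΩX} (hdX : OmegaSh.IsUniversal dX)
  {ΩZ : Z'.Modules} {dZ : OmegaSh.Der (h' ≫ q) ΩZ} (hdZ : OmegaSh.IsUniversal dZ)
  {c : (Scheme.Modules.pullback h').obj ΩX ⟶ ΩZ} (hc : OmegaSh.IsDiffCompat h' dX dZ c)
  {V0 : S.Opens} (hV0 : IsAffineOpen V0) {U : X.Opens} (hU : IsAffineOpen U) (hUV : U ≤ q ⁻¹ᵁ V0)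
  {V : Z'.Opens} (hV : IsAffineOpen V) (hVU : V ≤ h' ⁻¹ᵁ U)
  (hW : IsAffineOpen (i ⁻¹ᵁ V)) (hs : Function.Surjective (i.app V))

include hu hdX hdZ hc hV0 hU hUV hV hVU hW hs in
/-- The restricted canonical map of differentials is bijective over affine pieces. -/
theorem bijective_pullback_diffCompat :
    Function.Bijective (((Scheme.Modules.pullback i).map c).app (i ⁻¹ᵁ V)) := by
  haveI := OmegaUnivLib.isQCoh_of_universal hdX
  haveI := OmegaUnivLib.isQCoh_of_universal hdZ
  haveI : Coh.IsQCoh ((Scheme.Modules.pullback h').obj ΩX) := PullbackMod.isQCoh_pullback h' ΩX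
  let A := Γ(Z', V)
  let R := Γ(X, U)
  let R0 := Γ(S, V0)
  let W := i ⁻¹ᵁ V
  let B := Γ(Z, W)
  let MX := (Scheme.Modules.pullback h').obj ΩX
  let P1 := Γ((Scheme.Modules.pullback i).obj MX, W)
  let P2 := Γ((Scheme.Modules.pullback i).obj ΩZ, W)
  let c2 : P1 →ₗ[B] P2 := PullbackMod.appLin ((Scheme.Modules.pullback i).map c) W
  show Function.Bijective c2
  have hVV : V ≤ (h' ≫ q) ⁻¹ᵁ V0 := fun x hx => hUV (hVU hx)
  have hi : i.app V = i.appLE V W le_rfl := Scheme.Hom.app_eq_appLE i
  -- the two pullbacks of sections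
  let πi₁ : Γ(MX, V) →+ P1 := PullbackMod.pullMap i MX (W := V) (W' := W) le_rfl
  let πi₂ : Γ(ΩZ, V) →+ P2 := PullbackMod.pullMap i ΩZ (W := V) (W' := W) le_rfl
  let πh : Γ(ΩX, U) →+ Γ(MX, V) := PullbackMod.pullMap h' ΩX hVU
  have hπ₁ : ∀ (a : A) m, πi₁ (a • m) = i.app V a • πi₁ m := fun a m => by
    rw [hi]; exact PullbackMod.pullMap_smul i MX le_rfl a m
  have hπ₂ : ∀ (a : A) m, πi₂ (a • m) = i.app V a • πi₂ m := fun a m => by
    rw [hi]; exact PullbackMod.pullMap_smul i ΩZ le_rfl a m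
  have hcc : ∀ r : R, c.app V (πh (dX.app U r)) = dZ.app V (h'.appLE U V hVU r) := fun r => by
    show c.app V (((Scheme.Modules.pullback h').obj ΩX).presheaf.map (homOfLE hVU).op
      (OmegaSh.pullSect h' ΩX U (dX.app U r))) = _
    rw [OmegaUnivLib.hom_natural, hc, ← OmegaUnivLib.app_res]
    rfl
  have hc2 : ∀ m : Γ(MX, V), c2 (πi₁ m) = πi₂ (c.app V m) := fun m =>
    PullbackMod.pullMap_natural i c le_rfl m
  -- the derivation on the base
  let δ : R →+ P1 := πi₁.comp (πh.comp (dX.app U))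
  have hδ : ∀ r r', δ (r * r') = i.app V (h'.appLE U V hVU r) • δ r' + i.app V (h'.appLE U V hVU r') • δ r := fun r r' => by
    show πi₁ (πh (dX.app U (r * r'))) = _
    rw [OmegaUnivLib.app_mul, map_add, PullbackMod.pullMap_smul, PullbackMod.pullMap_smul, map_add, hπ₁, hπ₁]
    rfl
  obtain ⟨D, ⟨hDmul, hDR⟩, -⟩ := existsUnique_derivation hu hU hV hVU hW hs δ hδ
  letI : Algebra R0 A := ((h' ≫ q).appLE V0 V hVV).hom.toAlgebra
  letI : Module A P1 := Module.compHom P1 (i.app V).hom
  letI : Module R0 P1 := Module.compHom P1 ((i.app V).hom.comp ((h' ≫ q).appLE V0 V hVV).hom)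
  haveI : IsScalarTower R0 A P1 := .of_algebraMap_smul fun _ _ => rfl
  have hD0 : ∀ x : R0, D ((h' ≫ q).appLE V0 V hVV x) = 0 := fun x => by
    rw [show (h' ≫ q).appLE V0 V hVV x = h'.appLE U V hVU (q.appLE V0 U hUV x) from
      congr($((Scheme.Hom.appLE_comp_appLE h' q V0 U V hUV hVU).symm) x), hDR]
    show πi₁ (πh (dX.app U (q.appLE V0 U hUV x))) = 0
    rw [OmegaUnivLib.app_appLE, map_zero, map_zero]
  let D' : Derivation R0 A P1 := Derivation.mk'
    { toFun := D
      map_add' := map_add D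
      map_smul' := fun x a => by
        rw [RingHom.id_apply, Algebra.smul_def, hDmul]
        show i.app V ((h' ≫ q).appLE V0 V hVV x) • D a + i.app V a • D ((h' ≫ q).appLE V0 V hVV x) = _
        rw [hD0, smul_zero, add_zero]
        rfl } hDmul
  obtain ⟨T, hT⟩ := OmegaUnivLib.exists_lin_of_der dZ hVV
  have hTb := OmegaUnivLib.bijective_of_universal hV0 hV hVV hdZ T hT
  let L : Γ(ΩZ, V) →ₗ[A] P1 := D'.liftKaehlerDifferential ∘ₗ (LinearEquiv.ofBijective T hTb).symm.toLinearMap
  have hL : ∀ a, L (dZ.app V a) = D a := fun a => by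
    rw [← hT]
    show D'.liftKaehlerDifferential ((LinearEquiv.ofBijective T hTb).symm (T _)) = _
    rw [show (LinearEquiv.ofBijective T hTb).symm (T (KaehlerDifferential.D R0 A a)) = KaehlerDifferential.D R0 A a from
      (LinearEquiv.ofBijective T hTb).symm_apply_apply _, Derivation.liftKaehlerDifferential_comp_D]
    rfl
  have hspanZ : ∀ w : Γ(ΩZ, V), w ∈ Submodule.span A (Set.range (dZ.app V)) := fun w => by
    obtain ⟨y, rfl⟩ := hTb.2 w
    have hy : y ∈ Submodule.span A (Set.range (KaehlerDifferential.D R0 A)) := by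
      rw [KaehlerDifferential.span_range_derivation]; trivial
    have := Submodule.mem_map_of_mem (f := T) hy
    rw [Submodule.map_span, ← Set.range_comp] at this
    rwa [show (T ∘ (KaehlerDifferential.D R0 A)) = dZ.app V from funext hT] at this
  -- the composite with the canonical map
  have hcL : ∀ w, c2 (L w) = πi₂ w := by
    have hder := existsUnique_derivation hu hU hV hVU hW hs (P := P2) (c2.toAddMonoidHom.comp δ) (fun r r' => by
      show c2 (δ (r * r')) = _
      rw [hδ, map_add, map_smul, map_smul]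
      rfl)
    have e : c2.toAddMonoidHom.comp D = πi₂.comp (dZ.app V) := hder.unique
      ⟨fun a b => by
        show c2 (D (a * b)) = _
        rw [hDmul, map_add, map_smul, map_smul]
        rfl, fun r => congrArg c2 (hDR r)⟩
      ⟨fun a b => by
        show πi₂ (dZ.app V (a * b)) = _
        rw [OmegaUnivLib.app_mul, map_add, hπ₂, hπ₂]
        rfl, fun r => by
        show πi₂ (dZ.app V (h'.appLE U V hVU r)) = c2 (πi₁ (πh (dX.app U r)))
        rw [hc2, hcc]⟩
    intro w
    induction hspanZ w using Submodule.span_induction with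
    | mem y hy =>
      obtain ⟨a, rfl⟩ := hy
      rw [hL]
      exact DFunLike.congr_fun e a
    | zero => rw [map_zero, map_zero, map_zero]
    | add y z _ _ hy hz => rw [map_add, map_add, map_add, hy, hz]
    | smul a y _ hy =>
      rw [map_smul, hπ₂, ← hy]
      exact map_smul c2 _ _
  obtain ⟨hsurj₁, -⟩ := pullMap_surjective_and_eq_zero_iff i hV hW hs MX
  obtain ⟨hsurj₂, hker₂⟩ := pullMap_surjective_and_eq_zero_iff i hV hW hs ΩZ
  -- `L` is surjective
  have hLsurj : ∀ n, ∃ w, L w = n := by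
    intro n
    obtain ⟨m, rfl⟩ := hsurj₁ n
    obtain ⟨TX, hTX⟩ := OmegaUnivLib.exists_lin_of_der dX hUV
    letI : Algebra R0 R := (q.appLE V0 U hUV).hom.toAlgebra
    have hTXb := OmegaUnivLib.bijective_of_universal hV0 hU hUV hdX TX hTX
    letI : Algebra R A := (h'.appLE U V hVU).hom.toAlgebra
    letI : Module R Γ(MX, V) := Module.compHom _ (h'.appLE U V hVU).hom
    haveI : IsScalarTower R A Γ(MX, V) := .of_algebraMap_smul fun _ _ => rfl
    have hb := PullbackMod.isBaseChange_pullMapL h' ΩX hU hV hVU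
    induction m using hb.inductionOn with
    | zero => exact ⟨0, (map_zero L).trans (map_zero πi₁).symm⟩
    | tmul x =>
      obtain ⟨y, rfl⟩ := hTXb.2 x
      have hy : y ∈ Submodule.span R (Set.range (KaehlerDifferential.D R0 R)) := by
        rw [KaehlerDifferential.span_range_derivation]; trivial
      induction hy using Submodule.span_induction with
      | mem z hz =>
        obtain ⟨r, rfl⟩ := hz
        refine ⟨dZ.app V (h'.appLE U V hVU r), ?_⟩
        rw [hL, hDR, hTX]
        rfl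
      | zero => exact ⟨0, by rw [map_zero, map_zero, map_zero]; exact (map_zero πi₁).symm⟩
      | add y z _ _ hy hz =>
        obtain ⟨a, ha⟩ := hy
        obtain ⟨b, hb⟩ := hz
        refine ⟨a + b, ?_⟩
        rw [map_add, ha, hb, map_add TX, map_add]
        exact (map_add πi₁ _ _).symm
      | smul r y _ hy =>
        obtain ⟨a, ha⟩ := hy
        refine ⟨h'.appLE U V hVU r • a, ?_⟩
        rw [map_smul, ha, map_smul TX]
        show i.app V _ • πi₁ (πh (TX y)) = πi₁ (πh (r • TX y))
        rw [PullbackMod.pullMap_smul, hπ₁]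
    | smul s y hy =>
      obtain ⟨a, ha⟩ := hy
      refine ⟨s • a, ?_⟩
      rw [map_smul, ha]
      exact (hπ₁ s y).symm
    | add y z hy hz =>
      obtain ⟨a, ha⟩ := hy
      obtain ⟨b, hb⟩ := hz
      exact ⟨a + b, by rw [map_add, ha, hb]; exact (map_add πi₁ _ _).symm⟩
  refine ⟨(injective_iff_map_eq_zero _).mpr fun n hn => ?_, fun p => ?_⟩
  · obtain ⟨w, rfl⟩ := hLsurj n
    rw [hcL] at hn
    refine Submodule.smul_induction_on ((hker₂ w).mp hn) (fun a ha y _ => ?_)
      (fun y z hy hz => by rw [map_add, hy, hz, add_zero])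
    rw [map_smul]
    show i.app V a • L y = 0
    rw [show i.app V a = 0 from ha, zero_smul]
  · obtain ⟨w, rfl⟩ := hsurj₂ p
    exact ⟨L w, hcL w⟩

include hu hdX hdZ hc in
theorem isIso_pullback_diffCompat : IsIso ((Scheme.Modules.pullback i).map c) := by
  haveI : IsClosedImmersion i := hu.1.1.1
  haveI := OmegaUnivLib.isQCoh_of_universal hdX
  haveI := OmegaUnivLib.isQCoh_of_universal hdZ
  haveI : Coh.IsQCoh ((Scheme.Modules.pullback h').obj ΩX) := PullbackMod.isQCoh_pullback h' ΩX
  haveI : Coh.IsQCoh ((Scheme.Modules.pullback i).obj ((Scheme.Modules.pullback h').obj ΩX)) :=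
    PullbackMod.isQCoh_pullback i _
  haveI : Coh.IsQCoh ((Scheme.Modules.pullback i).obj ΩZ) := PullbackMod.isQCoh_pullback i _
  refine OmegaUnivLib.isIso_of_bijective_cover _ fun z => ?_
  obtain ⟨V0, hV0, hz0, -⟩ := exists_isAffineOpen_mem_and_subset (U := (⊤ : S.Opens)) (x := q (h' (i z))) trivial
  obtain ⟨U, hU, hzU, hUV⟩ := exists_isAffineOpen_mem_and_subset (U := q ⁻¹ᵁ V0) (x := h' (i z)) hz0
  obtain ⟨V, hV, hzV, hVU⟩ := exists_isAffineOpen_mem_and_subset (U := h' ⁻¹ᵁ U) (x := i z) hzU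
  obtain ⟨hW, hs⟩ := RegIdealLib.affine_and_surjective i hV (IsZariskiLocalAtTarget.restrict hu.1.1.1 V)
  exact ⟨_, hW, hzV, bijective_pullback_diffCompat hu hdX hdZ hc hV0 hU hUV hV hVU hW hs⟩

end Groth.Agent.ConormalLib
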