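import Groth.Agent.ConormalLib.Chart

/-!
# The canonical map of conormal sheaves
-/

set_option autoImplicit false
set_option backward.isDefEq.respectTransparency false
set_option backward.defeqAttrib.useBackward true
set_option linter.style.haveILetI false

universe u

open CategoryTheory CategoryTheory.Limits AlgebraicGeometry TopologicalSpace Opposite

namespace Groth.Agent.ConormalLib

variable {X Z X' Z' : Scheme.{u}} (i : Z ⟶ X) (i' : Z' ⟶ X') (g : X ⟶ X') (gZ : Z ⟶ Z')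

/-- The functions on `X'` vanishing on `Z'` pull back to functions vanishing on `Z`. -/
theorem app_app_idealSect (hsq : gZ ≫ i' = i ≫ g) (U' : X'.Opens) (s' : Γ(ClSub.idealMod i'.ker, U')) :
    i.app (g ⁻¹ᵁ U') (g.app U' (OmegaSh.idealSect i'.ker U' s')) = 0 := by
  have h1 : (i ≫ g).app U' = (gZ ≫ i').app U' ≫ Z.presheaf.map (eqToHom (by rw [hsq])).op :=
    Scheme.Hom.congr_app hsq.symm U'
  show ((i ≫ g).app U') _ = 0
  rw [h1, Scheme.Hom.comp_app, CommRingCat.comp_apply, CommRingCat.comp_apply, app_idealSect, map_zero, map_zero]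

/-- The map of ideals induced by a commutative square, with its value on sections. -/
theorem exists_idealMap [QuasiCompact i] (hsq : gZ ≫ i' = i ≫ g) :
    ∃ θ : ClSub.idealMod i'.ker ⟶ (Scheme.Modules.pushforward g).obj (ClSub.idealMod i.ker),
      ∀ (U' : X'.Opens) (s' : Γ(ClSub.idealMod i'.ker, U')),
        OmegaSh.idealSect i.ker (g ⁻¹ᵁ U') (θ.app U' s') = g.app U' (OmegaSh.idealSect i'.ker U' s') := by
  let G := Scheme.Modules.pushforward g
  have h0 : (ClSub.idealModι i'.ker ≫ ClSub.unitToPush g) ≫ G.map (ClSub.toSubscheme i.ker) = 0 := by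
    refine Scheme.Modules.hom_ext _ _ fun U' => ?_
    refine AddCommGrpCat.hom_ext (AddMonoidHom.ext fun s' => ?_)
    obtain ⟨m, hm⟩ := exists_idealSect_eq i (g ⁻¹ᵁ U') _ (app_app_idealSect i i' g gZ hsq U' s')
    show (ClSub.toSubscheme i.ker).app (g ⁻¹ᵁ U') (OmegaSh.strSect X _ (g.app U' (OmegaSh.idealSect i'.ker U' s'))) = 0
    rw [← hm]
    exact congr($(kernel.condition (ClSub.toSubscheme i.ker)).app (g ⁻¹ᵁ U') m)
  refine ⟨kernel.lift _ _ h0 ≫ (PreservesKernel.iso G (ClSub.toSubscheme i.ker)).inv, fun U' s' => ?_⟩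
  have h1 : (kernel.lift _ _ h0 ≫ (PreservesKernel.iso G (ClSub.toSubscheme i.ker)).inv) ≫ G.map (ClSub.idealModι i.ker) =
      ClSub.idealModι i'.ker ≫ ClSub.unitToPush g := by
    rw [Category.assoc]
    refine Eq.trans ?_ (kernel.lift_ι _ _ h0)
    exact congrArg (kernel.lift _ _ h0 ≫ ·) (PreservesKernel.iso_inv_ι G (ClSub.toSubscheme i.ker))
  exact congr($(h1).app U' s')

/-- Maps out of a twice pulled back module. -/
noncomputable def homEquiv₂ (M : X'.Modules) (F : Z.Modules) :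
    ((Scheme.Modules.pullback gZ).obj ((Scheme.Modules.pullback i').obj M) ⟶ F) ≃
      (M ⟶ (Scheme.Modules.pushforward i').obj ((Scheme.Modules.pushforward gZ).obj F)) :=
  ((Scheme.Modules.pullbackPushforwardAdjunction gZ).homEquiv _ F).trans
    ((Scheme.Modules.pullbackPushforwardAdjunction i').homEquiv M _)

theorem homEquiv₂_app (M : X'.Modules) (F : Z.Modules)
    (φ : (Scheme.Modules.pullback gZ).obj ((Scheme.Modules.pullback i').obj M) ⟶ F) (U' : X'.Opens) (m : Γ(M, U')) :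
    (homEquiv₂ i' gZ M F φ).app U' m =
      φ.app (gZ ⁻¹ᵁ (i' ⁻¹ᵁ U')) (OmegaSh.pullSect gZ _ (i' ⁻¹ᵁ U') (OmegaSh.pullSect i' M U' m)) := by
  simp only [homEquiv₂, Equiv.trans_apply, Adjunction.homEquiv_unit]
  rfl

theorem res_mod {M : X.Modules} {U V W : X.Opens} (h : V ≤ U) (h' : W ≤ V) (x : Γ(M, U)) :
    M.presheaf.map (homOfLE h').op (M.presheaf.map (homOfLE h).op x) = M.presheaf.map (homOfLE (h'.trans h)).op x := by
  rw [← ConcreteCategory.comp_apply, ← Functor.map_comp]; rfl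

/-- There is exactly one map of conormal sheaves compatible with a commutative square. -/
theorem existsUnique_conormalMap [QuasiCompact i] (hsq : gZ ≫ i' = i ≫ g) :
    ∃! φ : (Scheme.Modules.pullback gZ).obj (Omega.conormal i') ⟶ Omega.conormal i,
      OmegaSh.IsConormalMap i i' g gZ φ := by
  obtain ⟨θ, hθ⟩ := exists_idealMap i i' g gZ hsq
  let C := Omega.conormal i
  let e := homEquiv₂ i' gZ (ClSub.idealMod i'.ker) C
  let Φ : ClSub.idealMod i'.ker ⟶ (Scheme.Modules.pushforward i').obj ((Scheme.Modules.pushforward gZ).obj C) :=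
    θ ≫ (Scheme.Modules.pushforward g).map ((Scheme.Modules.pullbackPushforwardAdjunction i).unit.app _) ≫
      (Scheme.Modules.pushforwardComp i g).hom.app C ≫ (Scheme.Modules.pushforwardCongr hsq.symm).hom.app C ≫
      (Scheme.Modules.pushforwardComp gZ i').inv.app C
  have hle : ∀ U' : X'.Opens, gZ ⁻¹ᵁ (i' ⁻¹ᵁ U') ≤ i ⁻¹ᵁ (g ⁻¹ᵁ U') := fun U' z hz => by
    show g (i z) ∈ U'
    rw [← Scheme.Hom.comp_apply, ← hsq, Scheme.Hom.comp_apply]
    exact hz
  have hΦ : ∀ (U' : X'.Opens) (s' : Γ(ClSub.idealMod i'.ker, U')),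
      Φ.app U' s' = C.presheaf.map (homOfLE (hle U')).op (OmegaSh.conormalSect i (g ⁻¹ᵁ U') (θ.app U' s')) :=
    fun _ _ => rfl
  have key : ∀ φ, OmegaSh.IsConormalMap i i' g gZ φ ↔ e φ = Φ := fun φ => by
    constructor
    · rintro ⟨-, h⟩
      refine Scheme.Modules.hom_ext _ _ fun U' => ?_
      refine AddCommGrpCat.hom_ext (AddMonoidHom.ext fun s' => ?_)
      refine (homEquiv₂_app i' gZ _ _ φ U' s').trans ?_
      refine Eq.trans ?_ (hΦ U' s').symm
      refine Eq.trans ?_ (h U' s' (θ.app U' s') (hθ U' s') _ le_rfl (hle U'))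
      exact (congr($(C.presheaf.map_id _) _)).symm
    · intro hφ
      refine ⟨hsq, fun U' s' s hs V h₁ h₂ => ?_⟩
      have hs' : s = θ.app U' s' := OmegaAffLib.idealSect_injective i.ker _ (hs.trans (hθ U' s').symm)
      erw [← homEquiv₂_app i' gZ _ _ φ U' s', show homEquiv₂ i' gZ (ClSub.idealMod i'.ker) C φ = Φ from hφ, hΦ, res_mod, ← hs']
  refine ⟨e.symm Φ, (key _).mpr (e.apply_symm_apply Φ), fun φ hφ => e.eq_symm_apply.mpr ((key φ).mp hφ)⟩

/-- The value of the canonical map of conormal sheaves on charts. -/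
theorem conormalMap_apply [QuasiCompact i] {φ : (Scheme.Modules.pullback gZ).obj (Omega.conormal i') ⟶ Omega.conormal i}
    (hφ : OmegaSh.IsConormalMap i i' g gZ φ) {U' : X'.Opens} {U : X.Opens} {W' : Z'.Opens} {W : Z.Opens}
    (hUU' : U ≤ g ⁻¹ᵁ U') (e' : W' ≤ i' ⁻¹ᵁ U') (eZ : W ≤ gZ ⁻¹ᵁ W') (e : W ≤ i ⁻¹ᵁ U)
    (s' : Γ(ClSub.idealMod i'.ker, U')) (s : Γ(ClSub.idealMod i.ker, U))
    (hs : OmegaSh.idealSect i.ker U s = g.appLE U' U hUU' (OmegaSh.idealSect i'.ker U' s')) :
    φ.app W (PullbackMod.pullMap gZ (Omega.conormal i') eZ (PullbackMod.pullMap i' (ClSub.idealMod i'.ker) e' s')) =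
      PullbackMod.pullMap i (ClSub.idealMod i.ker) e s := by
  obtain ⟨θ, hθ⟩ := exists_idealMap i i' g gZ hφ.1
  have hs' : (ClSub.idealMod i.ker).presheaf.map (homOfLE hUU').op (θ.app U' s') = s := by
    refine OmegaAffLib.idealSect_injective i.ker U ?_
    rw [idealSect_res, hθ, hs]
    rfl
  have h := hφ.2 U' s' (θ.app U' s') (hθ U' s') W (eZ.trans (gZ.preimage_mono e')) (e.trans (i.preimage_mono hUU'))
  have e2 : PullbackMod.pullMap gZ (Omega.conormal i') eZ (PullbackMod.pullMap i' (ClSub.idealMod i'.ker) e' s') =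
      ((Scheme.Modules.pullback gZ).obj (Omega.conormal i')).presheaf.map (homOfLE (eZ.trans (gZ.preimage_mono e'))).op
        (OmegaSh.pullSect gZ (Omega.conormal i') (i' ⁻¹ᵁ U') (OmegaSh.conormalSect i' U' s')) := by
    have h1 := PullbackMod.pullMap_res gZ (Omega.conormal i') (W := i' ⁻¹ᵁ U') (W' := gZ ⁻¹ᵁ (i' ⁻¹ᵁ U')) le_rfl
      e' (eZ.trans (gZ.preimage_mono e')) eZ (OmegaSh.conormalSect i' U' s')
    refine Eq.trans ?_ (h1.symm.trans (congrArg _ ?_))
    · rfl
    · exact congr($(((Scheme.Modules.pullback gZ).obj (Omega.conormal i')).presheaf.map_id _) _)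
  rw [e2]
  erw [OmegaUnivLib.hom_natural, h]
  have h3 := PullbackMod.pullMap_res i (ClSub.idealMod i.ker) (W := g ⁻¹ᵁ U') (W' := i ⁻¹ᵁ (g ⁻¹ᵁ U')) le_rfl
    hUU' (e.trans (i.preimage_mono hUU')) e (θ.app U' s')
  rw [hs'] at h3
  refine Eq.trans ?_ h3
  exact congrArg _ (congr($((Omega.conormal i).presheaf.map_id _) _)).symm

end Groth.Agent.ConormalLib
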